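import Mathlib

/-!
# Flat algebras of finite type over valuation rings are finitely presented

The homogenised ideal of relations is generated in each degree, by Nakayama, by lifts of finitely many generators
of its reduction, since each graded piece is a direct summand of a finite free module.
-/

set_option autoImplicit false

noncomputable section

universe u

open MvPolynomial

namespace RzLib

variable {O : Type u} [CommRing O] [IsDomain O] [ValuationRing O]

/-- Among finitely many elements of a valuation ring, not none, one divides all. -/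
theorem exists_dvd_all {α : Type*} (f : α → O) {s : Finset α} (hs : s.Nonempty) :
    ∃ a ∈ s, ∀ b ∈ s, f a ∣ f b := by
  classical
  induction hs using Finset.Nonempty.cons_induction with
  | singleton a => exact ⟨a, Finset.mem_singleton_self a, fun b hb => by rw [Finset.mem_singleton.1 hb]⟩
  | cons a s _ _ ih =>
    obtain ⟨a', ha', h⟩ := ih
    rcases ValuationRing.dvd_total (f a) (f a') with hd | hd
    · refine ⟨a, Finset.mem_cons_self a s, fun b hb => ?_⟩
      rcases Finset.mem_cons.1 hb with rfl | hb
      · exact dvd_rfl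
      · exact hd.trans (h b hb)
    · refine ⟨a', Finset.mem_cons_of_mem ha', fun b hb => ?_⟩
      rcases Finset.mem_cons.1 hb with rfl | hb
      · exact hd
      · exact h b hb

omit [IsDomain O] [ValuationRing O] in
theorem homogeneousComponent_mul_mem {σ : Type u} (q G : MvPolynomial σ O) {e : ℕ} (hG : G.IsHomogeneous e)
    (d : ℕ) : homogeneousComponent d (q * G) ∈ Ideal.span {G} := by
  classical
  conv => enter [2, 2]; rw [← sum_homogeneousComponent (φ := q), Finset.sum_mul]
  rw [map_sum]
  refine Ideal.sum_mem _ fun j _ => ?_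
  rw [homogeneousComponent_of_mem ((homogeneousComponent_isHomogeneous j q).mul hG)]
  split_ifs
  · exact Ideal.mul_mem_left _ _ (Ideal.mem_span_singleton_self G)
  · exact zero_mem _

omit [IsDomain O] [ValuationRing O] in
theorem exists_homogenize {σ : Type u} (g : MvPolynomial σ O) :
    ∃ (d : ℕ) (G : MvPolynomial (Option σ) O), G.IsHomogeneous d ∧
      aeval (fun o : Option σ => o.elim 1 X) G = g := by
  classical
  refine ⟨g.totalDegree, ∑ s ∈ g.support,
    C (g.coeff s) * X none ^ (g.totalDegree - s.degree) * rename some (monomial s 1), ?_, ?_⟩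
  · refine IsHomogeneous.sum _ _ _ fun s hs => ?_
    have hle : s.degree ≤ g.totalDegree := le_totalDegree hs
    have h := (((isHomogeneous_X_pow (R := O) (none : Option σ) (g.totalDegree - s.degree)).C_mul (g.coeff s)).mul
      ((isHomogeneous_monomial (1 : O) (d := s) rfl).rename_isHomogeneous (f := some)))
    rwa [Nat.sub_add_cancel hle] at h
  · rw [map_sum]
    conv_rhs => rw [g.as_sum]
    refine Finset.sum_congr rfl fun s _ => ?_
    have h1 : (aeval fun o : Option σ => o.elim (1 : MvPolynomial σ O) X) (rename some (monomial s (1 : O))) =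
        monomial s 1 := by
      rw [aeval_rename]
      exact aeval_X_left_apply _
    rw [map_mul, map_mul, map_pow, aeval_X, aeval_C, h1, Option.elim, one_pow, mul_one, algebraMap_eq,
      C_mul_monomial, mul_one]

/-- An ideal of a polynomial ring over a valuation ring with torsion free quotient is finitely generated. -/
theorem fg_of_saturated {σ : Type u} [Finite σ] (I : Ideal (MvPolynomial σ O))
    (hsat : ∀ (c : O) (g : MvPolynomial σ O), c ≠ 0 → C c * g ∈ I → g ∈ I) : I.FG := by
  classical
  let k := IsLocalRing.ResidueField O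
  let deh : MvPolynomial (Option σ) O →ₐ[O] MvPolynomial σ O := aeval (fun o => o.elim 1 X)
  let r : MvPolynomial (Option σ) O →+* MvPolynomial (Option σ) k := MvPolynomial.map (IsLocalRing.residue O)
  let N : ℕ → Submodule O (MvPolynomial (Option σ) O) := fun d =>
    homogeneousSubmodule (Option σ) O d ⊓ (I.restrictScalars O).comap deh.toLinearMap
  have hN : ∀ {d : ℕ} {G : MvPolynomial (Option σ) O}, G ∈ N d ↔ G.IsHomogeneous d ∧ deh G ∈ I := Iff.rfl
  -- each graded piece is finitely generated
  have hfg : ∀ d, (N d).FG := fun d => by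
    let M := homogeneousSubmodule (Option σ) O d
    haveI : Module.Finite O M := Module.Finite.iff_fg.2 (homogeneousSubmodule_fg (Option σ) O d)
    haveI : Module.Free O M := by
      haveI : Module.Flat O M := Module.Flat.flat_iff_torsion_eq_bot_of_isBezout.2
        (by
          rw [eq_bot_iff]
          rintro ⟨x, hx⟩ ⟨⟨a, ha⟩, hax⟩
          have h1 : a • x = 0 := congrArg Subtype.val hax
          exact (Submodule.mem_bot O).2 (Subtype.ext ((smul_eq_zero.1 h1).resolve_left (nonZeroDivisors.ne_zero ha))))
      exact Module.free_of_flat_of_isLocalRing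
    let K : Submodule O M := (N d).comap M.subtype
    haveI : Module.Flat O (M ⧸ K) := Module.Flat.flat_iff_torsion_eq_bot_of_isBezout.2 (by
      rw [eq_bot_iff]
      intro z hz
      obtain ⟨x, rfl⟩ := Submodule.Quotient.mk_surjective K z
      obtain ⟨⟨a, ha⟩, hax⟩ := hz
      have hax' : a • x ∈ K := (Submodule.Quotient.mk_eq_zero K).1 hax
      refine (Submodule.Quotient.mk_eq_zero K).2 (hN.2 ⟨x.2, ?_⟩)
      refine hsat a _ (nonZeroDivisors.ne_zero ha) ?_
      rw [← algebraMap_eq, ← Algebra.smul_def, ← map_smul]
      exact (hN.1 hax').2)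
    haveI : Module.Free O (M ⧸ K) := Module.free_of_flat_of_isLocalRing
    have hK : K.FG := by
      obtain ⟨s, hs⟩ := Module.projective_lifting_property K.mkQ LinearMap.id K.mkQ_surjective
      have : LinearMap.range (LinearMap.id - s ∘ₗ K.mkQ) = K := by
        refine le_antisymm ?_ fun x hx => ⟨x, ?_⟩
        · rintro _ ⟨x, rfl⟩
          refine (Submodule.Quotient.mk_eq_zero K).1 ?_
          show K.mkQ _ = 0
          have h1 : K.mkQ (s (K.mkQ x)) = K.mkQ x := LinearMap.congr_fun hs (K.mkQ x)
          rw [LinearMap.sub_apply, map_sub, LinearMap.id_apply, LinearMap.comp_apply, h1, sub_self]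
        · have : K.mkQ x = 0 := (Submodule.Quotient.mk_eq_zero K).2 hx
          simp [this]
      exact this ▸ Submodule.fg_range _
    have : K.map M.subtype = N d := by
      rw [Submodule.map_comap_eq, Submodule.range_subtype]
      exact inf_eq_right.2 inf_le_left
    exact this ▸ hK.map M.subtype
  -- finitely many generators of the reduction
  let T : Set (MvPolynomial (Option σ) k) := {z | ∃ (d : ℕ) (G : MvPolynomial (Option σ) O), G ∈ N d ∧ r G = z}
  obtain ⟨t, htT, ht⟩ := (Submodule.fg_span_iff_fg_span_finset_subset (R := MvPolynomial (Option σ) k) T).1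
    (IsNoetherian.noetherian _)
  have hlift : ∀ z : t, ∃ (d : ℕ) (G : MvPolynomial (Option σ) O), G ∈ N d ∧ r G = z.1 := fun z => htT z.2
  choose e Gt hGt hGr using hlift
  let L : Ideal (MvPolynomial σ O) := Ideal.span (Set.range fun z : t => deh (Gt z))
  have hLI : L ≤ I := Ideal.span_le.2 (by rintro _ ⟨z, rfl⟩; exact (hN.1 (hGt z)).2)
  have key : ∀ d, N d ≤ homogeneousSubmodule (Option σ) O d ⊓ (L.restrictScalars O).comap deh.toLinearMap := by
    intro d
    refine Submodule.le_of_le_smul_of_le_jacobson_bot (I := IsLocalRing.maximalIdeal O) (hfg d)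
      (IsLocalRing.maximalIdeal_le_jacobson _) fun G hG => ?_
    have hrG : r G ∈ Ideal.span (Set.range fun z : t => r (Gt z)) := by
      have : r G ∈ Ideal.span T := Ideal.subset_span ⟨d, G, hG, rfl⟩
      rw [Ideal.span, ht] at this
      convert this using 2
      ext w
      exact ⟨by rintro ⟨z, rfl⟩; show r (Gt z) ∈ (t : Set _); rw [hGr z]; exact z.2, fun hw => ⟨⟨w, hw⟩, hGr ⟨w, hw⟩⟩⟩
    obtain ⟨q, hq⟩ := Ideal.mem_span_range_iff_exists_fun.1 hrG
    choose q' hq' using fun z : t => MvPolynomial.map_surjective (IsLocalRing.residue O) Ideal.Quotient.mk_surjective (q z)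
    let H := homogeneousComponent d (∑ z : t, q' z * Gt z)
    have hH : H.IsHomogeneous d := homogeneousComponent_isHomogeneous d _
    have hHL : deh H ∈ L := by
      show deh (homogeneousComponent d _) ∈ L
      rw [map_sum, map_sum]
      refine Ideal.sum_mem _ fun z _ => ?_
      obtain ⟨w, hw⟩ := Ideal.mem_span_singleton'.1 (homogeneousComponent_mul_mem (q' z) (Gt z) (hN.1 (hGt z)).1 d)
      rw [← hw, map_mul]
      exact Ideal.mul_mem_left _ _ (Ideal.subset_span ⟨z, rfl⟩)
    have hD : G - H ∈ N d := hN.2 ⟨(hN.1 hG).1.sub hH, by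
      rw [map_sub]; exact sub_mem (hN.1 hG).2 (hLI hHL)⟩
    have hrD : ∀ s, (G - H).coeff s ∈ IsLocalRing.maximalIdeal O := fun s => by
      rw [← Ideal.Quotient.eq_zero_iff_mem]
      show IsLocalRing.residue O _ = 0
      rw [coeff_sub, map_sub, sub_eq_zero]
      have h1 : r (∑ z : t, q' z * Gt z) = r G := by
        rw [map_sum, ← hq]
        refine Finset.sum_congr rfl fun z _ => ?_
        rw [map_mul]
        exact congrArg (· * r (Gt z)) (hq' z)
      have h2 := congrArg (coeff s) h1
      simp only [r, coeff_map] at h2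
      show _ = IsLocalRing.residue O (coeff s (homogeneousComponent d _))
      rw [coeff_homogeneousComponent]
      split_ifs with hs
      · exact h2.symm
      · rw [(hN.1 hG).1.coeff_eq_zero hs]
    refine Submodule.mem_sup.2 ⟨H, ⟨hH, hHL⟩, G - H, ?_, by abel⟩
    by_cases h0 : G - H = 0
    · rw [h0]; exact zero_mem _
    obtain ⟨s₀, hs₀, hdiv⟩ := exists_dvd_all (fun s => (G - H).coeff s) (s := (G - H).support) (by
      rwa [Finset.nonempty_iff_ne_empty, ne_eq, support_eq_empty])
    obtain ⟨c, hc⟩ : ∃ c, (G - H).coeff s₀ = c := ⟨_, rfl⟩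
    simp only [hc] at hdiv
    obtain ⟨D, hD'⟩ : C c ∣ G - H := by
      refine (C_dvd_iff_dvd_coeff c _).2 fun s => ?_
      by_cases hs : s ∈ (G - H).support
      · exact hdiv s hs
      · rw [notMem_support_iff.1 hs]; exact dvd_zero _
    have hc0 : c ≠ 0 := hc ▸ mem_support_iff.1 hs₀
    have hDN : D ∈ N d := by
      refine hN.2 ⟨fun s hs => (hN.1 hD).1 ?_, hsat c _ hc0 ?_⟩
      · rw [hD', coeff_C_mul]; exact mul_ne_zero hc0 hs
      · have := (hN.1 hD).2
        rwa [hD', map_mul, ← algebraMap_eq, AlgHom.commutes, algebraMap_eq] at this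
    rw [hD', C_mul']
    exact Submodule.smul_mem_smul (hc ▸ hrD s₀) hDN
  refine ⟨Finset.univ.image fun z : t => deh (Gt z), le_antisymm ?_ fun g hg => ?_⟩
  · refine Ideal.span_le.2 ?_
    rw [Finset.coe_image]
    rintro _ ⟨z, -, rfl⟩
    exact (hN.1 (hGt z)).2
  · rw [Finset.coe_image, Finset.coe_univ, Set.image_univ]
    obtain ⟨d, G, hG, rfl⟩ := exists_homogenize g
    exact (key d (hN.2 ⟨hG, hg⟩)).2

/-- A torsion free algebra of finite type over a valuation ring is finitely presented. -/
theorem finitePresentation_of_torsionFree {S : Type u} [CommRing S] [Algebra O S] [Algebra.FiniteType O S]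
    (h : ∀ (c : O) (s : S), c ≠ 0 → c • s = 0 → s = 0) : Algebra.FinitePresentation O S := by
  obtain ⟨n, π, hπ⟩ := Algebra.FiniteType.iff_quotient_mvPolynomial''.1 (inferInstance : Algebra.FiniteType O S)
  let e : ULift.{u} (Fin n) ≃ Fin n := Equiv.ulift
  let π' : MvPolynomial (ULift.{u} (Fin n)) O →ₐ[O] S := π.comp (rename e)
  have hπ' : Function.Surjective π' := hπ.comp (rename_surjective _ e.surjective)
  refine Algebra.FinitePresentation.of_surjective hπ' (fg_of_saturated _ fun c g hc hg => ?_)
  rw [RingHom.mem_ker] at hg ⊢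
  refine h c _ hc ?_
  show c • π' g = 0
  rw [← map_smul, ← C_mul']
  exact hg

/-- A flat algebra of finite type over a valuation ring is finitely presented. -/
theorem finitePresentation_of_flat {S : Type u} [CommRing S] [Algebra O S] [Algebra.FiniteType O S]
    [Module.Flat O S] : Algebra.FinitePresentation O S :=
  finitePresentation_of_torsionFree fun c s hc hs =>
    (Module.Flat.isSMulRegular_of_nonZeroDivisors (M := S) (mem_nonZeroDivisors_of_ne_zero hc))
      (hs.trans (smul_zero c).symm)

end RzLib
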