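import Mathlib
import Groth.Prelude.Def_FlatCA
import Groth.Agent.RichLib.FlatColimit
import Groth.Agent.RzLib.FlatFP

/-!
# Universal openness of finitely presented algebras by valuation rings, and its descent to a stage

`Good R φ`: after any base change to a valuation ring, the torsion vanishes on the closed fibre, i.e. the
closed fibre lies in the closure of the generic fibre.
-/

set_option autoImplicit false

universe u

open TensorProduct

noncomputable section

namespace RzLib.UnivOpen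

/-- Every point of the closed fibre over a valuation ring over `G` is killed by all torsion elements. -/
def Good {A₀ : Type u} [CommRing A₀] (R : Type u) [CommRing R] [Algebra A₀ R] {G : Type u} [CommRing G]
    (φ : A₀ →+* G) : Prop :=
  ∀ (V : Type u) [CommRing V] [IsDomain V] [ValuationRing V] [Algebra A₀ V] (ψ : G →+* V),
    ψ.comp φ = algebraMap A₀ V → ∀ x : Ideal (V ⊗[A₀] R), x.IsPrime →
      (∀ c : V, ¬IsUnit c → algebraMap V (V ⊗[A₀] R) c ∈ x) →
        ∀ (c : V) (b : V ⊗[A₀] R), c ≠ 0 → c • b = 0 → b ∈ x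

theorem Good.comp {A₀ : Type u} [CommRing A₀] {R : Type u} [CommRing R] [Algebra A₀ R] {G H : Type u}
    [CommRing G] [CommRing H] {φ : A₀ →+* G} (h : Good R φ) (g : G →+* H) : Good R (g.comp φ) := by
  intro V _ _ _ _ ψ hψ x hx hm c b hc hb
  exact h V (ψ.comp g) hψ x hx hm c b hc hb

section GoingDown

variable {A₀ : Type u} [CommRing A₀] (R : Type u) [CommRing R] [Algebra A₀ R]
  (A' : Type u) [CommRing A'] [Algebra A₀ A']

/-- `Good` gives going down for the base change. -/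
theorem hasGoingDown_of_good (h : Good R (algebraMap A₀ A')) :
    Algebra.HasGoingDown A' (A' ⊗[A₀] R) := by
  refine ⟨fun {p} _ Q _ hlt => ?_⟩
  let q₀ := Q.under A'
  let K := FractionRing (A' ⧸ p)
  let f₀ : A' →+* K := (algebraMap (A' ⧸ p) K).comp (Ideal.Quotient.mk p)
  have hf₀ : ∀ a : A', f₀ a = 0 ↔ a ∈ p := fun a => by
    simp only [f₀, RingHom.comp_apply, map_eq_zero_iff _ (IsFractionRing.injective (A' ⧸ p) K),
      Ideal.Quotient.eq_zero_iff_mem]
  have hu : ∀ y : q₀.primeCompl, IsUnit (f₀ y) := fun y => by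
    rw [isUnit_iff_ne_zero, Ne, hf₀]
    exact fun hy => y.2 (hlt.le hy)
  let fl : Localization.AtPrime q₀ →+* K := IsLocalization.lift hu
  obtain ⟨V, hV, hloc⟩ := IsLocalRing.exists_factor_valuationRing fl
  let ψ : A' →+* V := (fl.codRestrict V.toSubring hV).comp (algebraMap A' (Localization.AtPrime q₀))
  have hψval : ∀ a, (ψ a : K) = f₀ a := fun a => IsLocalization.lift_eq hu a
  have hψu : ∀ a : A', IsUnit (ψ a) → a ∉ q₀ := fun a ha hm => by
    have h1 : IsUnit (algebraMap A' (Localization.AtPrime q₀) a) := hloc.map_nonunit _ ha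
    exact (IsLocalization.AtPrime.isUnit_to_map_iff (Localization.AtPrime q₀) q₀ a).mp h1 hm
  have hψu' : ∀ a : A', a ∉ q₀ → IsUnit (ψ a) := fun a ha =>
    ((IsLocalization.AtPrime.isUnit_to_map_iff (Localization.AtPrime q₀) q₀ a).mpr ha).map
      (fl.codRestrict V.toSubring hV)
  letI : Algebra A' V := ψ.toAlgebra
  letI : Algebra A₀ V := (ψ.comp (algebraMap A₀ A')).toAlgebra
  haveI : IsScalarTower A₀ A' V := IsScalarTower.of_algebraMap_eq fun _ => rfl
  have hpt : PrimeSpectrum.comap (algebraMap A' V) (IsLocalRing.closedPoint V) =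
      PrimeSpectrum.comap (algebraMap A' (A' ⊗[A₀] R)) ⟨Q, inferInstance⟩ := by
    ext a
    show ψ a ∈ IsLocalRing.maximalIdeal V ↔ a ∈ q₀
    rw [IsLocalRing.mem_maximalIdeal, mem_nonunits_iff]
    exact ⟨fun ha => by_contra fun hq => ha (hψu' a hq), fun ha hu' => hψu a hu' ha⟩
  have sq := AlgebraicGeometry.isPullback_SpecMap_of_isPushout _ _ _ _
    (CommRingCat.isPushout_tensorProduct A' V (A' ⊗[A₀] R))
  obtain ⟨z, hz₁, hz₂⟩ :=
    AlgebraicGeometry.Scheme.exists_preimage_of_isPullback sq (IsLocalRing.closedPoint V) ⟨Q, inferInstance⟩ hpt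
  let e : V ⊗[A'] (A' ⊗[A₀] R) ≃ₐ[V] V ⊗[A₀] R := Algebra.TensorProduct.cancelBaseChange A₀ A' V V R
  have hgood : ∀ (c : V) (b : V ⊗[A'] (A' ⊗[A₀] R)), c ≠ 0 → c • b = 0 → b ∈ z.asIdeal := by
    intro c b hc hb
    have key := h V ψ rfl (z.asIdeal.comap e.symm.toRingEquiv.toRingHom) (Ideal.comap_isPrime _ _)
      (fun d hd => by
        show e.symm (algebraMap V (V ⊗[A₀] R) d) ∈ z.asIdeal
        rw [AlgEquiv.commutes]
        show d ∈ (PrimeSpectrum.comap (algebraMap V (V ⊗[A'] (A' ⊗[A₀] R))) z).asIdeal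
        rw [show PrimeSpectrum.comap (algebraMap V (V ⊗[A'] (A' ⊗[A₀] R))) z = IsLocalRing.closedPoint V from hz₁]
        exact hd)
      c (e b) hc (by rw [← map_smul, hb, map_zero])
    have : e.symm (e b) ∈ z.asIdeal := key
    rwa [AlgEquiv.symm_apply_apply] at this
  let W := V ⊗[A'] (A' ⊗[A₀] R)
  let S : Submonoid W :=
    { carrier := {w | ∃ (c : V) (r : W), c ≠ 0 ∧ r ∉ z.asIdeal ∧ w = c • r}
      one_mem' := ⟨1, 1, one_ne_zero, z.2.one_notMem, (one_smul _ _).symm⟩
      mul_mem' := by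
        rintro _ _ ⟨c, r, hc, hr, rfl⟩ ⟨c', r', hc', hr', rfl⟩
        exact ⟨c * c', r * r', mul_ne_zero hc hc', fun hm => (z.2.mem_or_mem hm).elim hr hr',
          smul_mul_smul_comm c r c' r'⟩ }
  obtain ⟨q, hq, -, hdis⟩ := Ideal.exists_le_prime_disjoint (⊥ : Ideal W) S (by
    rw [Set.disjoint_left]
    rintro w hw ⟨c, r, hc, hr, rfl⟩
    exact hr (hgood c r hc hw))
  refine ⟨q.comap (Algebra.TensorProduct.includeRight : _ →ₐ[A'] W).toRingHom, fun b hb => ?_,
    Ideal.comap_isPrime _ _, ⟨?_⟩⟩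
  · by_contra hbQ
    have hbz : (1 : V) ⊗ₜ[A'] b ∉ z.asIdeal := fun hm =>
      hbQ (show b ∈ (⟨Q, inferInstance⟩ : PrimeSpectrum (A' ⊗[A₀] R)).asIdeal by rw [← hz₂]; exact hm)
    exact Set.disjoint_left.mp hdis hb ⟨1, _, one_ne_zero, hbz, (one_smul _ _).symm⟩
  · ext a
    show a ∈ p ↔ (1 : V) ⊗ₜ[A'] algebraMap A' (A' ⊗[A₀] R) a ∈ q
    have h1 : (1 : V) ⊗ₜ[A'] algebraMap A' (A' ⊗[A₀] R) a = algebraMap V W (ψ a) :=
      ((Algebra.TensorProduct.includeRight : (A' ⊗[A₀] R) →ₐ[A'] W).commutes a).trans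
        (IsScalarTower.algebraMap_apply A' V W a)
    rw [h1, ← hf₀, ← hψval]
    refine ⟨fun h0 => ?_, fun hm => by_contra fun h0 => ?_⟩
    · rw [show ψ a = 0 from Subtype.ext h0, map_zero]
      exact q.zero_mem
    · exact Set.disjoint_left.mp hdis hm
        ⟨ψ a, 1, fun h00 => h0 (by rw [h00]; rfl), z.2.one_notMem, Algebra.algebraMap_eq_smul_one _⟩

end GoingDown

section Ultra

variable {ι : Type u} (V : ι → Type u) [∀ i, CommRing (V i)] (U : Ultrafilter ι)

/-- The functions vanishing on a member of the ultrafilter. -/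
def nullIdeal : Ideal (∀ i, V i) where
  carrier := {f | ∀ᶠ i in (U : Filter ι), f i = 0}
  add_mem' {f g} hf hg := by
    filter_upwards [hf, hg] with i h1 h2
    simp [h1, h2]
  zero_mem' := Filter.Eventually.of_forall fun i => rfl
  smul_mem' c f hf := by
    filter_upwards [hf] with i h1
    simp [h1]

theorem mem_nullIdeal {f : ∀ i, V i} : f ∈ nullIdeal V U ↔ ∀ᶠ i in (U : Filter ι), f i = 0 := Iff.rfl

variable [∀ i, IsDomain (V i)]

theorem isPrime_nullIdeal : (nullIdeal V U).IsPrime := by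
  refine ⟨fun h => ?_, fun {f g} hfg => ?_⟩
  · obtain ⟨i, hi⟩ := ((mem_nullIdeal V U).mp (h ▸ Submodule.mem_top (x := (1 : ∀ i, V i)))).exists
    exact one_ne_zero hi
  · have h1 : ∀ᶠ i in (U : Filter ι), f i = 0 ∨ g i = 0 := by
      filter_upwards [hfg] with i hi
      exact mul_eq_zero.mp hi
    exact Ultrafilter.eventually_or.mp h1

instance : IsDomain ((∀ i, V i) ⧸ nullIdeal V U) := by
  haveI := isPrime_nullIdeal V U
  exact Ideal.Quotient.isDomain _

theorem mk_eq_mk {f g : ∀ i, V i} : Ideal.Quotient.mk (nullIdeal V U) f = Ideal.Quotient.mk _ g ↔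
    ∀ᶠ i in (U : Filter ι), f i = g i := by
  simp only [Ideal.Quotient.eq, mem_nullIdeal, Pi.sub_apply, sub_eq_zero]

instance [∀ i, ValuationRing (V i)] : ValuationRing ((∀ i, V i) ⧸ nullIdeal V U) := by
  classical
  refine ValuationRing.iff_dvd_total.mpr ⟨fun a b => ?_⟩
  obtain ⟨a, rfl⟩ := Ideal.Quotient.mk_surjective a
  obtain ⟨b, rfl⟩ := Ideal.Quotient.mk_surjective b
  have key : ∀ (s t : ∀ i, V i), (∀ᶠ i in (U : Filter ι), s i ∣ t i) →
      Ideal.Quotient.mk (nullIdeal V U) s ∣ Ideal.Quotient.mk _ t := fun s t h => by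
    refine ⟨Ideal.Quotient.mk _ fun i => if hi : s i ∣ t i then hi.choose else 0, ?_⟩
    rw [← map_mul, mk_eq_mk]
    filter_upwards [h] with i hi
    simp [dif_pos hi, ← hi.choose_spec]
  have h : ∀ᶠ i in (U : Filter ι), a i ∣ b i ∨ b i ∣ a i :=
    Filter.Eventually.of_forall fun i => (ValuationRing.dvd_total (a i) (b i))
  exact (Ultrafilter.eventually_or.mp h).imp (key a b) (key b a)

/-- restriction of functions to a member of the ultrafilter -/
def resTo (s : Set ι) : (∀ i, V i) →+* (∀ i : s, V i) := Pi.ringHom fun i : s => Pi.evalRingHom V i.1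

open Classical in
/-- a member of the ultrafilter maps to the ultraproduct -/
def ofStage (s : Set ι) (hs : s ∈ U) : (∀ i : s, V i) →+* (∀ i, V i) ⧸ nullIdeal V U where
  toFun f := Ideal.Quotient.mk _ fun i => if h : i ∈ s then f ⟨i, h⟩ else 0
  map_one' := by
    rw [← map_one (Ideal.Quotient.mk (nullIdeal V U)), mk_eq_mk]
    filter_upwards [hs] with i hi
    simp [dif_pos hi]
  map_mul' f g := by
    rw [← map_mul, mk_eq_mk]
    filter_upwards [hs] with i hi
    simp [dif_pos hi]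
  map_zero' := by
    rw [← map_zero (Ideal.Quotient.mk (nullIdeal V U)), mk_eq_mk]
    filter_upwards [hs] with i hi
    simp [dif_pos hi]
  map_add' f g := by
    rw [← map_add, mk_eq_mk]
    filter_upwards [hs] with i hi
    simp [dif_pos hi]

open Classical in
theorem ofStage_resTo (s : Set ι) (hs : s ∈ U) (f : ∀ i, V i) :
    ofStage V U s hs (resTo V s f) = Ideal.Quotient.mk _ f := by
  show Ideal.Quotient.mk _ _ = _
  rw [mk_eq_mk]
  filter_upwards [hs] with i hi
  simp only [dif_pos hi]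
  rfl

/-- flatness over the ultraproduct is attained on a member of the ultrafilter -/
theorem eventually_flat {B : Type u} [CommRing B] [Algebra (∀ i, V i) B]
    [Algebra.FinitePresentation (∀ i, V i) B]
    (h : Module.Flat ((∀ i, V i) ⧸ nullIdeal V U) (((∀ i, V i) ⧸ nullIdeal V U) ⊗[∀ i, V i] B)) :
    ∀ᶠ i in (U : Filter ι), letI : Algebra (∀ j, V j) (V i) := (Pi.evalRingHom V i).toAlgebra
      Module.Flat (V i) (V i ⊗[∀ j, V j] B) := by
  classical
  let κ : Type u := {s : Set ι // s ∈ U}ᵒᵈ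
  let G : κ → Type u := fun s => ∀ i : (OrderDual.ofDual s).1, V i
  letI : ∀ s : κ, CommRing (G s) := fun s => inferInstanceAs (CommRing (∀ i : (OrderDual.ofDual s).1, V i))
  letI aG : ∀ s : κ, Algebra (∀ i, V i) (G s) := fun s => (resTo V (OrderDual.ofDual s).1).toAlgebra
  letI aV : ∀ s : κ, Algebra (G s) ((∀ i, V i) ⧸ nullIdeal V U) := fun s =>
    (ofStage V U (OrderDual.ofDual s).1 (OrderDual.ofDual s).2).toAlgebra
  haveI : ∀ s : κ, IsScalarTower (∀ i, V i) (G s) ((∀ i, V i) ⧸ nullIdeal V U) := fun s =>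
    IsScalarTower.of_algebraMap_eq fun f => (ofStage_resTo V U _ _ f).symm
  let g : ∀ s t : κ, s ≤ t → G s →ₐ[∀ i, V i] G t := fun s t h =>
    { toFun := fun f i => f ⟨i.1, h i.2⟩
      map_one' := rfl
      map_mul' := fun _ _ => rfl
      map_zero' := rfl
      map_add' := fun _ _ => rfl
      commutes' := fun _ => rfl }
  have hc : FlatCA.IsDirectedColimitRing G (fun s t h => (g s t h).toRingHom)
      ((∀ i, V i) ⧸ nullIdeal V U) := by
    refine ⟨⟨fun s t => ⟨OrderDual.toDual ⟨(OrderDual.ofDual s).1 ∩ (OrderDual.ofDual t).1,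
        Filter.inter_mem (OrderDual.ofDual s).2 (OrderDual.ofDual t).2⟩,
        Set.inter_subset_left, Set.inter_subset_right⟩⟩, ⟨OrderDual.toDual ⟨Set.univ, Filter.univ_mem⟩⟩,
      fun s => rfl, fun _ _ _ _ _ => rfl, fun s t h => RingHom.ext fun f => ?_, fun a => ?_, fun s f hf => ?_⟩
    · show Ideal.Quotient.mk _ _ = Ideal.Quotient.mk _ _
      rw [mk_eq_mk]
      filter_upwards [(OrderDual.ofDual t).2] with i hi
      have hi' : i ∈ (OrderDual.ofDual s).1 := h hi
      simp [dif_pos hi, dif_pos hi', g]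
    · obtain ⟨a, rfl⟩ := Ideal.Quotient.mk_surjective a
      exact ⟨OrderDual.toDual ⟨Set.univ, Filter.univ_mem⟩, resTo V Set.univ a, ofStage_resTo V U _ _ a⟩
    · have hf' : ∀ᶠ i in (U : Filter ι), (fun i => if hi : i ∈ (OrderDual.ofDual s).1 then f ⟨i, hi⟩ else 0) i = 0 :=
        (mem_nullIdeal V U).mp (Ideal.Quotient.eq_zero_iff_mem.mp hf)
      refine ⟨OrderDual.toDual ⟨{i | ∃ hi : i ∈ (OrderDual.ofDual s).1, f ⟨i, hi⟩ = 0}, ?_⟩,
        fun i hi => hi.1, funext fun i => i.2.2⟩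
      filter_upwards [hf', (OrderDual.ofDual s).2] with i h1 h2
      exact ⟨h2, by simpa [dif_pos h2] using h1⟩
  obtain ⟨s, hs⟩ := (RichLib.FlatColimit.flat_iff_exists_stage (B₀ := B) G g _ hc B).mp h
  filter_upwards [(OrderDual.ofDual s).2] with i hi
  letI : Algebra (∀ j, V j) (V i) := (Pi.evalRingHom V i).toAlgebra
  letI : Algebra (G s) (V i) := (Pi.evalRingHom (fun j : (OrderDual.ofDual s).1 => V j) ⟨i, hi⟩).toAlgebra
  haveI : IsScalarTower (∀ j, V j) (G s) (V i) := IsScalarTower.of_algebraMap_eq fun f => rfl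
  exact Module.Flat.of_linearEquiv
    (AlgebraTensorModule.cancelBaseChange (∀ j, V j) (G s) (V i) (V i) B).symm

end Ultra

/-- Surjectivity and kernel of a base changed surjection. -/
theorem surj_bc {P W S T : Type u} [CommRing P] [CommRing W] [CommRing S] [CommRing T] [Algebra P W]
    [Algebra P S] [Algebra P T] (f : S →ₐ[P] T) (hf : Function.Surjective f) :
    Function.Surjective (Algebra.TensorProduct.map (AlgHom.id W W) f) ∧
      RingHom.ker (Algebra.TensorProduct.map (AlgHom.id W W) f) =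
        (RingHom.ker f).map (Algebra.TensorProduct.includeRight : S →ₐ[P] W ⊗[P] S) := by
  refine ⟨fun z => ?_, ?_⟩
  · induction z using TensorProduct.induction_on with
    | zero => exact ⟨0, map_zero _⟩
    | tmul a t =>
      obtain ⟨s, rfl⟩ := hf t
      exact ⟨a ⊗ₜ s, rfl⟩
    | add x y hx hy =>
      obtain ⟨x, rfl⟩ := hx
      obtain ⟨y, rfl⟩ := hy
      exact ⟨x + y, map_add _ x y⟩
  · rw [← Algebra.TensorProduct.lTensor_ker (R := P) (A := W) f hf]
    rfl

/-- A base changed surjection, read through an equivalence of the source. -/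
theorem quot_bc {P W S T S' : Type u} [CommRing P] [CommRing W] [CommRing S] [CommRing T] [CommRing S']
    [Algebra P W] [Algebra P S] [Algebra P T] [Algebra W S'] (f : S →ₐ[P] T) (hf : Function.Surjective f)
    (e : W ⊗[P] S ≃ₐ[W] S') (ι : S →+* S') (hι : ∀ x, e ((1 : W) ⊗ₜ[P] x) = ι x) :
    ∃ θ : S' →ₐ[W] W ⊗[P] T, Function.Surjective θ ∧ RingHom.ker θ = (RingHom.ker f).map ι := by
  obtain ⟨hm, hker⟩ := surj_bc (W := W) f hf
  refine ⟨(Algebra.TensorProduct.map (AlgHom.id W W) f).comp e.symm.toAlgHom, hm.comp e.symm.surjective, ?_⟩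
  have hk : RingHom.ker ((Algebra.TensorProduct.map (AlgHom.id W W) f).comp e.symm.toAlgHom) =
      (RingHom.ker (Algebra.TensorProduct.map (AlgHom.id W W) f)).map e.toRingEquiv := by
    ext x
    rw [← Ideal.comap_symm, Ideal.mem_comap, RingHom.mem_ker, RingHom.mem_ker]
    rfl
  rw [hk, hker]
  refine (Ideal.map_map (Algebra.TensorProduct.includeRight : S →ₐ[P] W ⊗[P] S).toRingHom
    e.toRingEquiv.toRingHom).trans (congrArg (fun g : S →+* S' => (RingHom.ker f).map g) ?_)
  exact RingHom.ext hι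

section Limit

variable {A₀ : Type u} [CommRing A₀] {R : Type u} [CommRing R] [Algebra A₀ R]

/-- The torsion of a tensor product over a domain. -/
def torsIdeal (V : Type u) [CommRing V] [IsDomain V] [Algebra A₀ V] : Ideal (V ⊗[A₀] R) where
  carrier := {b | ∃ c : V, c ≠ 0 ∧ c • b = 0}
  add_mem' := by
    rintro a b ⟨c, hc, ha⟩ ⟨d, hd, hb⟩
    refine ⟨c * d, mul_ne_zero hc hd, ?_⟩
    rw [smul_add, mul_comm, mul_smul, ha, smul_zero, zero_add, mul_comm, mul_smul, hb, smul_zero]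
  zero_mem' := ⟨1, one_ne_zero, smul_zero _⟩
  smul_mem' := by
    rintro r b ⟨c, hc, hb⟩
    exact ⟨c, hc, by rw [smul_eq_mul, ← mul_smul_comm, hb, mul_zero]⟩

variable [Algebra.FinitePresentation A₀ R]

/-- The torsion is finitely generated, and killing it gives a flat algebra. -/
theorem exists_gens (V : Type u) [CommRing V] [IsDomain V] [ValuationRing V] [Algebra A₀ V] :
    ∃ t : Finset (V ⊗[A₀] R), Ideal.span (t : Set (V ⊗[A₀] R)) = torsIdeal (R := R) V ∧
      ∀ (c : V) (b : V ⊗[A₀] R), c ≠ 0 → c • b ∈ torsIdeal (R := R) V → b ∈ torsIdeal (R := R) V := by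
  have hsat : ∀ (c : V) (b : V ⊗[A₀] R), c ≠ 0 → c • b ∈ torsIdeal (R := R) V → b ∈ torsIdeal (R := R) V := by
    rintro c b hc ⟨d, hd, hdb⟩
    exact ⟨d * c, mul_ne_zero hd hc, by rw [mul_smul, hdb]⟩
  haveI : Algebra.FinitePresentation V ((V ⊗[A₀] R) ⧸ torsIdeal (R := R) V) := by
    haveI : Algebra.FiniteType V ((V ⊗[A₀] R) ⧸ torsIdeal (R := R) V) :=
      Algebra.FiniteType.of_surjective (Ideal.Quotient.mkₐ V (torsIdeal (A₀ := A₀) (R := R) V)) Ideal.Quotient.mk_surjective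
    refine RzLib.finitePresentation_of_torsionFree fun c s hc hs => ?_
    obtain ⟨b, rfl⟩ := Ideal.Quotient.mk_surjective s
    exact Ideal.Quotient.eq_zero_iff_mem.mpr (hsat c b hc (Ideal.Quotient.eq_zero_iff_mem.mp hs))
  have hfg : (RingHom.ker (Ideal.Quotient.mkₐ V (torsIdeal (A₀ := A₀) (R := R) V)).toRingHom).FG :=
    Algebra.FinitePresentation.ker_fG_of_surjective _ Ideal.Quotient.mk_surjective
  rw [show (Ideal.Quotient.mkₐ V (torsIdeal (A₀ := A₀) (R := R) V)).toRingHom = Ideal.Quotient.mk _ from rfl,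
    Ideal.mk_ker] at hfg
  obtain ⟨t, ht⟩ := hfg
  exact ⟨t, ht, hsat⟩

/-- Base change `P ⊗ R → W ⊗ R`. -/
def bc (P W : Type u) [CommRing P] [CommRing W] [Algebra A₀ P] [Algebra A₀ W] [Algebra P W]
    [IsScalarTower A₀ P W] : P ⊗[A₀] R →ₐ[A₀] W ⊗[A₀] R :=
  Algebra.TensorProduct.map (IsScalarTower.toAlgHom A₀ P W) (AlgHom.id A₀ R)

omit [Algebra.FinitePresentation A₀ R] in
/-- The quotient of `W ⊗ R` by the image of an ideal, as a base change. -/
theorem exists_quotMap (P W : Type u) [CommRing P] [CommRing W] [Algebra A₀ P] [Algebra A₀ W] [Algebra P W]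
    [IsScalarTower A₀ P W] (J : Ideal (P ⊗[A₀] R)) :
    ∃ θ : W ⊗[A₀] R →ₐ[W] W ⊗[P] ((P ⊗[A₀] R) ⧸ J),
      Function.Surjective θ ∧ RingHom.ker θ = J.map (bc (R := R) P W) := by
  obtain ⟨θ, h1, h2⟩ := quot_bc (Ideal.Quotient.mkₐ P J) Ideal.Quotient.mk_surjective
    (Algebra.TensorProduct.cancelBaseChange A₀ P W W R) (bc (R := R) P W).toRingHom (fun x => by
    induction x using TensorProduct.induction_on with
    | zero => simp [tmul_zero]
    | tmul a r => simp [bc, Algebra.smul_def]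
    | add x y hx hy => rw [tmul_add, map_add, map_add, hx, hy])
  exact ⟨θ, h1, h2.trans (congrArg (fun I : Ideal (P ⊗[A₀] R) => I.map (bc (R := R) P W).toRingHom) Ideal.mk_ker)⟩

/-- In an ultraproduct of valuation rings, points all of whose ultraproduct is good are eventually good. -/
theorem eventually_mem {ι : Type u} (V : ι → Type u) [∀ i, CommRing (V i)] [∀ i, IsDomain (V i)]
    [∀ i, ValuationRing (V i)] [∀ i, Algebra A₀ (V i)] (U : Ultrafilter ι)
    (D : ι → Type u) [∀ i, CommRing (D i)] [∀ i, Algebra A₀ (D i)] (β : ∀ i, V i ⊗[A₀] R →ₐ[A₀] D i)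
    (βU : ((∀ i, V i) ⧸ nullIdeal V U) ⊗[A₀] R →+* (∀ i, D i) ⧸ nullIdeal D U)
    (hβ : ∀ (f : ∀ i, V i) (r : R), βU (Ideal.Quotient.mk _ f ⊗ₜ r) =
      Ideal.Quotient.mk _ fun i => β i (f i ⊗ₜ r))
    (hU : ∀ (c : (∀ i, V i) ⧸ nullIdeal V U) b, c ≠ 0 → c • b = 0 → βU b = 0) :
    ∀ᶠ i in (U : Filter ι), ∀ (c : V i) (b : V i ⊗[A₀] R), c ≠ 0 → c • b = 0 → β i b = 0 := by
  classical
  obtain ⟨t, ht, hsat⟩ := exists_gens (A₀ := A₀) (R := R) ((∀ i, V i) ⧸ nullIdeal V U)
  have hπ : Function.Surjective (bc (A₀ := A₀) (R := R) (∀ i, V i) ((∀ i, V i) ⧸ nullIdeal V U)) := fun x => by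
    induction x using TensorProduct.induction_on with
    | zero => exact ⟨0, map_zero _⟩
    | tmul a r =>
      obtain ⟨a, rfl⟩ := Ideal.Quotient.mk_surjective a
      exact ⟨a ⊗ₜ r, rfl⟩
    | add x y hx hy =>
      obtain ⟨x, rfl⟩ := hx
      obtain ⟨y, rfl⟩ := hy
      exact ⟨x + y, map_add _ x y⟩
  choose l hl using hπ
  let J : Ideal ((∀ i, V i) ⊗[A₀] R) := Ideal.span ((t.image l : Finset _) : Set ((∀ i, V i) ⊗[A₀] R))
  haveI : Algebra.FinitePresentation (∀ i, V i) (((∀ i, V i) ⊗[A₀] R) ⧸ J) :=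
    Algebra.FinitePresentation.quotient ⟨_, rfl⟩
  have hJ : J.map (bc (A₀ := A₀) (R := R) (∀ i, V i) ((∀ i, V i) ⧸ nullIdeal V U)) =
      torsIdeal (R := R) ((∀ i, V i) ⧸ nullIdeal V U) := by
    rw [Ideal.map_span, ← ht, Finset.coe_image, ← Set.image_comp]
    congr 1
    exact (Set.image_congr fun x _ => hl x).trans (Set.image_id _)
  obtain ⟨θ, hθ, hθker⟩ := exists_quotMap (A₀ := A₀) (R := R) (∀ i, V i) ((∀ i, V i) ⧸ nullIdeal V U) J
  have hflat : Module.Flat ((∀ i, V i) ⧸ nullIdeal V U)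
      (((∀ i, V i) ⧸ nullIdeal V U) ⊗[∀ i, V i] (((∀ i, V i) ⊗[A₀] R) ⧸ J)) := by
    rw [Module.Flat.flat_iff_torsion_eq_bot_of_isBezout, eq_bot_iff]
    intro z hz
    obtain ⟨⟨c, hc⟩, hcz⟩ := (Submodule.mem_torsion_iff z).mp hz
    obtain ⟨x, rfl⟩ := hθ z
    have hm : c • x ∈ RingHom.ker θ := by
      rw [RingHom.mem_ker, map_smul]; exact hcz
    rw [hθker, hJ] at hm
    have hx : x ∈ RingHom.ker θ := by
      rw [hθker, hJ]; exact hsat c x (nonZeroDivisors.ne_zero hc) hm
    exact (Submodule.mem_bot _).mpr hx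
  have hev := eventually_flat V U (B := ((∀ i, V i) ⊗[A₀] R) ⧸ J) hflat
  -- the generators are killed eventually
  let γ : ∀ i, (∀ j, V j) ⊗[A₀] R →ₐ[A₀] D i := fun i =>
    (β i).comp (Algebra.TensorProduct.map (Pi.evalAlgHom A₀ V i) (AlgHom.id A₀ R))
  let Γ : (∀ j, V j) ⊗[A₀] R →+* (∀ i, D i) := Pi.ringHom fun i => (γ i).toRingHom
  have hΓ : ∀ x, βU (bc (∀ i, V i) ((∀ i, V i) ⧸ nullIdeal V U) x) = Ideal.Quotient.mk _ (Γ x) := fun x => by
    induction x using TensorProduct.induction_on with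
    | zero => simp
    | tmul a r => exact hβ a r
    | add x y hx hy => rw [map_add, map_add, hx, hy, map_add, map_add]
  have hgen : ∀ᶠ i in (U : Filter ι), ∀ x ∈ t, γ i (l x) = 0 := by
    rw [Filter.eventually_all_finset]
    intro x hx
    have hxT : x ∈ torsIdeal (R := R) ((∀ i, V i) ⧸ nullIdeal V U) := ht ▸ Ideal.subset_span hx
    obtain ⟨c, hc, hcx⟩ := hxT
    have := hU c x hc hcx
    rw [← hl x, hΓ] at this
    exact (mem_nullIdeal D U).mp (Ideal.Quotient.eq_zero_iff_mem.mp this)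
  filter_upwards [hev, hgen] with i hflati hgi c b hc hb
  letI : Algebra (∀ j, V j) (V i) := (Pi.evalRingHom V i).toAlgebra
  haveI : IsScalarTower A₀ (∀ j, V j) (V i) := IsScalarTower.of_algebraMap_eq fun _ => rfl
  obtain ⟨θi, -, hθik⟩ := exists_quotMap (A₀ := A₀) (R := R) (∀ j, V j) (V i) J
  have hb' : b ∈ RingHom.ker θi := by
    rw [RingHom.mem_ker]
    refine (Module.Flat.isSMulRegular_of_nonZeroDivisors (M := V i ⊗[∀ j, V j] (((∀ j, V j) ⊗[A₀] R) ⧸ J))
      (mem_nonZeroDivisors_of_ne_zero hc)) ?_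
    show c • θi b = c • 0
    rw [← map_smul, hb, map_zero, smul_zero]
  rw [hθik] at hb'
  have hle : J.map (bc (A₀ := A₀) (R := R) (∀ j, V j) (V i)) ≤ RingHom.ker (β i) := by
    rw [Ideal.map_le_iff_le_comap, Ideal.span_le]
    intro y hy
    obtain ⟨z, hz, rfl⟩ := Finset.mem_image.mp (Finset.mem_coe.mp hy)
    exact hgi z hz
  exact hle hb'

/-- `Good` descends to a stage of a directed colimit. -/
theorem exists_good_stage {ι : Type u} [Preorder ι] (G : ι → Type u) [∀ i, CommRing (G i)]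
    [∀ i, Algebra A₀ (G i)] (g : ∀ i j, i ≤ j → G i →ₐ[A₀] G j) (A : Type u) [CommRing A] [Algebra A₀ A]
    [∀ i, Algebra (G i) A] [∀ i, IsScalarTower A₀ (G i) A]
    (hc : FlatCA.IsDirectedColimitRing G (fun i j h => (g i j h).toRingHom) A)
    (h : Good R (algebraMap A₀ A)) : ∃ i, Good R (algebraMap A₀ (G i)) := by
  classical
  by_contra hbad
  simp only [not_exists, Good, not_forall, exists_prop] at hbad
  choose V iC iD iV iA ψ hψ x hxp hxm c b hc0 hcb hb using hbad
  haveI : IsDirectedOrder ι := hc.1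
  haveI : Nonempty ι := hc.2.1
  obtain ⟨-, -, -, hcomp, hcompat, hsurj, hinj⟩ := hc
  let U : Ultrafilter ι := Ultrafilter.of Filter.atTop
  have hU : ∀ j, ∀ᶠ i in (U : Filter ι), j ≤ i := fun j => Ultrafilter.of_le _ (Filter.eventually_ge_atTop j)
  let D := fun i => (V i ⊗[A₀] R) ⧸ x i
  haveI hD : ∀ i, IsDomain (D i) := fun i => by haveI := hxp i; exact Ideal.Quotient.isDomain _
  let Vq := (∀ i, V i) ⧸ nullIdeal V U
  let Dq := (∀ i, D i) ⧸ nullIdeal D U
  -- the map to the ultraproduct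
  let ext : ∀ j, G j → ∀ i, V i := fun j a i => if hij : j ≤ i then ψ i (g j i hij a) else 0
  have hwd : ∀ (j k : ι) (a : G j) (a' : G k), algebraMap (G j) A a = algebraMap (G k) A a' →
      (Ideal.Quotient.mk (nullIdeal V U) (ext j a)) = Ideal.Quotient.mk _ (ext k a') := by
    intro j k a a' haa
    obtain ⟨l, hjl, hkl⟩ := exists_ge_ge j k
    obtain ⟨m, hlm, hm⟩ := hinj l (g j l hjl a - g k l hkl a') (by
      rw [map_sub, sub_eq_zero]
      exact (RingHom.congr_fun (hcompat j l hjl) a).trans (haa.trans (RingHom.congr_fun (hcompat k l hkl) a').symm))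
    rw [mk_eq_mk]
    filter_upwards [hU m] with i hi
    have e1 : ∀ (j : ι) (hj : j ≤ l) (y : G j), g j i (hj.trans (hlm.trans hi)) y =
        g m i hi (g l m hlm (g j l hj y)) := fun j hj y => by
      have a1 := RingHom.congr_fun (hcomp j l m hj hlm) y
      have a2 := RingHom.congr_fun (hcomp j m i (hj.trans hlm) hi) y
      simp only [RingHom.comp_apply] at a1 a2
      exact a2.symm.trans (congrArg _ a1.symm)
    simp only [ext, dif_pos (hjl.trans (hlm.trans hi)), dif_pos (hkl.trans (hlm.trans hi))]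
    have hm' : g l m hlm (g j l hjl a) = g l m hlm (g k l hkl a') := by
      rw [← sub_eq_zero, ← map_sub]; exact hm
    exact congrArg _ ((e1 j hjl a).trans ((congrArg _ hm').trans (e1 k hkl a').symm))
  choose jj aa haa using hsurj
  let Ψ₀ : A → Vq := fun a => Ideal.Quotient.mk _ (ext (jj a) (aa a))
  have hΨ : ∀ (j : ι) (a : G j), Ψ₀ (algebraMap (G j) A a) = Ideal.Quotient.mk _ (ext j a) := fun j a =>
    hwd _ _ _ _ (haa _)
  have hpush : ∀ (j k : ι) (hjk : j ≤ k) (a : G j),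
      algebraMap (G k) A (g j k hjk a) = algebraMap (G j) A a := fun j k hjk a =>
    RingHom.congr_fun (hcompat j k hjk) a
  have hext : ∀ j : ι, ∃ F : G j →+* Vq, ∀ a, F a = Ideal.Quotient.mk _ (ext j a) := fun j =>
    ⟨{ toFun := fun a => Ideal.Quotient.mk _ (ext j a)
       map_one' := by
         rw [← map_one (Ideal.Quotient.mk (nullIdeal V U)), mk_eq_mk]
         filter_upwards [hU j] with i hi
         simp [ext, dif_pos hi]
       map_mul' := fun a a' => by
         rw [← map_mul, mk_eq_mk]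
         filter_upwards [hU j] with i hi
         simp [ext, dif_pos hi]
       map_zero' := by
         rw [← map_zero (Ideal.Quotient.mk (nullIdeal V U)), mk_eq_mk]
         filter_upwards [hU j] with i hi
         simp [ext, dif_pos hi]
       map_add' := fun a a' => by
         rw [← map_add, mk_eq_mk]
         filter_upwards [hU j] with i hi
         simp [ext, dif_pos hi] }, fun _ => rfl⟩
  choose F hF using hext
  have hΨF : ∀ (j : ι) (a : G j), Ψ₀ (algebraMap (G j) A a) = F j a := fun j a => by rw [hΨ, hF]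
  let Ψ : A →+* Vq :=
    { toFun := Ψ₀
      map_one' := by
        obtain ⟨j⟩ := ‹Nonempty ι›
        rw [← map_one (algebraMap (G j) A), hΨF, map_one]
      map_zero' := by
        obtain ⟨j⟩ := ‹Nonempty ι›
        rw [← map_zero (algebraMap (G j) A), hΨF, map_zero]
      map_mul' := fun a a' => by
        obtain ⟨l, h1, h2⟩ := exists_ge_ge (jj a) (jj a')
        rw [← haa a, ← haa a', ← hpush _ l h1, ← hpush _ l h2, ← map_mul, hΨF, hΨF, hΨF, map_mul]
      map_add' := fun a a' => by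
        obtain ⟨l, h1, h2⟩ := exists_ge_ge (jj a) (jj a')
        rw [← haa a, ← haa a', ← hpush _ l h1, ← hpush _ l h2, ← map_add, hΨF, hΨF, hΨF, map_add] }
  have hΨA : Ψ.comp (algebraMap A₀ A) = algebraMap A₀ Vq := RingHom.ext fun a => by
    obtain ⟨j⟩ := ‹Nonempty ι›
    show Ψ₀ _ = _
    rw [IsScalarTower.algebraMap_apply A₀ (G j) A, hΨ]
    show _ = Ideal.Quotient.mk _ (algebraMap A₀ (∀ i, V i) a)
    rw [mk_eq_mk]
    filter_upwards [hU j] with i hi
    simp only [ext, dif_pos hi, AlgHom.commutes]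
    exact RingHom.congr_fun (hψ i) a
  -- the point
  let mkD : ∀ i, V i ⊗[A₀] R →ₐ[A₀] D i := fun i => Ideal.Quotient.mkₐ A₀ (x i)
  let μ : Vq →ₐ[A₀] Dq :=
    Ideal.Quotient.liftₐ (nullIdeal V U)
      ((Ideal.Quotient.mkₐ A₀ (nullIdeal D U)).comp
        (Pi.algHom A₀ _ fun i => ((mkD i).comp Algebra.TensorProduct.includeLeft).comp (Pi.evalAlgHom A₀ V i)))
      (fun f hf => by
        show Ideal.Quotient.mk _ _ = 0
        rw [Ideal.Quotient.eq_zero_iff_mem, mem_nullIdeal]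
        filter_upwards [(mem_nullIdeal V U).mp hf] with i hi
        show mkD i (f i ⊗ₜ 1) = 0
        rw [hi, zero_tmul, map_zero])
  let χ : R →ₐ[A₀] Dq :=
    (Ideal.Quotient.mkₐ A₀ (nullIdeal D U)).comp
      (Pi.algHom A₀ _ fun i => (mkD i).comp Algebra.TensorProduct.includeRight)
  let β : Vq ⊗[A₀] R →ₐ[A₀] Dq := Algebra.TensorProduct.lift μ χ (fun a b => mul_comm (μ a) (χ b))
  have hβ : ∀ (f : ∀ i, V i) (r : R), β.toRingHom (Ideal.Quotient.mk _ f ⊗ₜ r) =
      Ideal.Quotient.mk _ fun i => mkD i (f i ⊗ₜ r) := fun f r => by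
    show β (Ideal.Quotient.mk _ f ⊗ₜ r) = _
    rw [Algebra.TensorProduct.lift_tmul]
    show Ideal.Quotient.mk _ _ * Ideal.Quotient.mk _ _ = _
    rw [← map_mul, mk_eq_mk]
    refine Filter.Eventually.of_forall fun i => ?_
    show mkD i (f i ⊗ₜ 1) * mkD i ((1 : V i) ⊗ₜ r) = _
    rw [← map_mul, Algebra.TensorProduct.tmul_mul_tmul, mul_one, one_mul]
  have hX : ∀ (cc : Vq) bb, cc ≠ 0 → cc • bb = 0 → β.toRingHom bb = 0 := fun cc bb h1 h2 => by
    refine h Vq Ψ hΨA (RingHom.ker β.toRingHom) (RingHom.ker_isPrime _) (fun d hd => ?_) cc bb h1 h2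
    obtain ⟨d, rfl⟩ := Ideal.Quotient.mk_surjective d
    show β (Ideal.Quotient.mk _ d ⊗ₜ 1) = 0
    rw [show β (Ideal.Quotient.mk _ d ⊗ₜ 1) = _ from hβ d 1, Ideal.Quotient.eq_zero_iff_mem, mem_nullIdeal]
    rcases Ultrafilter.eventually_or.mp (Filter.Eventually.of_forall (f := (U : Filter ι))
      fun i => em (IsUnit (d i))) with hh | hh
    · refine absurd (IsUnit.of_mul_eq_one (Ideal.Quotient.mk (nullIdeal V U)
        fun i => if hi : IsUnit (d i) then ((hi.unit⁻¹ : (V i)ˣ) : V i) else 0) ?_) hd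
      rw [← map_mul, ← map_one (Ideal.Quotient.mk (nullIdeal V U)), mk_eq_mk]
      filter_upwards [hh] with i hi
      simp [dif_pos hi, IsUnit.mul_val_inv]
    · filter_upwards [hh] with i hi
      exact Ideal.Quotient.eq_zero_iff_mem.mpr (hxm i _ hi)
  obtain ⟨i, hi⟩ := (eventually_mem V U D mkD β.toRingHom hβ hX).exists
  exact hb i (Ideal.Quotient.eq_zero_iff_mem.mp (hi (c i) (b i) (hc0 i) (hcb i)))

end Limit

end RzLib.UnivOpen
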