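import Mathlib

/-!
# The compact space of valuation ring valued points of a ring

A point is recorded by its divisibility relation: `r a b` says that the image of `b` divides that of `a`.
-/

set_option autoImplicit false

noncomputable section

universe u

namespace RzLib

variable {A : Type u} [CommRing A]

/-- Divisibility relations of homomorphisms to valuation rings. -/
structure IsVal (r : A × A → Bool) : Prop where
  total : ∀ x y, r (x, y) = true ∨ r (y, x) = true
  trans : ∀ x y z, r (x, y) = true → r (y, z) = true → r (x, z) = true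
  add : ∀ x y z, r (x, z) = true → r (y, z) = true → r (x + y, z) = true
  mul : ∀ x y z, r (x, y) = true → r (x * z, y * z) = true
  cancel : ∀ x y z, r (z, 0) = false → r (x * z, y * z) = true → r (x, y) = true
  one_zero : r (1, 0) = false
  le_one : ∀ x, r (x, 1) = true

theorem isClosed_bool {α : Type*} (p : α) (b : Bool) : IsClosed {r : α → Bool | r p = b} :=
  IsClosed.preimage (f := fun r : α → Bool => r p) (continuous_apply p) (isClosed_discrete ({b} : Set Bool))

theorem isOpen_bool {α : Type*} (p : α) (b : Bool) : IsOpen {r : α → Bool | r p = b} :=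
  IsOpen.preimage (f := fun r : α → Bool => r p) (continuous_apply p) (isOpen_discrete ({b} : Set Bool))

theorem isClosed_imp {α : Type*} (p : α) (b : Bool) {s : Set (α → Bool)} (hs : IsClosed s) :
    IsClosed {r : α → Bool | r p = b → r ∈ s} := by
  have : {r : α → Bool | r p = b → r ∈ s} = {r | r p = b}ᶜ ∪ s := by
    ext r; exact imp_iff_not_or
  rw [this]
  exact (isOpen_bool p b).isClosed_compl.union hs

theorem isCompact_isVal : IsCompact {r : A × A → Bool | IsVal r} := by
  refine IsClosed.isCompact ?_
  have h : {r : A × A → Bool | IsVal r} =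
      (⋂ (x) (y), ({r | r (x, y) = true} ∪ {r | r (y, x) = true})) ∩
      (⋂ (x) (y) (z), {r | r (x, y) = true → r ∈ {r | r (y, z) = true → r ∈ {r | r (x, z) = true}}}) ∩
      (⋂ (x) (y) (z), {r | r (x, z) = true → r ∈ {r | r (y, z) = true → r ∈ {r | r (x + y, z) = true}}}) ∩
      (⋂ (x) (y) (z), {r | r (x, y) = true → r ∈ {r | r (x * z, y * z) = true}}) ∩
      (⋂ (x) (y) (z), {r | r (z, 0) = false → r ∈ {r | r (x * z, y * z) = true → r ∈ {r | r (x, y) = true}}}) ∩
      {r | r (1, 0) = false} ∩ (⋂ x, {r | r (x, 1) = true}) := by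
    ext r
    simp only [Set.mem_setOf_eq, Set.mem_inter_iff, Set.mem_iInter, Set.mem_union]
    exact ⟨fun h => ⟨⟨⟨⟨⟨⟨h.1, h.2⟩, h.3⟩, h.4⟩, h.5⟩, h.6⟩, h.7⟩,
      fun ⟨⟨⟨⟨⟨⟨h1, h2⟩, h3⟩, h4⟩, h5⟩, h6⟩, h7⟩ => ⟨h1, h2, h3, h4, h5, h6, h7⟩⟩
  rw [h]
  refine ((((((?_ : IsClosed _).inter ?_).inter ?_).inter ?_).inter ?_).inter (isClosed_bool _ _)).inter ?_
  · exact isClosed_iInter fun x => isClosed_iInter fun y => (isClosed_bool _ _).union (isClosed_bool _ _)
  · exact isClosed_iInter fun x => isClosed_iInter fun y => isClosed_iInter fun z =>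
      isClosed_imp _ _ (isClosed_imp _ _ (isClosed_bool _ _))
  · exact isClosed_iInter fun x => isClosed_iInter fun y => isClosed_iInter fun z =>
      isClosed_imp _ _ (isClosed_imp _ _ (isClosed_bool _ _))
  · exact isClosed_iInter fun x => isClosed_iInter fun y => isClosed_iInter fun z =>
      isClosed_imp _ _ (isClosed_bool _ _)
  · exact isClosed_iInter fun x => isClosed_iInter fun y => isClosed_iInter fun z =>
      isClosed_imp _ _ (isClosed_imp _ _ (isClosed_bool _ _))
  · exact isClosed_iInter fun x => isClosed_bool _ _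

open Classical in
/-- The relation of a homomorphism to a valuation ring. -/
def relOf {O : Type u} [CommRing O] (f : A →+* O) : A × A → Bool := fun p => decide (f p.2 ∣ f p.1)

theorem relOf_iff {O : Type u} [CommRing O] (f : A →+* O) (a b : A) :
    relOf f (a, b) = true ↔ f b ∣ f a := by classical exact decide_eq_true_iff

theorem relOf_false_iff {O : Type u} [CommRing O] (f : A →+* O) (a b : A) :
    relOf f (a, b) = false ↔ ¬ f b ∣ f a := by classical exact decide_eq_false_iff_not

theorem isVal_relOf {O : Type u} [CommRing O] [IsDomain O] [ValuationRing O] (f : A →+* O) :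
    IsVal (relOf f) := by
  refine ⟨?_, ?_, ?_, ?_, ?_, ?_, ?_⟩
  · intro x y; rw [relOf_iff, relOf_iff]; exact ValuationRing.dvd_total (f y) (f x)
  · intro x y z; rw [relOf_iff, relOf_iff, relOf_iff]; exact fun h1 h2 => h2.trans h1
  · intro x y z; rw [relOf_iff, relOf_iff, relOf_iff, map_add]; exact dvd_add
  · intro x y z; rw [relOf_iff, relOf_iff, map_mul, map_mul]; exact fun h => mul_dvd_mul_right h _
  · intro x y z; rw [relOf_false_iff, relOf_iff, relOf_iff, map_mul, map_mul, map_zero, zero_dvd_iff]
    exact fun h => (mul_dvd_mul_iff_right h).1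
  · rw [relOf_false_iff, map_one, map_zero, zero_dvd_iff]; exact one_ne_zero
  · intro x; rw [relOf_iff, map_one]; exact one_dvd _

/-- A relation comes from a homomorphism to a valuation ring. -/
theorem exists_val_point {r : A × A → Bool} (hr : IsVal r) :
    ∃ (O : Type u) (_ : CommRing O) (_ : IsDomain O) (_ : ValuationRing O) (f : A →+* O),
      (∀ o : O, ∃ a b, f b ≠ 0 ∧ o * f b = f a) ∧ ∀ a b, r (a, b) = true ↔ f b ∣ f a := by
  letI : ValuativeRel A :=
    { vle := fun a b => r (a, b) = true
      vle_total := hr.total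
      vle_trans := fun {z y x} h1 h2 => hr.trans x y z h1 h2
      vle_add := fun {x y z} => hr.add x y z
      mul_vle_mul_left := fun {x y} h z => hr.mul x y z h
      vle_mul_cancel := fun {x y z} h => hr.cancel x y z (by simpa using h)
      not_vle_one_zero := by simp [hr.one_zero]
      vle_mul_comm := fun {x y} => by rw [mul_comm]; exact (or_self_iff.1 (hr.total _ _)) }
  let v := ValuativeRel.valuation A
  have hv : ∀ a b, r (a, b) = true ↔ v a ≤ v b := fun a b => Valuation.Compatible.vle_iff_le (v := v) a b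
  let v' := v.onQuot (J := v.supp) le_rfl
  haveI : v.supp.IsPrime := inferInstance
  let K := FractionRing (A ⧸ v.supp)
  have hS : nonZeroDivisors (A ⧸ v.supp) ≤ v'.supp.primeCompl := fun x hx hx' => by
    obtain ⟨a, rfl⟩ := Ideal.Quotient.mk_surjective x
    have : v a = 0 := by
      have h1 := congrFun (congrArg DFunLike.coe (v.onQuot_comap_eq (J := v.supp) le_rfl)) a
      exact h1.symm.trans hx'
    exact nonZeroDivisors.ne_zero hx (Ideal.Quotient.eq_zero_iff_mem.2 this)
  let w : Valuation K _ := v'.extendToLocalization hS K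
  let g : A →+* K := (algebraMap (A ⧸ v.supp) K).comp (Ideal.Quotient.mk _)
  have hwg : ∀ a, w (g a) = v a := fun a =>
    (v'.extendToLocalization_apply_map_apply hS K _).trans
      (congrFun (congrArg DFunLike.coe (v.onQuot_comap_eq (J := v.supp) le_rfl)) a)
  have hint : ∀ a, g a ∈ w.valuationSubring := fun a => by
    show w (g a) ≤ 1
    rw [hwg, ← map_one v]
    exact (hv a 1).1 (hr.le_one a)
  let f : A →+* w.valuationSubring := g.codRestrict w.valuationSubring.toSubring hint
  refine ⟨w.valuationSubring, inferInstance, inferInstance, inferInstance, f, fun o => ?_,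
    fun a b => (hv a b).trans ⟨fun h => ?_, ?_⟩⟩
  · obtain ⟨x, ⟨y, hy⟩, hxy⟩ := IsLocalization.exists_mk'_eq (nonZeroDivisors (A ⧸ v.supp)) (o : K)
    obtain ⟨a, rfl⟩ := Ideal.Quotient.mk_surjective x
    obtain ⟨b, rfl⟩ := Ideal.Quotient.mk_surjective y
    refine ⟨a, b, fun e => ?_, Subtype.ext ?_⟩
    · have h1 : g b = 0 := congrArg Subtype.val e
      exact nonZeroDivisors.ne_zero hy ((IsFractionRing.injective (A ⧸ v.supp) K) (h1.trans (map_zero _).symm))
    · show (o : K) * g b = g a
      rw [← hxy]
      exact IsLocalization.mk'_spec K (Ideal.Quotient.mk v.supp a) (⟨_, hy⟩ : nonZeroDivisors (A ⧸ v.supp))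
  · by_cases hb : g b = 0
    · have ha : g a = 0 := by
        refine w.zero_iff.1 (le_antisymm ?_ zero_le')
        rw [hwg]
        refine h.trans ?_
        rw [← hwg, hb, map_zero]
      exact ⟨0, Subtype.ext (by show g a = g b * 0; rw [mul_zero, ha])⟩
    · refine ⟨⟨g a / g b, ?_⟩, Subtype.ext (by show g a = g b * (g a / g b); rw [mul_div_cancel₀ _ hb])⟩
      show w (g a / g b) ≤ 1
      rw [map_div₀, hwg, hwg]
      exact div_le_one_of_le₀ h zero_le'
  · rintro ⟨c, hc⟩
    have h1 : g a = g b * (c : K) := congrArg Subtype.val hc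
    rw [← hwg a, ← hwg b, h1, map_mul]
    exact mul_le_of_le_one_right' c.2

end RzLib
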