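import Groth.Agent.RzLib.OverSheafThickening
import Groth.Prelude.Def_HTop3
import Groth.Agent.BlowUpLib.Props
import Groth.Agent.MiscFlat6.MorSmall
import Groth.Agent.Unram17Lib.FibreMap
import Mathlib

/-!
# Sections on squares of proper morphisms which are isomorphisms away from a closed subscheme
-/

set_option autoImplicit false
set_option linter.style.haveILetI false

noncomputable section

universe w v u

open AlgebraicGeometry CategoryTheory Limits Opposite

namespace RzLib.OSh

open RzLib.VSh (leftCover map_map')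

/-- Two proper morphisms, jointly surjective, form a dominated family. -/
theorem isPhCover_two {ι : Type v} {T : Scheme.{u}} (E : PreZeroHypercover.{v} T) (j₁ j₂ : E.I₀)
    (hft : ∀ j, LocallyOfFiniteType (E.f j)) [IsProper (E.f j₁)] [IsProper (E.f j₂)]
    (hcov : ∀ x : T, x ∈ Set.range (E.f j₁) ∨ x ∈ Set.range (E.f j₂)) : HTop.IsPhCover E := by
  refine PhLib.isPhCover_of_dom E hft fun U => ?_
  let P₁ := pullback U.1.ι (E.f j₁)
  let P₂ := pullback U.1.ι (E.f j₂)
  let π : P₁ ⨿ P₂ ⟶ U.1 := coprod.desc (pullback.fst _ _) (pullback.fst _ _)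
  refine ⟨P₁ ⨿ P₂, π, PhLib.isProper_coprodDesc _ _, ⟨fun x => ?_⟩, fun z => ?_⟩
  · rcases hcov (U.1.ι x) with ⟨y, hy⟩ | ⟨y, hy⟩
    · obtain ⟨q, hq, -⟩ := Scheme.Pullback.exists_preimage_pullback (f := U.1.ι) (g := E.f j₁) x y hy.symm
      exact ⟨(coprod.inl : P₁ ⟶ P₁ ⨿ P₂) q, by rw [← Scheme.Hom.comp_apply, coprod.inl_desc, hq]⟩
    · obtain ⟨q, hq, -⟩ := Scheme.Pullback.exists_preimage_pullback (f := U.1.ι) (g := E.f j₂) x y hy.symm
      exact ⟨(coprod.inr : P₂ ⟶ P₁ ⨿ P₂) q, by rw [← Scheme.Hom.comp_apply, coprod.inr_desc, hq]⟩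
  · have key : ∀ (j : E.I₀) (c : pullback U.1.ι (E.f j) ⟶ P₁ ⨿ P₂) [IsOpenImmersion c],
        c ≫ π = pullback.fst _ _ → PhLib.Lifts E U.1.ι c.opensRange (c.opensRange.ι ≫ π) := by
      intro j c _ hc
      refine ⟨j, c.isoOpensRange.inv ≫ pullback.snd _ _, ?_⟩
      rw [Category.assoc, ← pullback.condition, Category.assoc, ← c.isoOpensRange_inv_comp, Category.assoc,
        reassoc_of% hc]
    obtain ⟨q | q, hq⟩ := (coprodMk P₁ P₂).surjective z
    · exact ⟨(coprod.inl : P₁ ⟶ P₁ ⨿ P₂).opensRange, ⟨q, (coprodMk_inl P₁ P₂ q).symm.trans hq⟩, key j₁ coprod.inl (coprod.inl_desc _ _)⟩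
    · exact ⟨(coprod.inr : P₂ ⟶ P₁ ⨿ P₂).opensRange, ⟨q, (coprodMk_inr P₁ P₂ q).symm.trans hq⟩, key j₂ coprod.inr (coprod.inr_desc _ _)⟩

variable {S : Scheme.{u}} {F : (Over S)ᵒᵖ ⥤ Type w}

/-- Two arrows as a family. -/
abbrev pairObj (A B : Over S) : ULift.{u + 1} Bool → Over S := fun j => cond j.down A B

/-- Two arrows as a family. -/
def pairHom {A B W : Over S} (a : A ⟶ W) (b : B ⟶ W) : ∀ j, pairObj A B j ⟶ W
  | ⟨true⟩ => a
  | ⟨false⟩ => b

variable (F) in
/-- The sheaf property for pairs of proper morphisms of finite presentation which cover. -/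
def PairSheaf (Q : ∀ {A W : Over S}, (A ⟶ W) → Prop) : Prop :=
  ∀ (A B W : Over S) (a : A ⟶ W) (b : B ⟶ W), IsProper a.left → IsProper b.left → Q a → Q b →
    (∀ x : W.left, x ∈ Set.range a.left ∨ x ∈ Set.range b.left) →
    (Presieve.ofArrows (pairObj A B) (pairHom a b)).IsSheafFor F

theorem pairSheaf_ph (hF : Presieve.IsSheaf (HTop.Jph S) F) : PairSheaf F (fun _ => True) := by
  intro A B W a b ha hb _ _ hcov
  refine isSheafFor_phFamily hF _ _ (@isPhCover_two (ULift.{u + 1} Bool) _ (leftCover (pairObj A B) (pairHom a b))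
    ⟨true⟩ ⟨false⟩ ?_ ha hb hcov)
  rintro ⟨_ | _⟩
  · exact hb.toLocallyOfFiniteType
  · exact ha.toLocallyOfFiniteType

theorem pairSheaf_h (hF : Presieve.IsSheaf (HTop.Jh S) F) :
    PairSheaf F (fun a => LocallyOfFinitePresentation a.left) := by
  intro A B W a b ha hb la lb hcov
  have hlfp : ∀ j, LocallyOfFinitePresentation ((leftCover (pairObj A B) (pairHom a b)).f j) := by
    rintro ⟨_ | _⟩
    · exact lb
    · exact la
  refine isSheafFor_hFamily hF _ _ ⟨hlfp, isVCover_of_isPhCover _
    (@isPhCover_two (ULift.{u + 1} Bool) _ (leftCover (pairObj A B) (pairHom a b)) ⟨true⟩ ⟨false⟩ (fun j => ?_) ha hb hcov)⟩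
  haveI := hlfp j
  infer_instance

/-- A square of proper morphisms, one a closed immersion, the other an immersion away from it, gives a cartesian
square of sections. -/
theorem existsUnique_square {Q : ∀ {A W : Over S}, (A ⟶ W) → Prop} (hF : PairSheaf F Q)
    {E Z X' X : Over S} (e : E ⟶ X') (π : E ⟶ Z) (b : X' ⟶ X) (i : Z ⟶ X)
    [IsClosedImmersion i.left] [IsProper b.left] (hE : IsPullback e.left π.left b.left i.left)
    (hQi : Q i) (hQb : Q b)
    (hQ : ∀ (A W : Over S) (a : A ⟶ W), IsClosedImmersion a.left → LocallyOfFinitePresentation a.left → Q a)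
    [LocallyOfFinitePresentation i.left]
    (hmono : ∀ (W : Scheme.{u}) (p q : W ⟶ X'.left), p ≫ b.left = q ≫ b.left →
      (∀ w, b.left (p w) ∉ Set.range i.left) → p = q)
    (hcov : ∀ x : X.left, x ∈ Set.range i.left ∨ x ∈ Set.range b.left)
    (t : F.obj (op Z)) (s' : F.obj (op X')) (hts : F.map π.op t = F.map e.op s') :
    ∃! s : F.obj (op X), F.map i.op s = t ∧ F.map b.op s = s' := by
  have mixed : ∀ (W : Over S) (g : W ⟶ X') (g' : W ⟶ Z), g ≫ b = g' ≫ i → F.map g.op s' = F.map g'.op t := by
    intro W g g' hg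
    let l : W.left ⟶ E.left := hE.lift g.left g'.left (congrArg (·.left) hg)
    let l' : W ⟶ E := Over.homMk l (by
      rw [← Over.w e, ← Category.assoc, hE.lift_fst]; exact Over.w g)
    have h₁ : l' ≫ e = g := Over.OverMorphism.ext (hE.lift_fst _ _ _)
    have h₂ : l' ≫ π = g' := Over.OverMorphism.ext (hE.lift_snd _ _ _)
    rw [← h₁, ← h₂, ← map_map', ← map_map', hts]
  have big : ∀ (W : Over S) (p q : W ⟶ X'), p ≫ b = q ≫ b → F.map p.op s' = F.map q.op s' := by
    intro W p q hpq
    have hpq' : p.left ≫ b.left = q.left ≫ b.left := congrArg (·.left) hpq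
    let m : W.left ⟶ pullback b.left b.left := pullback.lift p.left q.left hpq'
    let K := pullback m (pullback.diagonal b.left)
    let k : K ⟶ W.left := pullback.fst m (pullback.diagonal b.left)
    let C := pullback (p.left ≫ b.left) i.left
    let c : C ⟶ W.left := pullback.fst (p.left ≫ b.left) i.left
    haveI : IsClosedImmersion (pullback.diagonal b.left) := inferInstance
    haveI : LocallyOfFinitePresentation (pullback.diagonal b.left) := by
      haveI : LocallyOfFinitePresentation (pullback.diagonal b.left ≫ pullback.fst b.left b.left) := by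
        rw [pullback.diagonal_fst]; infer_instance
      exact Unram17Lib.lfp_of_comp_lft _ (pullback.fst b.left b.left)
    haveI : IsClosedImmersion k := inferInstanceAs (IsClosedImmersion (pullback.fst _ _))
    haveI : IsClosedImmersion c := inferInstanceAs (IsClosedImmersion (pullback.fst _ _))
    haveI : LocallyOfFinitePresentation k := inferInstanceAs (LocallyOfFinitePresentation (pullback.fst _ _))
    haveI : LocallyOfFinitePresentation c := inferInstanceAs (LocallyOfFinitePresentation (pullback.fst _ _))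
    let k' : Over.mk (k ≫ W.hom) ⟶ W := Over.homMk k rfl
    let c' : Over.mk (c ≫ W.hom) ⟶ W := Over.homMk c rfl
    have hkpq : k ≫ p.left = k ≫ q.left := by
      have h : k ≫ m = pullback.snd m (pullback.diagonal b.left) ≫ pullback.diagonal b.left := pullback.condition
      have h1 : k ≫ p.left = pullback.snd m (pullback.diagonal b.left) := by
        have := congrArg (· ≫ pullback.fst b.left b.left) h
        simp only [Category.assoc, pullback.diagonal_fst, Category.comp_id] at this
        exact (congrArg (k ≫ ·) (pullback.lift_fst _ _ hpq').symm).trans this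
      have h2 : k ≫ q.left = pullback.snd m (pullback.diagonal b.left) := by
        have := congrArg (· ≫ pullback.snd b.left b.left) h
        simp only [Category.assoc, pullback.diagonal_snd, Category.comp_id] at this
        exact (congrArg (k ≫ ·) (pullback.lift_snd _ _ hpq').symm).trans this
      exact h1.trans h2.symm
    have hsh := hF _ _ W k' c' (show IsProper k from inferInstance) (show IsProper c from inferInstance)
      (hQ _ _ _ ‹_› ‹_›) (hQ _ _ _ ‹_› ‹_›) fun w => by
        by_cases hw : b.left (p.left w) ∈ Set.range i.left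
        · obtain ⟨z, hz⟩ := hw
          obtain ⟨y, hy, -⟩ := Scheme.Pullback.exists_preimage_pullback (f := p.left ≫ b.left) (g := i.left) w z
            (by rw [Scheme.Hom.comp_apply, hz])
          exact Or.inr ⟨y, hy⟩
        · let O : W.left.Opens := ⟨(p.left ≫ b.left) ⁻¹' (Set.range i.left)ᶜ,
            i.left.isClosedEmbedding.isClosed_range.isOpen_compl.preimage (p.left ≫ b.left).continuous⟩
          have hO : O.ι ≫ p.left = O.ι ≫ q.left := hmono _ _ _ (by rw [Category.assoc, Category.assoc, hpq'])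
            fun v => v.2
          let lK : (O : Scheme.{u}) ⟶ K := pullback.lift O.ι (O.ι ≫ p.left) (pullback.hom_ext
            ((Category.assoc _ _ _).trans ((congrArg (O.ι ≫ ·) (pullback.lift_fst _ _ hpq')).trans
              ((Category.comp_id _).symm.trans ((congrArg (_ ≫ ·) (pullback.diagonal_fst b.left).symm).trans (Category.assoc _ _ _).symm))))
            ((Category.assoc _ _ _).trans ((congrArg (O.ι ≫ ·) (pullback.lift_snd _ _ hpq')).trans
              (hO.symm.trans ((Category.comp_id _).symm.trans ((congrArg (_ ≫ ·) (pullback.diagonal_snd b.left).symm).trans (Category.assoc _ _ _).symm))))))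
          exact Or.inl ⟨lK ⟨w, hw⟩, by
            show k (lK ⟨w, hw⟩) = w
            rw [← Scheme.Hom.comp_apply, pullback.lift_fst]; rfl⟩
    refine ((Presieve.isSheafFor_arrows_iff _ _).1 hsh _ (Presieve.Arrows.toCompatible F _ (F.map q.op s')).2).unique
      ?_ (fun _ => rfl)
    rintro ⟨_ | _⟩
    · show F.map c'.op (F.map p.op s') = F.map c'.op (F.map q.op s')
      rw [map_map', map_map']
      let g' : Over.mk (c ≫ W.hom) ⟶ Z := Over.homMk (pullback.snd _ _) (by
        show pullback.snd _ _ ≫ Z.hom = c ≫ W.hom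
        rw [← Over.w i, ← pullback.condition_assoc, Category.assoc, Over.w b, Over.w p])
      have hg : (c' ≫ p) ≫ b = g' ≫ i := Over.OverMorphism.ext (by
        show (c ≫ p.left) ≫ b.left = pullback.snd _ _ ≫ i.left
        rw [Category.assoc]; exact pullback.condition)
      rw [mixed _ (c' ≫ p) g' hg, mixed _ (c' ≫ q) g' (by rw [Category.assoc, ← hpq, ← Category.assoc, hg])]
    · show F.map k'.op (F.map p.op s') = F.map k'.op (F.map q.op s')
      rw [map_map', map_map', show k' ≫ p = k' ≫ q from Over.OverMorphism.ext hkpq]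
  have hsh := hF Z X' X i b inferInstance inferInstance hQi hQb hcov
  let x : ∀ j, F.obj (op (pairObj Z X' j)) := fun j => match j with
    | ⟨true⟩ => t
    | ⟨false⟩ => s'
  have hx : Presieve.Arrows.Compatible F (pairHom i b) x := by
    rintro ⟨_ | _⟩ ⟨_ | _⟩ W g g' hg
    · exact big W g g' hg
    · exact mixed W g g' hg
    · exact (mixed W g' g hg.symm).symm
    · haveI : Mono i.left := inferInstance
      have : g = g' := Over.OverMorphism.ext ((cancel_mono i.left).1 (congrArg (·.left) hg))
      exact congrArg (fun h => F.map (Quiver.Hom.op h) t) this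
  obtain ⟨s, hs, hu⟩ := (Presieve.isSheafFor_arrows_iff _ _).1 hsh x hx
  refine ⟨s, ⟨hs ⟨true⟩, hs ⟨false⟩⟩, fun s₂ h₂ => hu s₂ ?_⟩
  rintro ⟨_ | _⟩
  · exact h₂.2
  · exact h₂.1

/-- A closed immersion of finite presentation has an ideal of finite type. -/
theorem isFiniteTypeIdeal_ker {Z X : Scheme.{u}} (i : Z ⟶ X) [IsClosedImmersion i] [LocallyOfFinitePresentation i] :
    BlowUp.IsFiniteTypeIdeal i.ker := fun U => by
  rw [Scheme.Hom.ker_apply]
  exact (MiscFlat6.lfp_iff_ker_fg i).1 ‹_› U

/-- The pull back of the ideal of a closed subscheme to a scheme missing it is effective Cartier. -/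
theorem isEffCartier_comap_of_disjoint {Z X W : Scheme.{u}} (i : Z ⟶ X) [IsClosedImmersion i] (g : W ⟶ X)
    (h : ∀ w, g w ∉ Set.range i) : BlowUp.IsEffCartierIdeal (i.ker.comap g) := by
  have htop : i.ker.comap g = ⊤ := by
    rw [← Scheme.IdealSheafData.support_eq_bot_iff, ← SetLike.coe_set_eq, Scheme.IdealSheafData.support_comap]
    ext w
    simp only [TopologicalSpace.Closeds.coe_bot, Set.mem_empty_iff_false, iff_false]
    intro hw
    have hw' : g w ∈ (i.ker.support : Set X) := hw
    rw [Scheme.Hom.support_ker] at hw'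
    exact h w (i.isClosedEmbedding.isClosed_range.closure_subset hw')
  intro x
  obtain ⟨U, hU, hx, -⟩ := exists_isAffineOpen_mem_and_subset (x := x) (U := ⊤) trivial
  refine ⟨⟨U, hU⟩, hx, 1, one_mem _, ?_⟩
  rw [htop, Ideal.span_singleton_one]
  rfl

end RzLib.OSh

namespace RzLib.OSh

/-- Facts on blowing ups used for squares: monomorphism and surjectivity away from the centre. -/
theorem eq_of_isBlowUp {Z X B W : Scheme.{u}} (i : Z ⟶ X) [IsClosedImmersion i] (b : B ⟶ X)
    (hb : BlowUp.IsBlowUp b i.ker) (p q : W ⟶ B) (h : p ≫ b = q ≫ b) (hav : ∀ w, b (p w) ∉ Set.range i) : p = q :=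
  (hb.2 W (p ≫ b) (isEffCartier_comap_of_disjoint i (p ≫ b) hav)).unique rfl h.symm

theorem mem_range_of_isBlowUp {Z X B : Scheme.{u}} (i : Z ⟶ X) [IsClosedImmersion i] (b : B ⟶ X)
    (hb : BlowUp.IsBlowUp b i.ker) (x : X) : x ∈ Set.range i ∨ x ∈ Set.range b := by
  by_cases hx : x ∈ Set.range i
  · exact Or.inl hx
  obtain ⟨l, hl, -⟩ := hb.2 _ (X.fromSpecResidueField x) (isEffCartier_comap_of_disjoint i _ fun w => by
    rw [Scheme.fromSpecResidueField_apply]; exact hx)
  exact Or.inr ⟨l default, by rw [← Scheme.Hom.comp_apply, hl, Scheme.fromSpecResidueField_apply]⟩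

theorem mono_away_supportedOn {Z X B W : Scheme.{u}} (i : Z ⟶ X) [IsClosedImmersion i] (b : B ⟶ X)
    (hb : BlowUp.IsBlowUp ((HTop.supportedOn (i.ker.comap b)).subschemeι ≫ b) i.ker)
    (p q : W ⟶ B) (h : p ≫ b = q ≫ b) (hav : ∀ w, b (p w) ∉ Set.range i) : p = q := by
  let A := HTop.awayFrom (i.ker.comap b)
  have hmem : ∀ (r : W ⟶ B), (∀ w, b (r w) ∉ Set.range i) → Set.range r ⊆ Set.range A.ι := by
    rintro r hr _ ⟨w, rfl⟩
    rw [Scheme.Opens.range_ι]
    intro hsupp
    have h1 : b (r w) ∈ (i.ker.support : Set X) := by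
      rw [Scheme.IdealSheafData.support_comap] at hsupp
      exact hsupp
    rw [Scheme.Hom.support_ker] at h1
    exact hr w (i.isClosedEmbedding.isClosed_range.closure_subset h1)
  have hq : ∀ w, b (q w) ∉ Set.range i := fun w => by
    rw [← Scheme.Hom.comp_apply, ← h, Scheme.Hom.comp_apply]; exact hav w
  let lp := IsOpenImmersion.lift A.ι p (hmem p hav)
  let lq := IsOpenImmersion.lift A.ι q (hmem q hq)
  let j : (A : Scheme.{u}) ⟶ (HTop.supportedOn (i.ker.comap b)).subscheme := A.ι.toImage
  have hj : j ≫ (HTop.supportedOn (i.ker.comap b)).subschemeι = A.ι := A.ι.toImage_imageι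
  have hp' : (lp ≫ j) ≫ (HTop.supportedOn (i.ker.comap b)).subschemeι = p := by
    rw [Category.assoc, hj, IsOpenImmersion.lift_fac]
  have hq' : (lq ≫ j) ≫ (HTop.supportedOn (i.ker.comap b)).subschemeι = q := by
    rw [Category.assoc, hj, IsOpenImmersion.lift_fac]
  have := eq_of_isBlowUp i _ hb (lp ≫ j) (lq ≫ j) (by rw [← Category.assoc, ← Category.assoc, hp', hq', h])
    (fun w => by
      rw [← Scheme.Hom.comp_apply, ← Category.assoc, hp', Scheme.Hom.comp_apply]
      exact hav w)
  rw [← hp', ← hq', this]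

end RzLib.OSh
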