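import Groth.Agent.RzLib.Cover
import Groth.Agent.VCovLib.Ph
import Groth.Agent.PhLib.Scheme
import Mathlib

/-!
# V coverings by morphisms locally of finite presentation are ph coverings
-/

set_option autoImplicit false
set_option linter.style.haveILetI false

noncomputable section

universe w w' u

open AlgebraicGeometry CategoryTheory Limits

namespace RzLib

/-- A lift of one valuation ring valued point factors through a finitely presented member. -/
theorem exists_fp_factor {T : Scheme.{u}} (E : PreZeroHypercover.{w} T)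
    (hE : ∀ i, LocallyOfFinitePresentation (E.f i)) {A : Type u} [CommRing A] (g : Spec (CommRingCat.of A) ⟶ T)
    {O : Type u} [CommRing O] [IsDomain O] [ValuationRing O] (f : A →+* O)
    (hlift : ∃ (W : CommRingCat.{u}) (_ : IsDomain W) (_ : ValuationRing W) (φ : CommRingCat.of O ⟶ W),
      HTop.IsExtVal (CommRingCat.of O) W φ ∧
        ∃ (i : E.I₀) (s' : Spec W ⟶ E.X i), s' ≫ E.f i = Spec.map φ ≫ Spec.map (CommRingCat.ofHom f) ≫ g) :
    ∃ (W : Type u) (_ : CommRing W) (_ : IsDomain W) (_ : IsLocalRing W) (φ : O →+* W),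
      Function.Injective φ ∧ IsLocalHom φ ∧
      ∃ (B : Type u) (_ : CommRing B) (_ : Algebra A B) (_ : Algebra.FinitePresentation A B) (χ : B →+* W),
        PhLib.Lifts E g (Spec (CommRingCat.of B)) (Spec.map (CommRingCat.ofHom (algebraMap A B))) ∧
        χ.comp (algebraMap A B) = φ.comp f := by
  obtain ⟨W, _, _, φ, hφ, i, s', hs'⟩ := hlift
  haveI := hE i
  let P := pullback g (E.f i)
  let m : Spec W ⟶ P := pullback.lift (Spec.map φ ≫ Spec.map (CommRingCat.ofHom f)) s'
    (by rw [Category.assoc, hs'])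
  obtain ⟨U, hU, hwU, -⟩ := exists_isAffineOpen_mem_and_subset (X := P) (x := m (VCovLib.closed W)) (U := ⊤) trivial
  let h : Spec Γ(P, U) ⟶ Spec (CommRingCat.of A) := hU.fromSpec ≫ pullback.fst g (E.f i)
  obtain ⟨φB, hφB⟩ := Spec.map_surjective h
  letI : Algebra A Γ(P, U) := φB.hom.toAlgebra
  have hlfp : LocallyOfFinitePresentation (Spec.map φB) := by rw [hφB]; infer_instance
  haveI : Algebra.FinitePresentation A Γ(P, U) := (HasRingHomProperty.Spec_iff (P := @LocallyOfFinitePresentation)).1 hlfp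
  let mU : Spec W ⟶ Spec Γ(P, U) := IsOpenImmersion.lift hU.fromSpec m
    ((VCovLib.range_subset_of_closed m hwU).trans hU.range_fromSpec.ge)
  obtain ⟨χ, hχ⟩ := Spec.map_surjective mU
  refine ⟨W, inferInstance, inferInstance, inferInstance, φ.hom, hφ.1, hφ.2, Γ(P, U), inferInstance,
    inferInstance, inferInstance, χ.hom, ?_, ?_⟩
  · refine ⟨i, hU.fromSpec ≫ pullback.snd g (E.f i), ?_⟩
    show _ = Spec.map φB ≫ g
    rw [hφB, Category.assoc, ← pullback.condition, Category.assoc]
  · have h1 : Spec.map (φB ≫ χ) = Spec.map (CommRingCat.ofHom f ≫ φ) := by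
      rw [Spec.map_comp, Spec.map_comp, hχ, hφB]
      show mU ≫ hU.fromSpec ≫ _ = _
      rw [IsOpenImmersion.lift_fac_assoc, pullback.lift_fst]
    exact congrArg CommRingCat.Hom.hom (Spec.map_injective h1)

/-- The valuative lifting property of a family of finite presentation gives the algebraic lifting property. -/
theorem valLifts_of_lift {T : Scheme.{u}} (E : PreZeroHypercover.{w} T)
    (hE : ∀ i, LocallyOfFinitePresentation (E.f i)) {A : Type u} [CommRing A] (g : Spec (CommRingCat.of A) ⟶ T)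
    (hlift : ∀ (V : CommRingCat.{u}) [IsDomain V] [ValuationRing V] (s : Spec V ⟶ Spec (CommRingCat.of A)),
      ∃ (W : CommRingCat.{u}) (_ : IsDomain W) (_ : ValuationRing W) (φ : V ⟶ W),
        HTop.IsExtVal V W φ ∧ ∃ (i : E.I₀) (s' : Spec W ⟶ E.X i), s' ≫ E.f i = Spec.map φ ≫ s ≫ g) :
    ValLifts A (PhLib.Lifts E g) :=
  fun O _ _ _ f => exists_fp_factor E hE g f (hlift (CommRingCat.of O) (Spec.map (CommRingCat.ofHom f)))

/-- A V covering by morphisms locally of finite presentation is dominated by proper surjective morphisms over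
every affine scheme mapping to the base. -/
theorem dom_of_isVCover {T Z : Scheme.{u}} [IsAffine Z] (E : PreZeroHypercover.{w} T)
    (hE : ∀ i, LocallyOfFinitePresentation (E.f i)) (hV : HTop.IsVCover E) (g : Z ⟶ T) :
    PhLib.Dom (PhLib.Lifts E g) := by
  obtain ⟨F, hF, hFE⟩ := VCovLib.exists_standard_refining hV (Z.isoSpec.inv ≫ g)
  have h := dom_of_valLifts (PhLib.stable_lifts E (Z.isoSpec.inv ≫ g))
    (valLifts_of_lift (A := Γ(Z, ⊤)) E hE (Z.isoSpec.inv ≫ g) fun V _ _ s => by
      obtain ⟨W, h₁, h₂, φ, hφ, j, l, hl⟩ := hF.lift V s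
      obtain ⟨i, k, hk⟩ := hFE j
      exact ⟨W, h₁, h₂, φ, hφ, i, l ≫ k, by rw [Category.assoc, hk, reassoc_of% hl]⟩)
  refine PhLib.Dom.mono ?_ (h.baseChange (PhLib.stable_lifts E _) Z.isoSpec.hom)
  rintro W k ⟨i, l, hl⟩
  refine ⟨i, l, hl.trans ?_⟩
  rw [Category.assoc, Iso.hom_inv_id_assoc]

/-- A V covering by morphisms locally of finite presentation is a ph covering. -/
theorem isPhCover_of_isVCover {T : Scheme.{u}} (E : PreZeroHypercover.{w} T)
    (hE : ∀ i, LocallyOfFinitePresentation (E.f i)) (hV : HTop.IsVCover E) : HTop.IsPhCover E :=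
  PhLib.isPhCover_of_dom E (fun i => haveI := hE i; inferInstance) fun U => by
    haveI : IsAffine ((U : T.Opens) : Scheme.{u}) := U.2
    exact dom_of_isVCover E hE hV _

/-- A ph covering is a V covering. -/
theorem isVCover_of_isPhCover {T : Scheme.{u}} (E : PreZeroHypercover.{w} T) (hE : HTop.IsPhCover E) :
    HTop.IsVCover E := fun U => by
  obtain ⟨F, hF, hFE⟩ := hE.2 U
  exact ⟨F, VCovLib.isStandardPh_isStandardV hF, hFE⟩

end RzLib
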