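import Groth.Agent.RzLib.LimitLift
import Groth.Agent.RichLib.LimitBaseChange
import Groth.Prelude.Def_W4c2submetdescSubtr
import Mathlib

/-!
# Descent of universal S-subtrusiveness along limits
-/

set_option autoImplicit false
set_option linter.style.haveILetI false

noncomputable section

universe u

open AlgebraicGeometry CategoryTheory Limits RichLib.LimBC

namespace RzLib

theorem univSSubtrusive_of_liftVal {X Y : Scheme.{u}} (f : X ⟶ Y)
    (h : ∀ (V : CommRingCat.{u}) [IsDomain V] [ValuationRing V] (s : Spec V ⟶ Y),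
      LiftVal (PreZeroHypercover.singleton.{u} f) V s) : Subtr.UnivSSubtrusive f := by
  have h' := (VCovLib.hasValLift_singleton_iff.{u, u} f).1 h
  intro X' Y' i₁ i₂ f' hsq y y' hy
  obtain ⟨w', w, hw, h1, h2⟩ := h' Y' i₂ y' y hy
  refine ⟨hsq.isoPullback.inv w, hsq.isoPullback.inv w', hw.map hsq.isoPullback.inv.continuous, ?_, ?_⟩
  · rw [← Scheme.Hom.comp_apply, hsq.isoPullback_inv_fst, h2]
  · rw [← Scheme.Hom.comp_apply, hsq.isoPullback_inv_fst, h1]

theorem liftVal_of_univSSubtrusive {X Y : Scheme.{u}} (f : X ⟶ Y) (h : Subtr.UnivSSubtrusive f)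
    (V : CommRingCat.{u}) [IsDomain V] [ValuationRing V] (s : Spec V ⟶ Y) :
    LiftVal (PreZeroHypercover.singleton.{u} f) V s :=
  (VCovLib.hasValLift_singleton_iff.{u, u} f).2 (fun Z g z' z hz => by
    obtain ⟨x, x', hx, h1, h2⟩ := h (pullback.snd g f) g (pullback.fst g f) (IsPullback.of_hasPullback g f) hz
    exact ⟨x', x, hx, h2, h1⟩) V s

/-- A morphism of finite presentation whose base change to a limit is universally S-subtrusive has this
property at a stage. -/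
theorem exists_stage_univSSubtrusive {I : Type u} [SmallCategory I] [IsCofiltered I]
    (D : I ⥤ Scheme.{u}) (c : Cone D) (hc : IsLimit c)
    [∀ (i j : I) (a : i ⟶ j), IsAffineHom (D.map a)] (i₀ : I)
    {X₀ Y₀ : Scheme.{u}} (f₀ : X₀ ⟶ Y₀) (g₀ : Y₀ ⟶ D.obj i₀) [CompactSpace Y₀] [LocallyOfFinitePresentation f₀]
    (h : ∀ (V : CommRingCat.{u}) [IsDomain V] [ValuationRing V] (s : Spec V ⟶ pullback g₀ (c.π.app i₀)),
      LiftVal (PreZeroHypercover.singleton.{u} f₀) V (s ≫ pullback.fst g₀ (c.π.app i₀))) :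
    ∃ (i : I) (φ : i ⟶ i₀), Subtr.UnivSSubtrusive (pullback.snd f₀ (pullback.fst g₀ (D.map φ))) := by
  classical
  have hex : ∀ y : Y₀, ∃ U : Y₀.Opens, IsAffineOpen U ∧ y ∈ U := fun y =>
    let ⟨U, hU, hy, _⟩ := exists_isAffineOpen_mem_and_subset (x := y) (U := ⊤) trivial
    ⟨U, hU, hy⟩
  choose U hU hyU using hex
  obtain ⟨t, ht⟩ := CompactSpace.elim_nhds_subcover (fun y => (U y : Set Y₀)) (fun y => (U y).2.mem_nhds (hyU y))
  let E : PreZeroHypercover.{u} Y₀ := PreZeroHypercover.singleton f₀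
  have key : ∀ y : Y₀, ∃ (j : Over i₀), ∀ (V : CommRingCat.{u}) [IsDomain V] [ValuationRing V]
      (s : Spec V ⟶ pullback ((U y).ι ≫ g₀) (D.map j.hom)),
      LiftVal E V (s ≫ pullback.fst _ _ ≫ (U y).ι) := by
    intro y
    haveI : IsAffine ((U y : Y₀.Opens) : Scheme.{u}) := hU y
    let B := pb (ofStage D c hc i₀) ((U y).ι ≫ g₀)
    haveI : ∀ φ, IsAffine (B.D.obj φ) := fun φ => by
      haveI := B.affine φ
      exact isAffine_of_isAffineHom (B.t φ)
    obtain ⟨j, ψ, hj⟩ := exists_stage_liftVal B.D B.c B.hc (Over.mk (𝟙 i₀)) E (fun _ => ‹_›)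
      (B.t (Over.mk (𝟙 i₀)) ≫ (U y).ι) fun V _ _ s => by
        let m : B.c.pt ⟶ pullback g₀ (c.π.app i₀) :=
          pullback.lift (pullback.fst _ _ ≫ (U y).ι) (pullback.snd _ _) (by
            rw [Category.assoc]; exact pullback.condition)
        have hm := h V (s ≫ m)
        rw [reassoc_of% B.hs (Over.mk (𝟙 i₀))]
        have e : (s ≫ m) ≫ pullback.fst g₀ (c.π.app i₀) = s ≫ B.s ≫ (U y).ι := by
          rw [Category.assoc]
          exact congrArg (s ≫ ·) (pullback.lift_fst _ _ _)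
        rw [e] at hm
        exact hm
    refine ⟨j, fun V _ _ s => ?_⟩
    have := hj V s
    rwa [reassoc_of% B.w ψ] at this
  choose j hj using key
  obtain ⟨k, hk⟩ := IsCofiltered.inf_objs_exists (t.image j)
  refine ⟨k.left, k.hom, univSSubtrusive_of_liftVal _ fun V _ _ s => ?_⟩
  obtain ⟨y, hyt, hy⟩ := Set.mem_iUnion₂.mp (ht.ge (Set.mem_univ ((s ≫ pullback.fst g₀ (D.map k.hom)) (VCovLib.closed V))))
  obtain ⟨a⟩ := hk (Finset.mem_image_of_mem j hyt)
  let l : Spec V ⟶ ((U y : Y₀.Opens) : Scheme.{u}) := IsOpenImmersion.lift (U y).ι (s ≫ pullback.fst g₀ (D.map k.hom))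
    ((VCovLib.range_subset_of_closed _ hy).trans (Scheme.Opens.range_ι _).ge)
  have hl : l ≫ (U y).ι = s ≫ pullback.fst g₀ (D.map k.hom) := IsOpenImmersion.lift_fac _ _ _
  let s' : Spec V ⟶ pullback ((U y).ι ≫ g₀) (D.map (j y).hom) :=
    pullback.lift l ((s ≫ pullback.snd g₀ (D.map k.hom)) ≫ D.map a.left) (by
      rw [reassoc_of% hl, pullback.condition, Category.assoc, Category.assoc, ← D.map_comp, Over.w a])
  obtain ⟨W, h₁, h₂, φ, hφ, _i, m, hm⟩ := hj y V s'
  let m' : Spec W ⟶ X₀ := m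
  have hm' : m' ≫ f₀ = Spec.map φ ≫ s ≫ pullback.fst g₀ (D.map k.hom) := by
    rw [← hl]
    refine hm.trans ?_
    rw [pullback.lift_fst_assoc]
  exact ⟨W, h₁, h₂, φ, hφ, PUnit.unit, pullback.lift m' (Spec.map φ ≫ s) (hm'.trans (Category.assoc _ _ _).symm),
    pullback.lift_snd _ _ _⟩

end RzLib
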