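import Groth.Agent.BlowUpLib.Props
import Mathlib

/-!
# A proper scheme over an affine scheme with the charts of a blow-up
-/

set_option autoImplicit false

noncomputable section

universe u

open AlgebraicGeometry CategoryTheory Limits BlowUpLib

namespace RzLib

/-- The blow-up of a finitely generated ideal with its charts. -/
theorem exists_proper_charts {A : Type u} [CommRing A] (I : Ideal A) (hI : I.FG) :
    ∃ (Z : Scheme.{u}) (π : Z ⟶ Spec (CommRingCat.of A)), IsProper π ∧
      (∀ z : Z, ∃ (a : A) (_ : a ∈ I) (c : Spec (CommRingCat.of (BlowUp.affineAlgebra A I a)) ⟶ Z),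
        IsOpenImmersion c ∧ z ∈ Set.range c ∧
          c ≫ π = Spec.map (CommRingCat.ofHom (algebraMap A (BlowUp.affineAlgebra A I a)))) ∧
      ∀ a ∈ I, ∃ c : Spec (CommRingCat.of (BlowUp.affineAlgebra A I a)) ⟶ Z,
          c ≫ π = Spec.map (CommRingCat.ofHom (algebraMap A (BlowUp.affineAlgebra A I a))) := by
  refine ⟨Proj (Rees.deg (reesAlgebra I)), Proj (Rees.deg (reesAlgebra I)) ↘ Spec (CommRingCat.of A), ?_,
    fun z => ?_, fun a ha => ?_⟩
  · have h1 : IsProper (Proj.toSpecZero (Rees.deg (reesAlgebra I))) := by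
      have : Algebra.FiniteType A (reesAlgebra I) := (Subalgebra.fg_iff_finiteType _).mp (reesAlgebra.fg hI)
      have : Algebra.FiniteType (Rees.deg (reesAlgebra I) 0) (reesAlgebra I) :=
        haveI : IsScalarTower A (Rees.deg (reesAlgebra I) 0) (reesAlgebra I) :=
          IsScalarTower.of_algebraMap_eq (R := A) (S := Rees.deg (reesAlgebra I) 0)
            (A := reesAlgebra I) fun r => rfl
        Algebra.FiniteType.of_restrictScalars_finiteType A _ _
      infer_instance
    have h0 : Function.Bijective (algebraMap A (Rees.deg (reesAlgebra I) 0)) := by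
      refine ⟨fun r s h => ?_, fun s => ⟨(s.1 : Polynomial A).coeff 0, ?_⟩⟩
      · have := congrArg (fun z => ((z.1 : reesAlgebra I) : Polynomial A).coeff 0) h
        simpa using this
      · refine Subtype.ext (Subtype.ext ?_)
        conv_rhs => rw [eq_monomial I s.2]
        rfl
    have : IsIso (Spec.map (CommRingCat.ofHom (R := A) (S := ↥(Rees.deg (reesAlgebra I) 0))
        (algebraMap A (Rees.deg (reesAlgebra I) 0)))) := by
      have : IsIso (CommRingCat.ofHom (R := A) (S := ↥(Rees.deg (reesAlgebra I) 0))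
        (algebraMap A (Rees.deg (reesAlgebra I) 0))) :=
        (ConcreteCategory.isIso_iff_bijective _).mpr h0
      infer_instance
    exact inferInstanceAs (IsProper (_ ≫ _))
  · obtain ⟨a, ha, c, hc, hz, hcπ⟩ := exists_chart_spec I (isBlowUp_proj I) z
    exact ⟨a, ha, c, hc, hz, hcπ⟩
  · let w := RingEquiv.toCommRingCatIso (R := HomogeneousLocalization.Away (Rees.deg (reesAlgebra I)) (degOne I a ha))
      (S := BlowUp.affineAlgebra A I a) (awayEquiv I a ha)
    refine ⟨Spec.map w.hom ≫ Proj.awayι _ _ (degOne_mem I a ha) one_pos, ?_⟩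
    change (_ ≫ _) ≫ Proj.toSpecZero _ ≫ Spec.map _ = _
    rw [Category.assoc, Proj.awayι_toSpecZero_assoc, ← Spec.map_comp, ← Spec.map_comp]
    exact congrArg (fun φ => Spec.map (CommRingCat.ofHom φ)) (awayEquiv_comp I a ha)

end RzLib
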