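import Groth.Agent.RzLib.Good
import Mathlib

/-!
# Compatible valuations along cofiltered limits of affine schemes
-/

set_option autoImplicit false
set_option linter.style.haveILetI false

noncomputable section

universe u

open AlgebraicGeometry CategoryTheory Limits

namespace RzLib

variable {I : Type u} [SmallCategory I]

/-- Restriction of relations along a morphism of schemes. -/
abbrev schRes {X Y : Scheme.{u}} (f : X ⟶ Y) : (Γ(X, ⊤) × Γ(X, ⊤) → Bool) → Γ(Y, ⊤) × Γ(Y, ⊤) → Bool :=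
  resRel f.appTop.hom

theorem schRes_comp {X Y Z : Scheme.{u}} (f : X ⟶ Y) (g : Y ⟶ Z) (r : Γ(X, ⊤) × Γ(X, ⊤) → Bool) :
    schRes (f ≫ g) r = schRes g (schRes f r) := rfl

theorem schRes_id {X : Scheme.{u}} (r : Γ(X, ⊤) × Γ(X, ⊤) → Bool) : schRes (𝟙 X) r = r := rfl

/-- Closed nonempty conditions on valuations of the stages have a common solution on the limit. -/
theorem exists_compatible [IsCofiltered I] (D : I ⥤ Scheme.{u}) [∀ i, IsAffine (D.obj i)] (c : Cone D)
    (hc : IsLimit c) (S : ∀ i, Set (Γ(D.obj i, ⊤) × Γ(D.obj i, ⊤) → Bool)) (hcl : ∀ i, IsClosed (S i))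
    (hval : ∀ i, ∀ r ∈ S i, IsVal r) (hne : ∀ i, (S i).Nonempty)
    (hmap : ∀ (i j : I) (φ : i ⟶ j), ∀ r ∈ S i, schRes (D.map φ) r ∈ S j) :
    ∃ r : Γ(c.pt, ⊤) × Γ(c.pt, ⊤) → Bool, IsVal r ∧ ∀ i, schRes (c.π.app i) r ∈ S i := by
  classical
  let F : I ⥤ TopCat.{u} :=
    { obj := fun i => TopCat.of (S i)
      map := fun {i j} φ => TopCat.ofHom
        ⟨fun r => ⟨schRes (D.map φ) r.1, hmap i j φ _ r.2⟩,
          ((continuous_resRel _).comp continuous_subtype_val).subtype_mk _⟩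
      map_id := fun i => by
        refine TopCat.hom_ext (ContinuousMap.ext fun r => Subtype.ext ?_)
        show schRes (D.map (𝟙 i)) r.1 = r.1
        rw [D.map_id, schRes_id]
      map_comp := fun {i j k} φ ψ => by
        refine TopCat.hom_ext (ContinuousMap.ext fun r => Subtype.ext ?_)
        show schRes (D.map (φ ≫ ψ)) r.1 = schRes (D.map ψ) (schRes (D.map φ) r.1)
        rw [D.map_comp, schRes_comp] }
  haveI : ∀ i, Nonempty (F.obj i) := fun i => (hne i).to_subtype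
  haveI : ∀ i, CompactSpace (F.obj i) := fun i => isCompact_iff_compactSpace.mp (hcl i).isCompact
  haveI : ∀ i, T2Space (F.obj i) := fun i => inferInstanceAs (T2Space (S i))
  obtain ⟨⟨s, hs⟩⟩ := TopCat.nonempty_limitCone_of_compact_t2_cofiltered_system.{u} F
  have hs' : ∀ (i j : I) (φ : i ⟶ j), schRes (D.map φ) (s i).1 = (s j).1 := fun i j φ =>
    congrArg Subtype.val (hs φ)
  choose st t ht using exists_appTop_π_eq_of_isAffine_of_isLimit D c hc
  -- the value at a pair, read off at any stage to which both descend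
  have key : ∀ (i j : I) (a b : Γ(D.obj i, ⊤)) (a' b' : Γ(D.obj j, ⊤)),
      (c.π.app i).appTop a = (c.π.app j).appTop a' → (c.π.app i).appTop b = (c.π.app j).appTop b' →
      (s i).1 (a, b) = (s j).1 (a', b') := by
    intro i j a b a' b' ha hb
    let k := IsCofiltered.min i j
    let p : k ⟶ i := IsCofiltered.minToLeft i j
    let q : k ⟶ j := IsCofiltered.minToRight i j
    have hw : ∀ (l : I) (m : k ⟶ l) (x : Γ(D.obj l, ⊤)),
        (c.π.app k).appTop ((D.map m).appTop x) = (c.π.app l).appTop x := fun l m x => by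
      rw [← CommRingCat.comp_apply, ← Scheme.Hom.comp_appTop, c.w]
    obtain ⟨k₁, f₁, h₁⟩ := exists_appTop_map_eq_zero_of_isAffine_of_isLimit D c hc k
      ((D.map p).appTop a - (D.map q).appTop a') (by rw [map_sub, hw, hw, ha, sub_self])
    obtain ⟨k₂, f₂, h₂⟩ := exists_appTop_map_eq_zero_of_isAffine_of_isLimit D c hc k₁
      ((D.map (f₁ ≫ p)).appTop b - (D.map (f₁ ≫ q)).appTop b')
      (by
        rw [map_sub, ← CommRingCat.comp_apply, ← CommRingCat.comp_apply, ← Scheme.Hom.comp_appTop,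
          ← Scheme.Hom.comp_appTop, c.w, c.w, hb, sub_self])
    rw [map_sub, sub_eq_zero] at h₁ h₂
    have e₁ : (D.map (f₂ ≫ f₁ ≫ p)).appTop a = (D.map (f₂ ≫ f₁ ≫ q)).appTop a' := by
      simp only [D.map_comp, Scheme.Hom.comp_appTop, CommRingCat.comp_apply]
      rw [h₁]
    have e₂ : (D.map (f₂ ≫ f₁ ≫ p)).appTop b = (D.map (f₂ ≫ f₁ ≫ q)).appTop b' := by
      simp only [D.map_comp, Scheme.Hom.comp_appTop, CommRingCat.comp_apply] at h₂ ⊢
      exact h₂
    rw [← hs' k₂ i (f₂ ≫ f₁ ≫ p), ← hs' k₂ j (f₂ ≫ f₁ ≫ q)]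
    show (s k₂).1 (_, _) = (s k₂).1 (_, _)
    exact congrArg (s k₂).1 (Prod.ext e₁ e₂)
  -- common stages
  have two : ∀ x y : Γ(c.pt, ⊤), ∃ (i : I) (a b : Γ(D.obj i, ⊤)), (c.π.app i).appTop a = x ∧ (c.π.app i).appTop b = y := by
    intro x y
    refine ⟨IsCofiltered.min (st x) (st y), (D.map (IsCofiltered.minToLeft _ _)).appTop (t x),
      (D.map (IsCofiltered.minToRight _ _)).appTop (t y), ?_, ?_⟩ <;>
    · rw [← CommRingCat.comp_apply, ← Scheme.Hom.comp_appTop, c.w, ht]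
  have three : ∀ x y z : Γ(c.pt, ⊤), ∃ (i : I) (a b e : Γ(D.obj i, ⊤)), (c.π.app i).appTop a = x ∧ (c.π.app i).appTop b = y ∧
      (c.π.app i).appTop e = z := by
    intro x y z
    obtain ⟨i, a, b, rfl, rfl⟩ := two x y
    refine ⟨IsCofiltered.min i (st z), (D.map (IsCofiltered.minToLeft _ _)).appTop a,
      (D.map (IsCofiltered.minToLeft _ _)).appTop b,
      (D.map (IsCofiltered.minToRight _ _)).appTop (t z), ?_, ?_, ?_⟩ <;>
    rw [← CommRingCat.comp_apply, ← Scheme.Hom.comp_appTop, c.w]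
    exact ht z
  choose idx ua ub hua hub using two
  let r : Γ(c.pt, ⊤) × Γ(c.pt, ⊤) → Bool := fun q => (s (idx q.1 q.2)).1 (ua q.1 q.2, ub q.1 q.2)
  have hr : ∀ (i : I) (a b : Γ(D.obj i, ⊤)), r ((c.π.app i).appTop a, (c.π.app i).appTop b) = (s i).1 (a, b) :=
    fun i a b => key _ _ _ _ _ _ (hua _ _) (hub _ _)
  have hv : ∀ i, IsVal (s i).1 := fun i => hval i _ (s i).2
  refine ⟨r, ⟨fun x y => ?_, fun x y z => ?_, fun x y z => ?_, fun x y z => ?_, fun x y z => ?_, ?_, fun x => ?_⟩,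
    fun i => ?_⟩
  · obtain ⟨i, a, b, e, rfl, rfl, -⟩ := three x y x
    rw [hr, hr]; exact (hv i).total a b
  · obtain ⟨i, a, b, e, rfl, rfl, rfl⟩ := three x y z
    rw [hr, hr, hr]; exact (hv i).trans a b e
  · obtain ⟨i, a, b, e, rfl, rfl, rfl⟩ := three x y z
    rw [← map_add, hr, hr, hr]; exact (hv i).add a b e
  · obtain ⟨i, a, b, e, rfl, rfl, rfl⟩ := three x y z
    rw [← map_mul, ← map_mul, hr, hr]; exact (hv i).mul a b e
  · obtain ⟨i, a, b, e, rfl, rfl, rfl⟩ := three x y z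
    rw [← map_mul, ← map_mul, ← map_zero (c.π.app i).appTop.hom, hr, hr, hr]
    exact (hv i).cancel a b e
  · obtain ⟨i⟩ := IsCofiltered.nonempty (C := I)
    rw [← map_one (c.π.app i).appTop.hom, ← map_zero (c.π.app i).appTop.hom, hr]
    exact (hv i).one_zero
  · obtain ⟨i, a, b, e, rfl, -⟩ := three x x x
    rw [← map_one (c.π.app i).appTop.hom, hr]
    exact (hv i).le_one a
  · have : schRes (c.π.app i) r = (s i).1 := funext fun ⟨a, b⟩ => hr i a b
    rw [this]
    exact (s i).2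

end RzLib
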