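import Groth.Agent.RzLib.Datum
import Groth.Agent.RzLib.Charts
import Groth.Agent.PhLib.Scheme
import Mathlib

/-!
# Families with the valuative lifting property are dominated by proper surjective morphisms
-/

set_option autoImplicit false
set_option linter.style.haveILetI false

noncomputable section

universe u

open AlgebraicGeometry CategoryTheory Limits

namespace RzLib

variable {A : Type u} [CommRing A] {G : ∀ W : Scheme.{u}, (W ⟶ Spec (CommRingCat.of A)) → Prop}
  {ι : Type} [Fintype ι] (D : ι → Datum A G)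

open Classical in
/-- All elements entering the conditions. -/
def els : Finset A := Finset.univ.biUnion fun i => insert (D i).b (D i).C

open Classical in
theorem b_mem_els (i : ι) : (D i).b ∈ els D :=
  Finset.mem_biUnion.2 ⟨i, Finset.mem_univ i, Finset.mem_insert_self _ _⟩

open Classical in
theorem c_mem_els (i : ι) {c : A} (hc : c ∈ (D i).C) : c ∈ els D :=
  Finset.mem_biUnion.2 ⟨i, Finset.mem_univ i, Finset.mem_insert_of_mem hc⟩

open Classical in
/-- The stratum of a prime. -/
def strat (p : PrimeSpectrum A) : Finset A := (els D).filter fun x => x ∉ p.asIdeal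

/-- The algebra through a piece, as a predicate on schemes over the base. -/
def Through : ∀ W : Scheme.{u}, (W ⟶ Spec (CommRingCat.of A)) → Prop := fun W k =>
  ∃ (i : ι) (l : W ⟶ Spec (CommRingCat.of (D i).P)),
    l ≫ Spec.map (CommRingCat.ofHom (algebraMap A (D i).P)) = k

omit [Fintype ι] in
theorem stable_through : PhLib.Stable (Through D) := by
  rintro W W' α k ⟨i, l, hl⟩
  exact ⟨i, α ≫ l, by rw [Category.assoc, hl]⟩

open Classical in
/-- The elements available over a stratum. -/
def avail (T : Finset A) : Finset ι := Finset.univ.filter fun i => (D i).b ∈ T ∧ ∀ c ∈ (D i).C, c ∉ T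

/-- The generators of a piece. -/
def el (i : ι) : Option (Fin (D i).n) → A := fun o => o.elim (D i).b (D i).a

/-- A product of choices over a stratum. -/
def chProd (T : Finset A) (ch : ∀ i, Option (Fin (D i).n)) : A := ∏ i ∈ avail D T, el D i (ch i)

open Classical in
/-- The ideal of the closure of a stratum. -/
abbrev JT (T : Finset A) : Ideal A := Ideal.span (↑(els D \ T) : Set A)

/-- The locally closed stratum as an open subset of an affine scheme. -/
abbrev LT (T : Finset A) : Type u := Localization.Away (Ideal.Quotient.mk (JT D T) (∏ x ∈ T, x))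

open Classical in
/-- The map to the stratum. -/
def toLT (T : Finset A) : A →+* LT D T := (algebraMap (A ⧸ JT D T) (LT D T)).comp (Ideal.Quotient.mk (JT D T))

open Classical in
theorem toLT_eq_zero {T : Finset A} {x : A} (hx : x ∈ els D) (hT : x ∉ T) : toLT D T x = 0 := by
  show algebraMap (A ⧸ JT D T) (LT D T) (Ideal.Quotient.mk (JT D T) x) = 0
  rw [Ideal.Quotient.eq_zero_iff_mem.2 (Ideal.subset_span (Finset.mem_coe.2 (Finset.mem_sdiff.2 ⟨hx, hT⟩))),
    map_zero]

open Classical in
theorem isUnit_toLT {T : Finset A} {x : A} (hT : x ∈ T) : IsUnit (toLT D T x) := by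
  have h1 : IsUnit (toLT D T (∏ x ∈ T, x)) :=
    IsLocalization.Away.algebraMap_isUnit (Ideal.Quotient.mk (JT D T) (∏ x ∈ T, x))
  exact isUnit_of_dvd_unit (map_dvd _ (Finset.dvd_prod_of_mem _ hT)) h1

/-- The closure of the stratum. -/
abbrev AT (T : Finset A) : Type u := A ⧸ RingHom.ker (toLT D T)

/-- The ideal which is blown up. -/
abbrev IT (T : Finset A) : Ideal (AT D T) :=
  Ideal.span (Set.range fun ch => Ideal.Quotient.mk (RingHom.ker (toLT D T)) (chProd D T ch))

/-- The structure map of a chart. -/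
abbrev chartMap (T : Finset A) (a : AT D T) : A →+* BlowUp.affineAlgebra (AT D T) (IT D T) a :=
  (algebraMap (AT D T) _).comp (Ideal.Quotient.mk _)

/-- A valuation ring dominating a prime with a given generization. -/
theorem exists_val_dominating {C : Type u} [CommRing C] (P₀ q : Ideal C) [P₀.IsPrime] [q.IsPrime] (hP₀q : P₀ ≤ q) :
    ∃ (O : Type u) (_ : CommRing O) (_ : IsDomain O) (_ : ValuationRing O) (g : C →+* O),
      (∀ z, g z = 0 ↔ z ∈ P₀) ∧ ∀ z, IsUnit (g z) → z ∉ q := by
  let K := FractionRing (C ⧸ P₀)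
  let toK : C →+* K := RingHom.comp (algebraMap (C ⧸ P₀) K) (Ideal.Quotient.mk P₀)
  have htoK : ∀ z : C, toK z = 0 ↔ z ∈ P₀ := fun z => by
    show algebraMap (C ⧸ P₀) K (Ideal.Quotient.mk P₀ z) = 0 ↔ _
    rw [map_eq_zero_iff _ (IsFractionRing.injective (C ⧸ P₀) K), Ideal.Quotient.eq_zero_iff_mem]
  let rq : Localization.AtPrime q →+* K := IsLocalization.lift (M := q.primeCompl) (g := toK)
    (fun y => isUnit_iff_ne_zero.2 fun e => y.2 (hP₀q ((htoK _).1 e)))
  obtain ⟨O, hO, hloc⟩ := IsLocalRing.exists_factor_valuationRing rq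
  let rO : Localization.AtPrime q →+* O := rq.codRestrict O.toSubring hO
  haveI : IsLocalHom rO := hloc
  refine ⟨O, inferInstance, inferInstance, inferInstance,
    rO.comp (algebraMap C (Localization.AtPrime q)), fun z => ?_, fun z hz hzq => ?_⟩
  · have hgK : (rO (algebraMap C (Localization.AtPrime q) z) : K) = toK z := IsLocalization.lift_eq _ z
    rw [← htoK z, ← hgK]
    exact ⟨fun e => congrArg Subtype.val e, fun e => Subtype.ext e⟩
  · have h1 : IsUnit (algebraMap C (Localization.AtPrime q) z) := IsUnit.of_map rO _ hz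
    exact (IsLocalization.AtPrime.isUnit_to_map_iff (Localization.AtPrime q) q z).1 h1 hzq

omit [Fintype ι] in
/-- A piece maps to a localisation in which its fractions are defined. -/
theorem exists_hom_away (i : ι) {C L : Type u} [CommRing C] [CommRing L] (κ : C →+* L)
    (hκ : Function.Injective κ) (cm : A →+* C) (u aC : C) (R : A) (Qj : Fin (D i).n → C)
    (hu : u * aC = cm ((D i).b * R)) (hQ : ∀ j, Qj j * aC = cm ((D i).a j * R)) (ha : IsUnit (κ aC))
    (hC : ∀ c ∈ (D i).C, κ (cm c) = 0) :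
    ∃ χ : (D i).P →+* Localization.Away u,
      χ.comp (algebraMap A (D i).P) = (algebraMap C (Localization.Away u)).comp cm := by
  let Cu := Localization.Away u
  let L2 := Localization.Away (κ u)
  let ψ : Cu →+* L2 := IsLocalization.Away.map Cu L2 κ u
  have hψ : Function.Injective ψ := by
    haveI : IsLocalization ((Submonoid.powers u).map κ) L2 := by rw [Submonoid.map_powers]; infer_instance
    exact IsLocalization.map_injective_of_injective (Submonoid.powers u) Cu L2 hκ
  letI : Algebra A C := cm.toAlgebra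
  letI : Algebra A L := (κ.comp cm).toAlgebra
  have hψC : ∀ z : C, ψ (algebraMap C Cu z) = algebraMap L L2 (κ z) := fun z => IsLocalization.map_eq _ _
  have hA2 : ∀ y : A, algebraMap A L2 y = algebraMap L L2 (κ (cm y)) := fun y =>
    IsScalarTower.algebraMap_apply A L L2 y
  have hAu : ∀ y : A, algebraMap A Cu y = algebraMap C Cu (cm y) := fun y =>
    IsScalarTower.algebraMap_apply A C Cu y
  have hψA : ∀ y : A, ψ (algebraMap A Cu y) = algebraMap A L2 y := fun y => by rw [hA2, hAu, hψC]
  let ψ' : Cu →ₐ[A] L2 := { ψ with commutes' := hψA }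
  let x : Fin (D i).n → Cu := fun j => algebraMap C Cu (Qj j) * IsLocalization.Away.invSelf u
  have hu2 : IsUnit (algebraMap L L2 (κ u)) := IsLocalization.Away.algebraMap_isUnit _
  have hbR : IsUnit (algebraMap A L2 ((D i).b * R)) := by
    rw [hA2, ← hu, map_mul, map_mul]
    exact hu2.mul (ha.map _)
  have hb2 : IsUnit (algebraMap A L2 (D i).b) := isUnit_of_mul_isUnit_left (by rw [← map_mul]; exact hbR)
  have hR2 : IsUnit (algebraMap A L2 R) := isUnit_of_mul_isUnit_right (by rw [← map_mul]; exact hbR)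
  have hker : ∀ p ∈ RingHom.ker (D i).π, MvPolynomial.aeval x p = 0 := fun p hp => by
    refine hψ ?_
    rw [map_zero]
    have h1 : ψ' (MvPolynomial.aeval x p) = MvPolynomial.aeval (fun j => ψ' (x j)) p :=
      AlgHom.congr_fun (MvPolynomial.comp_aeval x ψ') p
    refine h1.trans ((D i).rel L2 hb2 (fun c hc => ?_) _ (fun j => ?_) p hp)
    · rw [hA2, hC c hc, map_zero]
    · refine hR2.mul_right_cancel ?_
      rw [← map_mul (algebraMap A L2) ((D i).a j), mul_right_comm, ← map_mul (algebraMap A L2), hA2, hA2, ← hu,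
        ← hQ, map_mul κ, map_mul, map_mul κ, map_mul]
      rw [show ψ' (algebraMap C Cu (Qj j)) = algebraMap L L2 (κ (Qj j)) from hψC _,
        show ψ' (IsLocalization.Away.invSelf u) = ψ (IsLocalization.Away.invSelf u) from rfl, map_mul]
      have hinv : algebraMap L L2 (κ u) * ψ (IsLocalization.Away.invSelf u) = 1 := by
        rw [← hψC, ← map_mul, IsLocalization.Away.mul_invSelf, map_one]
      linear_combination (algebraMap L L2 (κ (Qj j)) * algebraMap L L2 (κ aC)) * hinv
  refine ⟨RingHom.liftOfSurjective (D i).π.toRingHom (D i).surj ⟨(MvPolynomial.aeval x).toRingHom, hker⟩,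
    RingHom.ext fun y => ?_⟩
  rw [RingHom.comp_apply, show algebraMap A (D i).P y = (D i).π.toRingHom (MvPolynomial.C y) from
    ((D i).π.commutes y).symm]
  refine (RingHom.liftOfRightInverse_comp_apply _ _ _ _ _).trans ?_
  exact ((MvPolynomial.aeval x).commutes y).trans (hAu y)

open Classical in
theorem exists_hom_near (hD : ∀ r, IsVal r → ∃ i, r ∈ (D i).N) (T : Finset A) (a : AT D T) (ha : a ∈ IT D T)
    (q : PrimeSpectrum (BlowUp.affineAlgebra (AT D T) (IT D T) a)) :
    ∃ u ∉ q.asIdeal, ∃ (i : ι) (χ : (D i).P →+* Localization.Away u),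
      χ.comp (algebraMap A (D i).P) = (algebraMap _ (Localization.Away u)).comp (chartMap D T a) := by
  let C := BlowUp.affineAlgebra (AT D T) (IT D T) a
  let ιT : AT D T →+* LT D T := RingHom.kerLift (toLT D T)
  have hιT : Function.Injective ιT := RingHom.kerLift_injective _
  let L3 := Localization.Away (ιT a)
  let Λ : Localization.Away a →+* L3 := IsLocalization.Away.map (Localization.Away a) L3 ιT a
  have hΛ : Function.Injective Λ := by
    haveI : IsLocalization ((Submonoid.powers a).map ιT) L3 := by rw [Submonoid.map_powers]; infer_instance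
    exact IsLocalization.map_injective_of_injective (Submonoid.powers a) (Localization.Away a) L3 hιT
  let κ : C →+* L3 := Λ.comp (BlowUp.affineAlgebra (AT D T) (IT D T) a).val.toRingHom
  have hκ : Function.Injective κ := hΛ.comp Subtype.val_injective
  have hκA : ∀ x : A, κ (chartMap D T a x) = algebraMap (LT D T) L3 (toLT D T x) := fun x => by
    show Λ (algebraMap (AT D T) (Localization.Away a) (Ideal.Quotient.mk _ x)) = _
    exact IsLocalization.map_eq _ _
  let aC : C := algebraMap (AT D T) C a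
  have hκa : IsUnit (κ aC) := by
    show IsUnit (Λ (algebraMap (AT D T) (Localization.Away a) a))
    exact (IsLocalization.Away.algebraMap_isUnit a).map Λ
  obtain ⟨P₀, hP₀, hP₀q⟩ := Ideal.exists_minimalPrimes_le (I := (⊥ : Ideal C)) (J := q.asIdeal) bot_le
  obtain ⟨P', hP', hPP'⟩ := Ideal.exists_comap_eq_of_mem_minimalPrimes_of_injective hκ P₀ hP₀
  haveI : P₀.IsPrime := hP₀.1.1
  have hnot : ∀ z : C, IsUnit (κ z) → z ∉ P₀ := fun z hz hzP => by
    rw [← hPP'] at hzP
    exact hP'.ne_top (Ideal.eq_top_of_isUnit_mem _ hzP hz)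
  obtain ⟨O, _, _, _, g, hg0, hgu⟩ := exists_val_dominating P₀ q.asIdeal hP₀q
  let f : A →+* O := g.comp (chartMap D T a)
  have hfT : ∀ x ∈ els D, (f x = 0 ↔ x ∉ T) := fun x hx => by
    refine ⟨fun h0 hT => hnot _ ?_ ((hg0 _).1 h0), fun hT => ?_⟩
    · rw [hκA]
      exact (isUnit_toLT D hT).map _
    · show g (algebraMap (AT D T) C (Ideal.Quotient.mk _ x)) = 0
      rw [Ideal.Quotient.eq_zero_iff_mem.2 (RingHom.mem_ker.2 (toLT_eq_zero D hx hT)), map_zero, map_zero]
  obtain ⟨i, hi⟩ := hD _ (isVal_relOf f)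
  obtain ⟨hb, hCz, hab⟩ := Datum.mem_N.1 hi
  rw [relOf_false_iff, map_zero, zero_dvd_iff] at hb
  have hbT : (D i).b ∈ T := by
    by_contra hT
    exact hb ((hfT _ (b_mem_els D i)).2 hT)
  have hcT : ∀ c ∈ (D i).C, c ∉ T := fun c hc => by
    have h1 := hCz c hc
    rw [relOf_iff, map_zero, zero_dvd_iff] at h1
    exact (hfT _ (c_mem_els D i hc)).1 h1
  have hiM : i ∈ avail D T := Finset.mem_filter.2 ⟨Finset.mem_univ i, hbT, hcT⟩
  let mk : A →+* AT D T := Ideal.Quotient.mk _
  let Q : (∀ i, Option (Fin (D i).n)) → C := fun ch =>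
    ⟨IsLocalization.mk' (Localization.Away a) (mk (chProd D T ch)) ⟨a, Submonoid.mem_powers a⟩,
      Algebra.subset_adjoin ⟨_, Ideal.subset_span ⟨ch, rfl⟩, rfl⟩⟩
  have hQ : ∀ ch, Q ch * aC = chartMap D T a (chProd D T ch) := fun ch =>
    Subtype.ext (IsLocalization.mk'_spec _ _ (⟨a, Submonoid.mem_powers a⟩ : Submonoid.powers a))
  obtain ⟨e, he⟩ := Ideal.mem_span_range_iff_exists_fun.1 ha
  have hgaC : g aC ≠ 0 := fun h0 => hnot _ hκa ((hg0 _).1 h0)
  obtain ⟨ch, hch⟩ : ∃ ch, IsUnit (g (Q ch)) := by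
    by_contra! hne
    have h1 : (∑ ch, g (algebraMap (AT D T) C (e ch)) * g (Q ch)) * g aC = 1 * g aC := by
      rw [one_mul]
      refine Eq.trans ?_ (congrArg (fun z => g (algebraMap (AT D T) C z)) he)
      rw [map_sum, map_sum]
      rw [Finset.sum_mul]
      refine Finset.sum_congr rfl fun ch _ => ?_
      rw [mul_assoc, ← map_mul g (Q ch), hQ, map_mul (algebraMap (AT D T) C), map_mul g]
      rfl
    have h2 := mul_right_cancel₀ hgaC h1
    refine (IsLocalRing.maximalIdeal.isMaximal O).ne_top ((Ideal.eq_top_iff_one _).2 (h2 ▸ ?_))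
    exact Ideal.sum_mem _ fun ch _ => Ideal.mul_mem_left _ _ (hne ch)
  let R : A := ∏ j ∈ (avail D T).erase i, el D j (ch j)
  have hupd : ∀ o, chProd D T (Function.update ch i o) = el D i o * R := fun o => by
    rw [chProd, ← Finset.mul_prod_erase _ _ hiM, Function.update_self]
    congr 1
    exact Finset.prod_congr rfl fun j hj => by rw [Function.update_of_ne (Finset.ne_of_mem_erase hj)]
  have hdiv : f (D i).b ∣ f (el D i (ch i)) := by
    cases ch i with
    | none => exact dvd_rfl
    | some j => exact (relOf_iff f _ _).1 (hab j)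
  let ch' := Function.update ch i none
  let u : C := Q ch'
  have hu : IsUnit (g u) := by
    obtain ⟨w, hw⟩ := hdiv
    refine isUnit_of_mul_isUnit_left (y := w) ?_
    convert hch using 1
    refine mul_right_cancel₀ hgaC ?_
    rw [← map_mul g (Q ch), hQ, mul_right_comm, ← map_mul g u, hQ, hupd]
    conv_rhs => rw [show chProd D T ch = el D i (ch i) * R by rw [← hupd, Function.update_eq_self]]
    show f (el D i none * R) * w = f (el D i (ch i) * R)
    rw [map_mul, map_mul, hw, show el D i none = (D i).b from rfl]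
    ring
  refine ⟨u, hgu u hu, i, exists_hom_away D i κ hκ (chartMap D T a) u aC R
    (fun j => Q (Function.update ch i (some j))) ?_ (fun j => ?_) hκa fun c hc => ?_⟩
  · exact (hQ ch').trans (congrArg _ (hupd none))
  · exact (hQ _).trans (congrArg _ (hupd (some j)))
  · rw [hκA, toLT_eq_zero D (c_mem_els D i hc) (hcT c hc), map_zero]

open Classical in
/-- A stratum is covered by a proper scheme through the pieces. -/
theorem exists_proper_stratum (hD : ∀ r, IsVal r → ∃ i, r ∈ (D i).N) (T : Finset A) :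
    ∃ (Z : Scheme.{u}) (π : Z ⟶ Spec (CommRingCat.of A)), IsProper π ∧
      (∀ p : Spec (CommRingCat.of A), strat D p = T → p ∈ Set.range π) ∧
      ∀ z : Z, ∃ V : Z.Opens, z ∈ V ∧ Through D V (V.ι ≫ π) := by
  let mk : A →+* AT D T := Ideal.Quotient.mk _
  obtain ⟨Z, π, hπ, hloc, hch⟩ := exists_proper_charts (IT D T)
    (Submodule.fg_span (Set.finite_range _))
  haveI : IsClosedImmersion (Spec.map (CommRingCat.ofHom mk)) :=
    IsClosedImmersion.spec_of_surjective _ Ideal.Quotient.mk_surjective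
  refine ⟨Z, π ≫ Spec.map (CommRingCat.ofHom mk), inferInstance, fun p hp => ?_, fun z => ?_⟩
  · have hmem : ∀ x ∈ els D, (x ∈ T ↔ x ∉ p.asIdeal) := fun x hx => by
      rw [← hp]
      exact ⟨fun h => (Finset.mem_filter.1 h).2, fun h => Finset.mem_filter.2 ⟨hx, h⟩⟩
    have hTels : T ⊆ els D := hp ▸ Finset.filter_subset _ _
    have hker : RingHom.ker (toLT D T) ≤ p.asIdeal := fun x hx => by
      have hx0 : algebraMap (A ⧸ JT D T) (LT D T) (Ideal.Quotient.mk (JT D T) x) = 0 := RingHom.mem_ker.1 hx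
      obtain ⟨⟨_, k, rfl⟩, hk⟩ := (IsLocalization.map_eq_zero_iff (Submonoid.powers
        (Ideal.Quotient.mk (JT D T) (∏ x ∈ T, x))) _ _).1 hx0
      change Ideal.Quotient.mk (JT D T) (∏ x ∈ T, x) ^ k * Ideal.Quotient.mk (JT D T) x = 0 at hk
      rw [← map_pow, ← map_mul, Ideal.Quotient.eq_zero_iff_mem] at hk
      have hJ : Ideal.span (↑(els D \ T) : Set A) ≤ p.asIdeal := Ideal.span_le.2 fun y hy => by
        obtain ⟨hy1, hy2⟩ := Finset.mem_sdiff.1 hy
        by_contra h
        exact hy2 ((hmem y hy1).2 h)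
      refine (p.isPrime.mem_or_mem (hJ hk)).resolve_left fun h => ?_
      obtain ⟨y, hy, hyp⟩ := p.isPrime.prod_mem_iff.1 (p.isPrime.mem_of_pow_mem _ h)
      exact (hmem y (hTels hy)).1 hy hyp
    let ch₀ : ∀ i, Option (Fin (D i).n) := fun _ => none
    let a : AT D T := mk (chProd D T ch₀)
    have hap : chProd D T ch₀ ∉ p.asIdeal := fun h => by
      obtain ⟨i, hi, hip⟩ := p.isPrime.prod_mem_iff.1 h
      exact (hmem _ (b_mem_els D i)).1 (Finset.mem_filter.1 hi).2.1 hip
    haveI : (p.asIdeal.map mk).IsPrime := Ideal.isPrime_map_quotientMk_of_isPrime hker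
    let p' : PrimeSpectrum (AT D T) := ⟨p.asIdeal.map mk, inferInstance⟩
    have hp'c : p'.asIdeal.comap mk = p.asIdeal := by
      show (p.asIdeal.map mk).comap mk = _
      rw [Ideal.comap_map_of_surjective _ Ideal.Quotient.mk_surjective, sup_eq_left, ← RingHom.ker_eq_comap_bot,
        Ideal.mk_ker]
      exact hker
    obtain ⟨w, hw⟩ : p' ∈ Set.range (PrimeSpectrum.comap (algebraMap (AT D T) (Localization.Away a))) := by
      rw [PrimeSpectrum.localization_away_comap_range (Localization.Away a) a]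
      exact fun h => hap (hp'c.le h)
    obtain ⟨c, hc⟩ := hch a (Ideal.subset_span ⟨ch₀, rfl⟩)
    let w' : Spec (CommRingCat.of (BlowUp.affineAlgebra (AT D T) (IT D T) a)) :=
      PrimeSpectrum.comap (BlowUp.affineAlgebra (AT D T) (IT D T) a).val.toRingHom w
    refine ⟨c w', ?_⟩
    rw [← Scheme.Hom.comp_apply, reassoc_of% hc, Scheme.Hom.comp_apply]
    refine PrimeSpectrum.ext (Eq.trans ?_ hp'c)
    rw [← hw]
    rfl
  · obtain ⟨a, ha, c, hc, ⟨q, rfl⟩, hcπ⟩ := hloc z
    obtain ⟨u, hu, i, χ, hχ⟩ := exists_hom_near D hD T a ha q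
    let Cu := Localization.Away u
    haveI : IsOpenImmersion (Spec.map (CommRingCat.ofHom (algebraMap _ Cu))) := IsOpenImmersion.of_isLocalization u
    let e : Spec (CommRingCat.of Cu) ⟶ Z := Spec.map (CommRingCat.ofHom (algebraMap _ Cu)) ≫ c
    refine ⟨e.opensRange, ?_, i, e.isoOpensRange.inv ≫ Spec.map (CommRingCat.ofHom χ), ?_⟩
    · obtain ⟨w, hw⟩ := (PrimeSpectrum.localization_away_comap_range Cu u).ge hu
      exact ⟨w, congrArg c hw⟩
    · rw [Category.assoc, Iso.inv_comp_eq, Scheme.Hom.isoOpensRange_hom_ι_assoc, ← Spec.map_comp]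
      show _ = (Spec.map (CommRingCat.ofHom (algebraMap _ Cu)) ≫ c) ≫ π ≫ _
      rw [Category.assoc, reassoc_of% hcπ, ← Spec.map_comp, ← Spec.map_comp]
      exact congrArg (fun φ => Spec.map (CommRingCat.ofHom φ)) hχ

open Classical in
/-- A family with the valuative lifting property is dominated by a proper surjective morphism. -/
theorem dom_of_valLifts {A : Type u} [CommRing A] {G : ∀ W : Scheme.{u}, (W ⟶ Spec (CommRingCat.of A)) → Prop}
    (hG : PhLib.Stable G) (H : ValLifts A G) : PhLib.Dom G := by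
  obtain ⟨ι, hfin, D, hD⟩ := exists_finite_data hG H
  haveI := Fintype.ofFinite ι
  suffices h1 : PhLib.Dom (Through D) by
    refine PhLib.Dom.trans (stable_through D) hG h1 fun V k hV ⟨i, l, hl⟩ => ?_
    have h2 := PhLib.Dom.baseChange (hG.restr _) l (D i).dom
    refine PhLib.Dom.mono ?_ h2
    intro W m hm
    show G W (m ≫ k)
    rw [← hl]
    have hm' : G W ((m ≫ l) ≫ Spec.map (CommRingCat.ofHom (algebraMap A (D i).P))) := hm
    rwa [Category.assoc] at hm'
  suffices key : ∀ s : Finset (Finset A), ∃ (Z : Scheme.{u}) (π : Z ⟶ Spec (CommRingCat.of A)), IsProper π ∧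
      (∀ p : Spec (CommRingCat.of A), strat D p ∈ s → p ∈ Set.range π) ∧
      ∀ z : Z, ∃ V : Z.Opens, z ∈ V ∧ Through D V (V.ι ≫ π) by
    obtain ⟨Z, π, hπ, hs, hloc⟩ := key (els D).powerset
    exact ⟨Z, π, hπ, ⟨fun p => hs p (Finset.mem_powerset.2 (Finset.filter_subset _ _))⟩, hloc⟩
  intro s
  induction s using Finset.induction with
  | empty =>
    haveI : IsFinite (Scheme.emptyTo (Spec (CommRingCat.of A))) := inferInstance
    exact ⟨∅, Scheme.emptyTo _, inferInstance, fun p hp => absurd hp (Finset.notMem_empty _),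
      fun z => isEmptyElim z⟩
  | insert T s _ ih =>
    obtain ⟨Z, π, hπ, hs, hloc⟩ := ih
    obtain ⟨Z', π', hπ', hs', hloc'⟩ := exists_proper_stratum D hD T
    have hcase : ∀ {Y : Scheme.{u}} (j : Y ⟶ Z' ⨿ Z) [IsOpenImmersion j] (ρ : Y ⟶ Spec (CommRingCat.of A)),
        j ≫ coprod.desc π' π = ρ → ∀ y, (∃ V : Y.Opens, y ∈ V ∧ Through D V (V.ι ≫ ρ)) →
        ∃ V : (Z' ⨿ Z).Opens, j y ∈ V ∧ Through D V (V.ι ≫ coprod.desc π' π) := by
      rintro Y j _ ρ hρ y ⟨V, hy, hV⟩
      refine ⟨j ''ᵁ V, ⟨y, hy, rfl⟩, ?_⟩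
      have h1 := stable_through D _ _ (j.isoImage V).inv _ hV
      rwa [← hρ, ← j.isoImage_hom_ι_assoc V, Iso.inv_hom_id_assoc] at h1
    refine ⟨Z' ⨿ Z, coprod.desc π' π, PhLib.isProper_coprodDesc π' π, fun p hp => ?_, fun z => ?_⟩
    · rcases Finset.mem_insert.1 hp with h | h
      · obtain ⟨z, hz⟩ := hs' p h
        exact ⟨coprod.inl (C := Scheme.{u}) (X := Z') (Y := Z) z,
          by rw [← Scheme.Hom.comp_apply, coprod.inl_desc]; exact hz⟩
      · obtain ⟨z, hz⟩ := hs p h
        exact ⟨coprod.inr (C := Scheme.{u}) (X := Z') (Y := Z) z,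
          by rw [← Scheme.Hom.comp_apply, coprod.inr_desc]; exact hz⟩
    · rcases (isCompl_range_inl_inr Z' Z).codisjoint.top_le (Set.mem_univ z) with ⟨y, rfl⟩ | ⟨y, rfl⟩
      · exact hcase coprod.inl π' (coprod.inl_desc _ _) y (hloc' y)
      · exact hcase coprod.inr π (coprod.inr_desc _ _) y (hloc y)

end RzLib
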