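import Groth.Agent.RzLib.FlatFP
import Groth.Agent.FinSurjLib.Main
import Groth.Agent.PhLib.Basic
import Groth.Agent.S2144
import Mathlib

/-!
# A finitely presented neighbourhood of a valuation ring valued point over which a family has a ph cover
-/

set_option autoImplicit false
set_option linter.style.haveILetI false

noncomputable section

universe u

open AlgebraicGeometry CategoryTheory Limits TensorProduct

namespace RzLib

/-- A homomorphism from a finitely presented algebra into a base change descends to a finitely presented stage. -/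
theorem descend_hom {A A₀ O B B₀ : Type u} [CommRing A] [CommRing A₀] [CommRing O] [CommRing B] [CommRing B₀]
    [Algebra A A₀] [Algebra A₀ O] [Algebra A₀ B₀] [Algebra A B] [Algebra.FinitePresentation A B]
    (ω : B →+* O ⊗[A₀] B₀)
    (hω : ∀ a, ω (algebraMap A B a) = algebraMap A₀ (O ⊗[A₀] B₀) (algebraMap A A₀ a)) :
    ∃ (A₁ : Type u) (_ : CommRing A₁) (_ : Algebra A₀ A₁) (_ : Algebra.FinitePresentation A₀ A₁)
      (_θ : A₁ →ₐ[A₀] O) (ω₁ : B →+* A₁ ⊗[A₀] B₀),
      ∀ a, ω₁ (algebraMap A B a) = algebraMap A₀ (A₁ ⊗[A₀] B₀) (algebraMap A A₀ a) := by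
  classical
  let P := MvPolynomial O A₀
  let φ : P →ₐ[A₀] O := MvPolynomial.aeval id
  have hφ : Function.Surjective φ := fun o => ⟨MvPolynomial.X o, MvPolynomial.aeval_X _ _⟩
  let Φ := Algebra.TensorProduct.map φ (AlgHom.id A₀ B₀)
  have hΦ : Function.Surjective Φ := TensorProduct.map_surjective hφ Function.surjective_id
  obtain ⟨n, f, hf, t, ht⟩ := (inferInstance : Algebra.FinitePresentation A B).out
  choose u hu using fun j : Fin n => hΦ (ω (f (MvPolynomial.X j)))
  let c : ∀ (R : Type u) [CommRing R] [Algebra A₀ R], A →+* R := fun R _ _ =>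
    (algebraMap A₀ R).comp (algebraMap A A₀)
  let E : MvPolynomial (Fin n) A →+* P ⊗[A₀] B₀ := MvPolynomial.eval₂Hom (c _) u
  have hE : Φ.toRingHom.comp E = ω.comp f.toRingHom := by
    refine MvPolynomial.ringHom_ext (fun a => ?_) fun j => ?_
    · simp only [E, RingHom.comp_apply, MvPolynomial.eval₂Hom_C, AlgHom.toRingHom_eq_coe, RingHom.coe_coe]
      rw [← MvPolynomial.algebraMap_eq, AlgHom.commutes, hω]
      exact Φ.commutes _
    · simp only [E, RingHom.comp_apply, MvPolynomial.eval₂Hom_X', AlgHom.toRingHom_eq_coe, RingHom.coe_coe]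
      exact hu j
  have hmem : ∀ g : t, E g.1 ∈ Submodule.span (P ⊗[A₀] B₀)
      ((Algebra.TensorProduct.includeLeft : P →ₐ[A₀] P ⊗[A₀] B₀) '' (RingHom.ker φ : Ideal P)) := fun g => by
    have h1 : E g.1 ∈ RingHom.ker Φ := by
      rw [RingHom.mem_ker]
      have h2 := RingHom.congr_fun hE g.1
      simp only [RingHom.comp_apply, AlgHom.toRingHom_eq_coe, RingHom.coe_coe] at h2
      rw [h2]
      have h3 : f g.1 = 0 := RingHom.mem_ker.1 (ht.le (Ideal.subset_span g.2))
      rw [h3, map_zero]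
    rw [Algebra.TensorProduct.rTensor_ker φ hφ] at h1
    exact h1
  choose T hTsub hT using fun g : t => Submodule.mem_span_finite_of_mem_span (hmem g)
  have hpre : ∀ (g : t) (z : T g), ∃ k ∈ RingHom.ker φ, (k ⊗ₜ[A₀] (1 : B₀) : P ⊗[A₀] B₀) = z.1 := fun g z => by
    obtain ⟨k, hk, hkz⟩ := hTsub g z.2
    exact ⟨k, hk, hkz⟩
  choose k hk hkz using hpre
  let K : Finset P := t.attach.biUnion fun g => (T g).attach.image (k g)
  have hK : ∀ p ∈ K, φ p = 0 := fun p hp => by
    obtain ⟨g, -, hp⟩ := Finset.mem_biUnion.1 hp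
    obtain ⟨z, -, rfl⟩ := Finset.mem_image.1 hp
    exact hk g z
  let s : Finset O := K.biUnion MvPolynomial.vars
  let ρ : P →ₐ[A₀] MvPolynomial s A₀ :=
    MvPolynomial.aeval fun o => if h : o ∈ s then MvPolynomial.X ⟨o, h⟩ else 0
  let J : Ideal (MvPolynomial s A₀) := Ideal.span ↑(K.image ρ)
  let φs : MvPolynomial s A₀ →ₐ[A₀] O := MvPolynomial.aeval Subtype.val
  have hker : ∀ x ∈ J, φs x = 0 := by
    intro x hx
    refine RingHom.mem_ker.1 ((Ideal.span_le (I := RingHom.ker φs)).2 ?_ hx)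
    intro y hy
    obtain ⟨p, hp, rfl⟩ := Finset.mem_image.1 (Finset.mem_coe.1 hy)
    show φs (ρ p) = 0
    rw [← hK p hp]
    show (φs.comp ρ).toRingHom p = φ.toRingHom p
    have h1 : (φs.comp ρ).toRingHom = MvPolynomial.eval₂Hom (algebraMap A₀ O)
        (fun o => φs (ρ (MvPolynomial.X o))) := by
      refine MvPolynomial.ringHom_ext (fun a => ?_) fun o => ?_
      · rw [MvPolynomial.eval₂Hom_C]
        show φs (ρ (MvPolynomial.C a)) = _
        rw [← MvPolynomial.algebraMap_eq, AlgHom.commutes, AlgHom.commutes]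
      · rw [MvPolynomial.eval₂Hom_X']
        rfl
    have h2 : φ.toRingHom = MvPolynomial.eval₂Hom (algebraMap A₀ O) id := rfl
    rw [h1, h2]
    refine MvPolynomial.eval₂Hom_congr' rfl (fun o ho _ => ?_) rfl
    have hos : o ∈ s := Finset.mem_biUnion.2 ⟨p, hp, ho⟩
    have h3 : ρ (MvPolynomial.X o) = MvPolynomial.X ⟨o, hos⟩ :=
      (MvPolynomial.aeval_X _ o).trans (dif_pos hos)
    show φs (ρ (MvPolynomial.X o)) = o
    rw [h3]
    exact MvPolynomial.aeval_X _ _
  let A₁ := MvPolynomial s A₀ ⧸ J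
  haveI : Algebra.FinitePresentation A₀ A₁ :=
    Algebra.FinitePresentation.of_surjective (f := Ideal.Quotient.mkₐ A₀ J) Ideal.Quotient.mk_surjective (by
      rw [show (Ideal.Quotient.mkₐ A₀ J).toRingHom = Ideal.Quotient.mk J from rfl, Ideal.mk_ker]
      exact ⟨K.image ρ, rfl⟩)
  let θ : A₁ →ₐ[A₀] O := Ideal.Quotient.liftₐ J φs hker
  let R := Algebra.TensorProduct.map ((Ideal.Quotient.mkₐ A₀ J).comp ρ) (AlgHom.id A₀ B₀)
  have hRk : ∀ g : t, R (E g.1) = 0 := fun g => by
    refine RingHom.mem_ker.1 ((Submodule.span_le (p := RingHom.ker R)).2 ?_ (hT g))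
    intro z hz
    show R z = 0
    rw [show z = _ from (hkz g ⟨z, hz⟩).symm]
    show R (k g ⟨z, hz⟩ ⊗ₜ[A₀] (1 : B₀)) = 0
    rw [Algebra.TensorProduct.map_tmul]
    have : (Ideal.Quotient.mkₐ A₀ J).comp ρ (k g ⟨z, hz⟩) = 0 := by
      refine Ideal.Quotient.eq_zero_iff_mem.2 (Ideal.subset_span (Finset.mem_coe.2 (Finset.mem_image_of_mem ρ ?_)))
      exact Finset.mem_biUnion.2 ⟨g, Finset.mem_attach _ _, Finset.mem_image_of_mem _ (Finset.mem_attach _ _)⟩
    rw [this, TensorProduct.zero_tmul]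
  have hle : RingHom.ker f.toRingHom ≤ RingHom.ker (R.toRingHom.comp E) := by
    rw [← ht]
    exact Ideal.span_le.2 fun g hg => hRk ⟨g, hg⟩
  let ω₁ : B →+* A₁ ⊗[A₀] B₀ := RingHom.liftOfSurjective f.toRingHom hf ⟨R.toRingHom.comp E, hle⟩
  refine ⟨A₁, inferInstance, inferInstance, inferInstance, θ, ω₁, fun a => ?_⟩
  have h1 : ω₁ (f (MvPolynomial.C a)) = R (E (MvPolynomial.C a)) :=
    RingHom.liftOfRightInverse_comp_apply _ _ _ ⟨R.toRingHom.comp E, hle⟩ _
  rw [← MvPolynomial.algebraMap_eq, AlgHom.commutes] at h1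
  rw [h1, MvPolynomial.algebraMap_eq]
  simp only [E, MvPolynomial.eval₂Hom_C]
  exact R.commutes _

/-- Around a valuation ring valued point which lifts, a family has a ph cover over a finitely presented algebra
through which the point factors. -/
theorem exists_fp_piece {A : Type u} [CommRing A]
    {G : ∀ W : Scheme.{u}, (W ⟶ Spec (CommRingCat.of A)) → Prop} (hG : PhLib.Stable G)
    {O : Type u} [CommRing O] [IsDomain O] [ValuationRing O] [Algebra A O]
    {W : Type u} [CommRing W] [IsDomain W] (φ : O →+* W) (hφ : Function.Injective φ) [IsLocalHom φ] [IsLocalRing W]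
    {B : Type u} [CommRing B] [Algebra A B] [Algebra.FinitePresentation A B]
    (hB : G (Spec (CommRingCat.of B)) (Spec.map (CommRingCat.ofHom (algebraMap A B)))) (χ : B →+* W)
    (hχ : χ.comp (algebraMap A B) = φ.comp (algebraMap A O)) :
    ∃ (P : Type u) (_ : CommRing P) (_ : Algebra A P) (_ : Algebra.FinitePresentation A P) (_θ : P →ₐ[A] O),
      PhLib.Dom (PhLib.restr G (Spec.map (CommRingCat.ofHom (algebraMap A P)))) := by
  letI : Algebra O W := φ.toAlgebra
  letI : Algebra A W := (φ.comp (algebraMap A O)).toAlgebra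
  haveI : IsScalarTower A O W := IsScalarTower.of_algebraMap_eq fun _ => rfl
  let χ' : B →ₐ[A] W := { χ with commutes' := fun a => RingHom.congr_fun hχ a }
  let ψ : O ⊗[A] B →ₐ[O] W :=
    Algebra.TensorProduct.lift (Algebra.ofId O W) χ' fun _ _ => Commute.all _ _
  let T := ψ.range
  haveI : Algebra.FiniteType O T := Algebra.FiniteType.of_surjective (f := ψ.rangeRestrict) ψ.rangeRestrict_surjective
  have htf : ∀ (o : O) (x : T), o ≠ 0 → o • x = 0 → x = 0 := fun o x ho hx => Subtype.ext (by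
    have h1 : φ o * x.1 = 0 := congrArg Subtype.val hx
    exact (mul_eq_zero.1 h1).resolve_left fun e => ho (hφ (e.trans (map_zero φ).symm)))
  haveI : Algebra.FinitePresentation O T := finitePresentation_of_torsionFree htf
  haveI : Module.Flat O T := Module.Flat.flat_iff_torsion_eq_bot_of_isBezout.2 (by
    rw [eq_bot_iff]
    rintro x ⟨⟨a, ha⟩, hax⟩
    exact (Submodule.mem_bot O).2 (htf a x (nonZeroDivisors.ne_zero ha) hax))
  haveI : Module.FaithfullyFlat O T := ⟨fun m hm htop => by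
    obtain rfl := IsLocalRing.eq_maximalIdeal hm
    have h1 : (1 : T) ∈ IsLocalRing.maximalIdeal O • (⊤ : Submodule O T) := by rw [htop]; exact Submodule.mem_top
    have h2 : ∀ y ∈ IsLocalRing.maximalIdeal O • (⊤ : Submodule O T), (y : W) ∈ IsLocalRing.maximalIdeal W := by
      intro y hy
      refine Submodule.smul_induction_on hy (fun o ho z _ => ?_) fun a b ha hb => add_mem ha hb
      exact Ideal.mul_mem_right (z : W) _ (map_nonunit φ o ho)
    exact (IsLocalRing.maximalIdeal.isMaximal W).ne_top ((Ideal.eq_top_iff_one _).2 (h2 _ h1))⟩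
  obtain ⟨A₀, B₀, iA₀, iB₀, iAA₀, iA₀O, iT, iA₀B₀, hfpA₀, hfpB₀, hff, ⟨e⟩⟩ :=
    Groth.Agent.S2144.result (R := A) (A := O) (B := T)
  let ω : B →+* O ⊗[A₀] B₀ := e.toAlgHom.toRingHom.comp (ψ.rangeRestrict.toRingHom.comp
    (Algebra.TensorProduct.includeRight : B →ₐ[A] O ⊗[A] B).toRingHom)
  have hω : ∀ a, ω (algebraMap A B a) = algebraMap A₀ (O ⊗[A₀] B₀) (algebraMap A A₀ a) := fun a => by
    show e (ψ.rangeRestrict ((Algebra.TensorProduct.includeRight : B →ₐ[A] O ⊗[A] B) (algebraMap A B a))) = _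
    rw [AlgHom.commutes, IsScalarTower.algebraMap_apply A O (O ⊗[A] B), AlgHom.commutes, AlgEquiv.commutes,
      IsScalarTower.algebraMap_apply A A₀ O, ← IsScalarTower.algebraMap_apply A₀ O]
  obtain ⟨A₁, _, _, _, θ, ω₁, hω₁⟩ := descend_hom ω hω
  letI : Algebra A A₁ := ((algebraMap A₀ A₁).comp (algebraMap A A₀)).toAlgebra
  haveI : IsScalarTower A A₀ A₁ := IsScalarTower.of_algebraMap_eq fun _ => rfl
  haveI := hfpA₀
  haveI : Algebra.FinitePresentation A A₁ := Algebra.FinitePresentation.trans A A₀ A₁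
  haveI := hfpB₀; haveI := hff
  refine ⟨A₁, inferInstance, inferInstance, inferInstance, θ.restrictScalars A, ?_⟩
  let B₁ := A₁ ⊗[A₀] B₀
  let g : Spec (CommRingCat.of B₁) ⟶ Spec (CommRingCat.of A₁) :=
    Spec.map (CommRingCat.ofHom (algebraMap A₁ B₁))
  haveI : Flat g := (HasRingHomProperty.Spec_iff (P := @Flat)).2 (RingHom.flat_algebraMap_iff.2 inferInstance)
  haveI : LocallyOfFinitePresentation g :=
    (HasRingHomProperty.Spec_iff (P := @LocallyOfFinitePresentation)).2
      (RingHom.finitePresentation_algebraMap.2 inferInstance)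
  haveI : Surjective g := ⟨PrimeSpectrum.comap_surjective_of_faithfullyFlat (A := A₁) (B := B₁)⟩
  obtain ⟨S', π, hs, hπ, -, hloc⟩ := FinSurjLib.exists_finite_cover g
  haveI := hπ
  refine ⟨S', π, inferInstance, hs, fun y => ?_⟩
  obtain ⟨V, l, hy, hl⟩ := hloc y
  refine ⟨V, hy, ?_⟩
  show G _ ((V.ι ≫ π) ≫ _)
  have h1 : Spec.map (CommRingCat.ofHom ω₁) ≫ Spec.map (CommRingCat.ofHom (algebraMap A B)) =
      g ≫ Spec.map (CommRingCat.ofHom (algebraMap A A₁)) := by
    rw [← Spec.map_comp, ← Spec.map_comp]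
    congr 1
    ext a
    show ω₁ (algebraMap A B a) = algebraMap A₁ B₁ (algebraMap A₀ A₁ (algebraMap A A₀ a))
    rw [hω₁, IsScalarTower.algebraMap_apply A₀ A₁ B₁]
  have h2 : (V.ι ≫ π) ≫ Spec.map (CommRingCat.ofHom (algebraMap A A₁)) =
      (l ≫ Spec.map (CommRingCat.ofHom ω₁)) ≫ Spec.map (CommRingCat.ofHom (algebraMap A B)) := by
    rw [← hl, Category.assoc, Category.assoc, h1]
  rw [h2]
  exact hG _ _ _ _ hB

end RzLib
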