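import Groth.Agent.RzLib.Vals
import Groth.Agent.RzLib.Piece
import Mathlib

/-!
# Finitely many pieces cover the space of valuation ring valued points
-/

set_option autoImplicit false
set_option linter.style.haveILetI false

noncomputable section

universe u

open AlgebraicGeometry CategoryTheory Limits

namespace RzLib

/-- The hypothesis that valuation ring valued points lift, after an extension, to a finitely presented member. -/
def ValLifts (A : Type u) [CommRing A] (G : ∀ W : Scheme.{u}, (W ⟶ Spec (CommRingCat.of A)) → Prop) : Prop :=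
  ∀ (O : Type u) [CommRing O] [IsDomain O] [ValuationRing O] (f : A →+* O),
    ∃ (W : Type u) (_ : CommRing W) (_ : IsDomain W) (_ : IsLocalRing W) (φ : O →+* W),
      Function.Injective φ ∧ IsLocalHom φ ∧
      ∃ (B : Type u) (_ : CommRing B) (_ : Algebra A B) (_ : Algebra.FinitePresentation A B) (χ : B →+* W),
        G (Spec (CommRingCat.of B)) (Spec.map (CommRingCat.ofHom (algebraMap A B))) ∧
        χ.comp (algebraMap A B) = φ.comp f

/-- A finitely presented piece, with the finitely many conditions under which a point factors through it. -/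
structure Datum (A : Type u) [CommRing A] (G : ∀ W : Scheme.{u}, (W ⟶ Spec (CommRingCat.of A)) → Prop) :
    Type (u + 1) where
  P : Type u
  [ring : CommRing P]
  [alg : Algebra A P]
  n : ℕ
  b : A
  a : Fin n → A
  C : Finset A
  π : MvPolynomial (Fin n) A →ₐ[A] P
  surj : Function.Surjective π
  dom : PhLib.Dom (PhLib.restr G (Spec.map (CommRingCat.ofHom (algebraMap A P))))
  rel : ∀ (L : Type u) [CommRing L] [Algebra A L], IsUnit (algebraMap A L b) →
    (∀ c ∈ C, algebraMap A L c = 0) → ∀ x : Fin n → L, (∀ j, algebraMap A L b * x j = algebraMap A L (a j)) →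
    ∀ g ∈ RingHom.ker π, MvPolynomial.aeval x g = 0

attribute [instance] Datum.ring Datum.alg

variable {A : Type u} [CommRing A] {G : ∀ W : Scheme.{u}, (W ⟶ Spec (CommRingCat.of A)) → Prop}

/-- The points of a piece. -/
def Datum.N (d : Datum A G) : Set (A × A → Bool) :=
  {r | r (d.b, 0) = false} ∩ (⋂ c ∈ d.C, {r | r (c, 0) = true}) ∩ ⋂ j, {r | r (d.a j, d.b) = true}

theorem Datum.mem_N {d : Datum A G} {r : A × A → Bool} :
    r ∈ d.N ↔ r (d.b, 0) = false ∧ (∀ c ∈ d.C, r (c, 0) = true) ∧ ∀ j, r (d.a j, d.b) = true := by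
  simp only [Datum.N, Set.mem_inter_iff, Set.mem_iInter, and_assoc]
  exact Iff.rfl

theorem Datum.isOpen_N (d : Datum A G) : IsOpen d.N :=
  ((isOpen_bool _ _).inter (isOpen_biInter_finset fun _ _ => isOpen_bool _ _)).inter
    (isOpen_iInter_of_finite fun _ => isOpen_bool _ _)

/-- A point at which the family lifts lies in a piece. -/
theorem exists_datum_of_point (hG : PhLib.Stable G) {r : A × A → Bool} (hr : IsVal r)
    (H : ∀ (O : Type u) [CommRing O] [IsDomain O] [ValuationRing O] (f : A →+* O),
      (∀ o : O, ∃ a b, f b ≠ 0 ∧ o * f b = f a) → (∀ a b, r (a, b) = true ↔ f b ∣ f a) →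
      ∃ (W : Type u) (_ : CommRing W) (_ : IsDomain W) (_ : IsLocalRing W) (φ : O →+* W),
        Function.Injective φ ∧ IsLocalHom φ ∧
        ∃ (B : Type u) (_ : CommRing B) (_ : Algebra A B) (_ : Algebra.FinitePresentation A B) (χ : B →+* W),
          G (Spec (CommRingCat.of B)) (Spec.map (CommRingCat.ofHom (algebraMap A B))) ∧
          χ.comp (algebraMap A B) = φ.comp f) :
    ∃ d : Datum A G, r ∈ d.N := by
  classical
  obtain ⟨O, _, _, _, f, hfrac, hrf⟩ := exists_val_point hr
  letI : Algebra A O := f.toAlgebra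
  obtain ⟨W, _, _, _, φ, hφ, hloc, B, _, _, _, χ, hB, hχ⟩ := H O f hfrac hrf
  haveI := hloc
  obtain ⟨P, _, _, _, θ, hdom⟩ := exists_fp_piece hG φ hφ hB χ hχ
  obtain ⟨n, π, hπ, t, ht⟩ := (inferInstance : Algebra.FinitePresentation A P).out
  choose a₀ b₀ hb₀ hab using fun j : Fin n => hfrac (θ (π (MvPolynomial.X j)))
  let b : A := ∏ j, b₀ j
  let a : Fin n → A := fun j => a₀ j * ∏ i ∈ Finset.univ.erase j, b₀ i
  let x : Fin n → O := fun j => θ (π (MvPolynomial.X j))
  have hxb : ∀ j, f b * x j = f (a j) := fun j => by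
    show f (∏ i, b₀ i) * _ = f (a₀ j * _)
    rw [← Finset.mul_prod_erase Finset.univ b₀ (Finset.mem_univ j), map_mul, map_mul, ← hab j]
    ring
  have hfb : f b ≠ 0 := by
    show f (∏ i, b₀ i) ≠ 0
    rw [map_prod]
    exact Finset.prod_ne_zero_iff.2 fun i _ => hb₀ i
  let Lb := Localization.Away b
  let y : Fin n → Lb := fun j => IsLocalization.mk' Lb (a j) (⟨b, Submonoid.mem_powers b⟩ : Submonoid.powers b)
  choose k hk using fun g : MvPolynomial (Fin n) A =>
    IsLocalization.Away.surj (S := Lb) b (MvPolynomial.aeval y g)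
  choose c hc using hk
  have key : ∀ (L : Type u) [CommRing L] [Algebra A L], IsUnit (algebraMap A L b) →
      ∀ x' : Fin n → L, (∀ j, algebraMap A L b * x' j = algebraMap A L (a j)) →
      ∀ g, MvPolynomial.aeval x' g * algebraMap A L b ^ k g = algebraMap A L (c g) := by
    intro L _ _ hu x' hx' g
    let Λ : Lb →ₐ[A] L := IsLocalization.liftAlgHom (M := Submonoid.powers b) (f := Algebra.ofId A L) (fun z => by
      obtain ⟨_, m, rfl⟩ := z
      rw [map_pow]
      exact hu.pow m)
    have hΛy : (fun j => Λ (y j)) = x' := funext fun j => by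
      refine hu.mul_left_cancel ?_
      rw [hx', ← Λ.commutes b, ← map_mul,
        show algebraMap A Lb b * y j = algebraMap A Lb (a j) from
          IsLocalization.mk'_spec' Lb (a j) (⟨b, Submonoid.mem_powers b⟩ : Submonoid.powers b), Λ.commutes]
    have h1 := congrArg Λ (hc g)
    rw [map_mul, map_pow, Λ.commutes, Λ.commutes] at h1
    rw [← h1, ← hΛy]
    exact congrArg (· * _) (AlgHom.congr_fun (MvPolynomial.comp_aeval y Λ) g).symm
  refine ⟨{ P := P, n := n, b := b, a := a, C := t.image c, π := π, surj := hπ, dom := hdom,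
            rel := fun L _ _ hu hC x' hx' g hg => ?_ }, Datum.mem_N.2 ⟨?_, ?_, ?_⟩⟩
  · have hg : g ∈ Ideal.span (t : Set (MvPolynomial (Fin n) A)) := ht.ge hg
    refine Submodule.span_induction (p := fun g _ => MvPolynomial.aeval x' g = 0) ?_ (map_zero _)
      (fun u v _ _ hu' hv' => by rw [map_add, hu', hv', add_zero])
      (fun u v _ hv' => by rw [smul_eq_mul, map_mul, hv', mul_zero]) hg
    intro g' hg'
    refine (hu.pow (k g')).mul_left_eq_zero.1 ?_
    rw [key L hu x' hx' g', hC _ (Finset.mem_image_of_mem c hg')]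
  · rw [← Bool.not_eq_true, hrf, map_zero, zero_dvd_iff]
    exact hfb
  · intro cc hcc
    obtain ⟨g, hg, rfl⟩ := Finset.mem_image.1 hcc
    rw [hrf, map_zero, zero_dvd_iff]
    let K := FractionRing O
    have hu : IsUnit (algebraMap A K b) := by
      rw [IsScalarTower.algebraMap_apply A O K, isUnit_iff_ne_zero]
      exact (map_ne_zero_iff _ (IsFractionRing.injective O K)).2 hfb
    have h1 := key K hu (fun j => algebraMap O K (x j)) (fun j => by
      rw [IsScalarTower.algebraMap_apply A O K, IsScalarTower.algebraMap_apply A O K, ← map_mul]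
      exact congrArg _ (hxb j)) g
    have h2 : MvPolynomial.aeval x g = 0 := by
      have : MvPolynomial.aeval x g = θ (π g) :=
        (AlgHom.congr_fun (MvPolynomial.aeval_unique (θ.comp π)) g).symm
      have h0 : π g = 0 := ht.le (Ideal.subset_span hg)
      rw [this, h0, map_zero]
    rw [show (fun j => algebraMap O K (x j)) = algebraMap O K ∘ x from rfl, MvPolynomial.aeval_algebraMap_apply,
      h2, map_zero, zero_mul, IsScalarTower.algebraMap_apply A O K] at h1
    exact (map_eq_zero_iff _ (IsFractionRing.injective O K)).1 h1.symm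
  · intro j
    rw [hrf]
    exact ⟨x j, (hxb j).symm⟩

/-- Every point lies in a piece. -/
theorem exists_datum (hG : PhLib.Stable G) (H : ValLifts A G) {r : A × A → Bool} (hr : IsVal r) :
    ∃ d : Datum A G, r ∈ d.N :=
  exists_datum_of_point hG hr fun O _ _ _ f _ _ => H O f

/-- Finitely many pieces contain every point. -/
theorem exists_finite_data (hG : PhLib.Stable G) (H : ValLifts A G) :
    ∃ (ι : Type) (_ : Finite ι) (D : ι → Datum A G), ∀ r, IsVal r → ∃ i, r ∈ (D i).N := by
  obtain ⟨s, hs⟩ := (isCompact_isVal (A := A)).elim_finite_subcover (fun d : Datum A G => d.N)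
    (fun d => d.isOpen_N) fun r hr => Set.mem_iUnion.2 (exists_datum hG H hr)
  refine ⟨Fin s.card, inferInstance, fun i => (s.equivFin.symm i).1, fun r hr => ?_⟩
  obtain ⟨d, hd, hrd⟩ := Set.mem_iUnion₂.1 (hs hr)
  refine ⟨s.equivFin ⟨d, hd⟩, ?_⟩
  show r ∈ ((s.equivFin.symm (s.equivFin ⟨d, hd⟩)).1).N
  rw [Equiv.symm_apply_apply]
  exact hrd

end RzLib
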