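import Groth.Agent.RzLib.FlatFP
import Mathlib

/-!
# Finite modules, torsion free over a valuation ring, over algebras essentially of finite type
-/

set_option autoImplicit false

noncomputable section

universe u

open MvPolynomial TrivSqZeroExt

namespace RzLib

variable {O : Type u} [CommRing O] [IsDomain O] [ValuationRing O]

/-- A saturated submodule of a finite free module over a polynomial ring over a valuation ring is finitely generated. -/
theorem fg_of_saturated_submodule {σ κ : Type u} [Finite σ] [Finite κ]
    (R : Submodule (MvPolynomial σ O) (κ → MvPolynomial σ O))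
    (hsat : ∀ (c : O) (r : κ → MvPolynomial σ O), c ≠ 0 → c • r ∈ R → r ∈ R) : R.FG := by
  classical
  letI := Fintype.ofFinite κ
  let P := MvPolynomial σ O
  let T := TrivSqZeroExt P (κ → P)
  let Λ : MvPolynomial (σ ⊕ κ) O →ₐ[O] T :=
    aeval (Sum.elim (fun s => inl (X s)) fun i => inr (Pi.single i 1))
  have hinl : ∀ p : P, Λ (rename Sum.inl p) = inl p := fun p => by
    rw [show Λ (rename Sum.inl p) = aeval (fun s => (inl (X s) : T)) p from aeval_rename _ _ _]
    have h := comp_aeval_apply (X : σ → P) (TrivSqZeroExt.inlAlgHom O P (κ → P)) p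
    rw [aeval_X_left_apply] at h
    exact h.symm
  have hΛ : Function.Surjective Λ := fun x => by
    refine ⟨rename Sum.inl x.fst + ∑ i, rename Sum.inl (x.snd i) * X (Sum.inr i), ?_⟩
    rw [map_add, hinl, map_sum]
    have : ∀ i, Λ (rename Sum.inl (x.snd i) * X (Sum.inr i)) = inr (Pi.single i (x.snd i)) := fun i => by
      rw [map_mul, hinl, show Λ (X (Sum.inr i)) = inr (Pi.single i 1) from aeval_X _ _, inl_mul_inr,
        ← Pi.single_smul', smul_eq_mul, mul_one]
    rw [Finset.sum_congr rfl fun i _ => this i, ← inr_sum, Finset.univ_sum_single]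
    exact inl_fst_add_inr_snd_eq x
  let K : Ideal T :=
    { carrier := {x | x.fst = 0 ∧ x.snd ∈ R}
      zero_mem' := ⟨rfl, R.zero_mem⟩
      add_mem' := fun {x y} hx hy => ⟨(fst_add x y).trans (by rw [hx.1, hy.1, add_zero]), R.add_mem hx.2 hy.2⟩
      smul_mem' := fun a x hx => ⟨(fst_mul a x).trans (by rw [hx.1, mul_zero]), by
        show (a * x).snd ∈ R
        rw [snd_mul, hx.1]
        simpa using R.smul_mem a.fst hx.2⟩ }
  obtain ⟨s, hs⟩ := fg_of_saturated (K.comap Λ.toRingHom) fun c g hc hg => by
    rw [Ideal.mem_comap] at hg ⊢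
    have h : c • Λ g ∈ K := by rwa [← map_smul, ← C_mul']
    refine ⟨?_, hsat c _ hc h.2⟩
    exact (smul_eq_zero.1 h.1).resolve_left hc
  refine ⟨s.image fun g => (Λ g).snd, le_antisymm (Submodule.span_le.2 fun r hr => ?_) fun r hr => ?_⟩
  · obtain ⟨g, hg, rfl⟩ := Finset.mem_image.1 hr
    exact (hs.le (Ideal.subset_span hg) : Λ g ∈ K).2
  · obtain ⟨g, hg⟩ := hΛ (inr r)
    have hgK : g ∈ K.comap Λ.toRingHom := by
      show Λ g ∈ K
      rw [hg]; exact ⟨rfl, hr⟩
    rw [← hs] at hgK
    have h2 : (Λ g).fst = 0 ∧ (Λ g).snd ∈ Submodule.span P (↑(s.image fun g => (Λ g).snd) : Set (κ → P)) := by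
      refine Submodule.span_induction
        (p := fun g _ => (Λ g).fst = 0 ∧ (Λ g).snd ∈ Submodule.span P (↑(s.image fun g => (Λ g).snd) : Set (κ → P)))
        (fun x hx => ⟨(hs.le (Ideal.subset_span hx) : Λ x ∈ K).1, Submodule.subset_span (Finset.mem_image_of_mem _ hx)⟩)
        (by rw [map_zero]; exact ⟨rfl, zero_mem _⟩)
        (fun x y _ _ hx hy => by rw [map_add, fst_add, snd_add, hx.1, hy.1, add_zero]; exact ⟨rfl, Submodule.add_mem _ hx.2 hy.2⟩)
        (fun a x _ hx => ⟨by rw [smul_eq_mul, map_mul, fst_mul, hx.1, mul_zero], ?_⟩) hgK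
      rw [smul_eq_mul, map_mul, snd_mul, hx.1]
      simpa using Submodule.smul_mem _ (Λ a).fst hx.2
    simpa [hg] using h2.2

/-- A finite module over an algebra essentially of finite type over a valuation ring which is torsion free over
the valuation ring is finitely presented. -/
theorem module_finitePresentation_of_essFiniteType {B M : Type u} [CommRing B] [Algebra O B]
    [Algebra.EssFiniteType O B] [AddCommGroup M] [Module B M] [Module O M] [IsScalarTower O B M]
    [Module.Finite B M] (h : ∀ (c : O) (m : M), c ≠ 0 → c • m = 0 → m = 0) : Module.FinitePresentation B M := by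
  classical
  obtain ⟨k, q, hq⟩ := Module.Finite.exists_fin' B M
  obtain ⟨σ, hσ⟩ := (Algebra.essFiniteType_iff O B).1 inferInstance
  let π : MvPolynomial σ O →ₐ[O] B := aeval (fun x => (x : B))
  have hπ : Algebra.adjoin O (σ : Set B) ≤ π.range := by
    refine Algebra.adjoin_le fun x hx => ⟨X ⟨x, hx⟩, aeval_X _ _⟩
  let P := MvPolynomial σ O
  let κ : Type u := ULift.{u} (Fin k)
  let img : (κ → P) → (Fin k → B) := fun r i => π (r ⟨i⟩)
  let R : Submodule P (κ → P) :=
    { carrier := {r | q (img r) = 0}
      zero_mem' := by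
        show q (img 0) = 0
        rw [show img 0 = 0 from funext fun i => map_zero π, map_zero]
      add_mem' := fun {x y} hx hy => by
        show q (img (x + y)) = 0
        rw [show img (x + y) = img x + img y from funext fun i => map_add π _ _, map_add, hx, hy, add_zero]
      smul_mem' := fun a x hx => by
        show q (img (a • x)) = 0
        rw [show img (a • x) = π a • img x from funext fun i => map_mul π _ _, map_smul, hx, smul_zero] }
  obtain ⟨s, hs⟩ := fg_of_saturated_submodule R fun c r hc hr => h c _ hc (by
    have : q (img (c • r)) = 0 := hr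
    rwa [show img (c • r) = c • img r from funext fun i => map_smul π _ _, ← algebraMap_smul B c (img r),
      map_smul, algebraMap_smul] at this)
  refine Module.finitePresentation_of_surjective q hq ⟨s.image img, le_antisymm (Submodule.span_le.2 fun x hx => ?_)
    fun b hb => ?_⟩
  · obtain ⟨r, hr, rfl⟩ := Finset.mem_image.1 hx
    exact (hs.le (Submodule.subset_span hr) : r ∈ R)
  choose t ht htu hbt using fun i => hσ (b i)
  let T := ∏ i, t i
  have hT : ∀ i, T * b i ∈ π.range := fun i => by
    rw [show T * b i = (b i * t i) * ∏ j ∈ Finset.univ.erase i, t j by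
      show (∏ j, t j) * b i = _
      rw [← Finset.mul_prod_erase Finset.univ t (Finset.mem_univ i)]; ring]
    exact mul_mem (hπ (hbt i)) (prod_mem fun j _ => hπ (ht j))
  choose r hr using hT
  have hu : IsUnit T := IsUnit.prod_iff.2 fun i _ => htu i
  have himg : img (fun i => r i.down) = T • b := funext fun i => hr i
  have hrR : (fun i : κ => r i.down) ∈ R := by
    show q _ = 0
    rw [himg, map_smul, LinearMap.mem_ker.1 hb, smul_zero]
  have hmem : ∀ x ∈ R, img x ∈ Submodule.span B (↑(s.image img) : Set (Fin k → B)) := fun x hx => by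
    rw [← hs] at hx
    refine Submodule.span_induction (p := fun x _ => img x ∈ _)
      (fun y hy => Submodule.subset_span (Finset.mem_image_of_mem _ hy)) ?_ ?_ ?_ hx
    · rw [show img 0 = 0 from funext fun i => map_zero π]; exact zero_mem _
    · intro x y _ _ hx hy
      rw [show img (x + y) = img x + img y from funext fun i => map_add π _ _]
      exact add_mem hx hy
    · intro a x _ hx
      rw [show img (a • x) = π a • img x from funext fun i => map_mul π _ _]
      exact Submodule.smul_mem _ _ hx
  have := hmem _ hrR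
  rw [himg] at this
  exact (Submodule.smul_mem_iff_of_isUnit _ hu).1 this

end RzLib
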