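import Groth.Agent.RzLib.HTop
import Groth.Agent.VCovLib.Basic
import Mathlib

/-!
# The set of valuation ring valued points at which a family lifts is open
-/

set_option autoImplicit false
set_option linter.style.haveILetI false

noncomputable section

universe w u

open AlgebraicGeometry CategoryTheory Limits

namespace RzLib

/-- Restriction of a relation along a ring homomorphism. -/
def resRel {A B : Type u} [CommRing A] [CommRing B] (f : A →+* B) (r : B × B → Bool) : A × A → Bool :=
  fun p => r (f p.1, f p.2)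

theorem continuous_resRel {A B : Type u} [CommRing A] [CommRing B] (f : A →+* B) :
    Continuous (resRel f) :=
  continuous_pi fun p => continuous_apply (f p.1, f p.2)

theorem resRel_resRel {A B C : Type u} [CommRing A] [CommRing B] [CommRing C] (f : A →+* B) (g : B →+* C)
    (r : C × C → Bool) : resRel f (resRel g r) = resRel (g.comp f) r := rfl

open Classical in
theorem relOf_comp {A B O : Type u} [CommRing A] [CommRing B] [CommRing O] (f : A →+* B) (g : B →+* O) :
    relOf (g.comp f) = resRel f (relOf g) := rfl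

theorem IsVal.resRel {A B : Type u} [CommRing A] [CommRing B] (f : A →+* B) {r : B × B → Bool} (hr : IsVal r) :
    IsVal (RzLib.resRel f r) := by
  refine ⟨fun x y => hr.total _ _, fun x y z => hr.trans _ _ _, fun x y z h1 h2 => ?_, fun x y z h => ?_,
    fun x y z h1 h2 => ?_, ?_, fun x => ?_⟩ <;> simp only [RzLib.resRel, map_add, map_mul, map_one, map_zero] at *
  · exact hr.add _ _ _ h1 h2
  · exact hr.mul _ _ _ h
  · exact hr.cancel _ _ _ h1 h2
  · exact hr.one_zero
  · exact hr.le_one _

/-- A point of `T` with values in a valuation ring lifts, after an extension, to a member of a family. -/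
def LiftVal {T : Scheme.{u}} (E : PreZeroHypercover.{w} T) (V : CommRingCat.{u}) [IsDomain V] [ValuationRing V]
    (s : Spec V ⟶ T) : Prop :=
  ∃ (W : CommRingCat.{u}) (_ : IsDomain W) (_ : ValuationRing W) (φ : V ⟶ W),
    HTop.IsExtVal V W φ ∧ ∃ (i : E.I₀) (s' : Spec W ⟶ E.X i), s' ≫ E.f i = Spec.map φ ≫ s

/-- The valuation ring of a point maps to any valuation ring with the same relation. -/
theorem exists_valMap {A O V : Type u} [CommRing A] [CommRing O] [IsDomain O] [ValuationRing O] [CommRing V]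
    [IsDomain V] (f : A →+* O) (hfrac : ∀ o : O, ∃ a b, f b ≠ 0 ∧ o * f b = f a) (g : A →+* V)
    (h : ∀ a b, f b ∣ f a ↔ g b ∣ g a) :
    ∃ ι : O →+* V, Function.Injective ι ∧ IsLocalHom ι ∧ ι.comp f = g := by
  have hz : ∀ a, f a = 0 ↔ g a = 0 := fun a => by
    have := h a 0
    rwa [map_zero, map_zero, zero_dvd_iff, zero_dvd_iff] at this
  choose a b hb hab using hfrac
  have hex : ∀ o, ∃ x : V, x * g (b o) = g (a o) := fun o => by
    obtain ⟨x, hx⟩ := (h (a o) (b o)).1 ⟨o, by rw [mul_comm]; exact (hab o).symm⟩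
    exact ⟨x, by rw [mul_comm]; exact hx.symm⟩
  choose ι hι using hex
  have heq : ∀ a₁ a₂, f a₁ = f a₂ → g a₁ = g a₂ := fun a₁ a₂ e => by
    rw [← sub_eq_zero, ← map_sub, ← hz, map_sub, e, sub_self]
  have key : ∀ (o : O) (a' b' : A), f b' ≠ 0 → o * f b' = f a' → ι o * g b' = g a' := fun o a' b' hb' h' => by
    refine mul_right_cancel₀ (b := g (b o)) (fun e => hb o ((hz _).2 e)) ?_
    have h2 := heq (a o * b') (a' * b o) (by rw [map_mul, map_mul, ← hab, ← h']; ring)
    rw [map_mul, map_mul] at h2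
    rw [← h2, ← hι o]; ring
  have hbb : ∀ x y, f (b x * b y) ≠ 0 := fun x y => by rw [map_mul]; exact mul_ne_zero (hb x) (hb y)
  let φ : O →+* V :=
    { toFun := ι
      map_one' := by
        have := key 1 1 1 (by simp) (by simp)
        simpa using this
      map_zero' := by
        have := key 0 0 1 (by simp) (by simp)
        simpa using this
      map_mul' := fun x y => by
        have h1 := key (x * y) (a x * a y) (b x * b y) (hbb x y) (by rw [map_mul, map_mul, ← hab, ← hab]; ring)
        refine mul_right_cancel₀ (b := g (b x * b y)) (fun e => hbb x y ((hz _).2 e)) ?_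
        rw [h1, map_mul, map_mul, ← hι, ← hι]; ring
      map_add' := fun x y => by
        have h1 := key (x + y) (a x * b y + a y * b x) (b x * b y) (hbb x y)
          (by rw [map_mul, map_add, map_mul, map_mul, ← hab, ← hab]; ring)
        refine mul_right_cancel₀ (b := g (b x * b y)) (fun e => hbb x y ((hz _).2 e)) ?_
        rw [h1, map_mul, map_add, map_mul, map_mul, ← hι, ← hι]; ring }
  have hφf : ∀ x, φ (f x) = g x := fun x => show ι (f x) = g x by simpa using key (f x) x 1 (by simp) (by simp)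
  refine ⟨φ, ?_, ⟨fun o ho => ?_⟩, RingHom.ext hφf⟩
  · rw [injective_iff_map_eq_zero]
    intro o ho
    have h1 := hι o
    rw [show ι o = 0 from ho, zero_mul] at h1
    have h2 := hab o
    rw [(hz _).2 h1.symm, mul_eq_zero] at h2
    exact h2.resolve_right (hb o)
  · obtain ⟨u, hu⟩ := ho
    have h1 : g (a o) ∣ g (b o) := ⟨(u⁻¹ : Vˣ), by
      rw [← hι o, show ι o = u from hu.symm, mul_right_comm, Units.mul_inv, one_mul]⟩
    obtain ⟨c, hc⟩ := (h (b o) (a o)).2 h1
    refine IsUnit.of_mul_eq_one c (mul_right_cancel₀ (hb o) ?_)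
    rw [one_mul, mul_right_comm, hab o, ← hc]

variable {A : Type u} [CommRing A]

/-- A point in a piece lifts. -/
theorem liftVal_of_mem_N {T : Scheme.{u}} (E : PreZeroHypercover.{w} T) (g : Spec (CommRingCat.of A) ⟶ T)
    (d : Datum A (PhLib.Lifts E g)) (V : CommRingCat.{u}) [IsDomain V] [ValuationRing V]
    (f : A →+* V) (hd : relOf f ∈ d.N) : LiftVal E V (Spec.map (CommRingCat.ofHom f) ≫ g) := by
  obtain ⟨hb, hC, ha⟩ := Datum.mem_N.1 hd
  rw [relOf_false_iff, map_zero, zero_dvd_iff] at hb
  have hC' : ∀ c ∈ d.C, f c = 0 := fun c hc => by simpa [relOf_iff] using hC c hc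
  choose x hx using fun j => (relOf_iff f _ _).1 (ha j)
  letI : Algebra A V := f.toAlgebra
  let K := FractionRing V
  have hu : IsUnit (algebraMap A K d.b) := by
    rw [IsScalarTower.algebraMap_apply A V K, isUnit_iff_ne_zero]
    exact (map_ne_zero_iff _ (IsFractionRing.injective V K)).2 hb
  have hker : ∀ p ∈ RingHom.ker d.π, MvPolynomial.aeval x p = 0 := fun p hp => by
    have := d.rel K hu (fun c hc => by
      rw [IsScalarTower.algebraMap_apply A V K, RingHom.algebraMap_toAlgebra, hC' c hc, map_zero])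
      (algebraMap V K ∘ x) (fun j => by
        rw [Function.comp_apply, IsScalarTower.algebraMap_apply A V K, IsScalarTower.algebraMap_apply A V K,
          ← map_mul]
        exact congrArg _ (hx j).symm) p hp
    rw [MvPolynomial.aeval_algebraMap_apply] at this
    exact (map_eq_zero_iff _ (IsFractionRing.injective V K)).1 this
  let θ : d.P →+* V := RingHom.liftOfSurjective d.π.toRingHom d.surj ⟨(MvPolynomial.aeval x).toRingHom, hker⟩
  have hθ : θ.comp (algebraMap A d.P) = f := RingHom.ext fun c => by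
    rw [RingHom.comp_apply, ← d.π.commutes c]
    exact (RingHom.liftOfSurjective_comp_apply d.π.toRingHom d.surj
      ⟨(MvPolynomial.aeval x).toRingHom, hker⟩ _).trans ((MvPolynomial.aeval x).commutes c)
  obtain ⟨Z, π, hπ, hs, hloc⟩ := d.dom.baseChange ((PhLib.stable_lifts E g).restr _) (Spec.map (CommRingCat.ofHom θ))
  haveI := hπ; haveI := hs
  obtain ⟨z', hz'⟩ := π.surjective (VCovLib.gen V)
  obtain ⟨z, hzz, hz⟩ : ∃ z, z' ⤳ z ∧ π z = VCovLib.closed V := by
    obtain ⟨z, hz, hzc⟩ := (VCovLib.gen_specializes_closed V).mem_closed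
      (π.isClosedMap _ (isClosed_closure (s := ({z'} : Set Z)))) ⟨z', subset_closure rfl, hz'⟩
    exact ⟨z, specializes_iff_mem_closure.2 hz, hzc⟩
  obtain ⟨W, _, _, φ, hφ, l, hl, -, hlz⟩ := VCovLib.exists_extVal π hzz hz' hz
  obtain ⟨O, hzO, i, m, hm⟩ := hloc z
  let l' : Spec W ⟶ (O : Scheme.{u}) := IsOpenImmersion.lift O.ι l
    ((VCovLib.range_subset_of_closed l (hlz.symm ▸ hzO)).trans (Scheme.Opens.range_ι O).ge)
  refine ⟨W, inferInstance, inferInstance, φ, hφ, i, l' ≫ m, ?_⟩
  rw [Category.assoc, hm, Category.assoc, Category.assoc, Category.assoc, IsOpenImmersion.lift_fac_assoc,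
    reassoc_of% hl, ← hθ, CommRingCat.ofHom_comp, Spec.map_comp_assoc]

/-- The points at which a family of morphisms of finite presentation lifts form an open set. -/
theorem exists_isOpen_liftVal {T : Scheme.{u}} (E : PreZeroHypercover.{w} T)
    (hE : ∀ i, LocallyOfFinitePresentation (E.f i)) (g : Spec (CommRingCat.of A) ⟶ T) :
    ∃ U : Set (A × A → Bool), IsOpen U ∧ ∀ (V : CommRingCat.{u}) [IsDomain V] [ValuationRing V] (f : A →+* V),
      relOf f ∈ U ↔ LiftVal E V (Spec.map (CommRingCat.ofHom f) ≫ g) := by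
  refine ⟨⋃ d : Datum A (PhLib.Lifts E g), d.N, isOpen_iUnion fun d => d.isOpen_N, fun V _ _ f => ⟨fun h => ?_, ?_⟩⟩
  · obtain ⟨d, hd⟩ := Set.mem_iUnion.1 h
    exact liftVal_of_mem_N E g d V f hd
  · rintro ⟨W, _, _, φ, hφ, i, s', hs'⟩
    refine Set.mem_iUnion.2 (exists_datum_of_point (PhLib.stable_lifts E g) (isVal_relOf f)
      fun O _ _ _ f₀ hfrac hrf => ?_)
    obtain ⟨ι, hι, hιl, hιf⟩ := exists_valMap f₀ hfrac f fun a b => (hrf a b).symm.trans (relOf_iff f a b)
    haveI := hιl
    haveI := hφ.2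
    refine exists_fp_factor E hE g f₀ ⟨W, inferInstance, inferInstance, CommRingCat.ofHom ι ≫ φ,
      ⟨hφ.1.comp hι, inferInstanceAs (IsLocalHom (φ.hom.comp ι))⟩, i, s', ?_⟩
    rw [hs', ← hιf, CommRingCat.ofHom_comp, Spec.map_comp, Spec.map_comp]
    simp only [Category.assoc]

end RzLib
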