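import Groth.Agent.RzLib.Compat
import Mathlib

/-!
# The valuative lifting property and cofiltered limits of affine schemes
-/

set_option autoImplicit false
set_option linter.style.haveILetI false

noncomputable section

universe w u

open AlgebraicGeometry CategoryTheory Limits

namespace RzLib

/-- The ring map of a valuation ring valued point of an affine scheme. -/
abbrev ringOf {V : CommRingCat.{u}} {X : Scheme.{u}} (s : Spec V ⟶ X) : Γ(X, ⊤) →+* V :=
  (s.appTop ≫ (Scheme.ΓSpecIso V).hom).hom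

theorem ringOf_comp {V : CommRingCat.{u}} {X Y : Scheme.{u}} (s : Spec V ⟶ X) (f : X ⟶ Y) :
    ringOf (s ≫ f) = (ringOf s).comp f.appTop.hom := rfl

theorem ringOf_specMap {V W : CommRingCat.{u}} {X : Scheme.{u}} (φ : V ⟶ W) (s : Spec V ⟶ X) :
    ringOf (Spec.map φ ≫ s) = φ.hom.comp (ringOf s) := by
  have : (Spec.map φ ≫ s).appTop ≫ (Scheme.ΓSpecIso W).hom = (s.appTop ≫ (Scheme.ΓSpecIso V).hom) ≫ φ := by
    rw [Scheme.Hom.comp_appTop, Category.assoc, Category.assoc, Scheme.ΓSpecIso_naturality]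
  exact congrArg CommRingCat.Hom.hom this

theorem specMap_ringOf {V : CommRingCat.{u}} {X : Scheme.{u}} [IsAffine X] (s : Spec V ⟶ X) :
    Spec.map (CommRingCat.ofHom (ringOf s)) ≫ X.isoSpec.inv = s := by
  rw [show CommRingCat.ofHom (ringOf s) = s.appTop ≫ (Scheme.ΓSpecIso V).hom from rfl, Spec.map_comp,
    Category.assoc, Scheme.isoSpec_inv_naturality, ← Category.assoc,
    show (Spec V).isoSpec.inv = Spec.map (Scheme.ΓSpecIso V).inv from Scheme.isoSpec_Spec_inv V,
    ← Spec.map_comp, Iso.inv_hom_id, Spec.map_id]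
  exact Category.id_comp s

theorem ringOf_specMap_isoSpec {V : CommRingCat.{u}} {X : Scheme.{u}} [IsAffine X] (f : Γ(X, ⊤) →+* V) :
    ringOf (Spec.map (CommRingCat.ofHom f) ≫ X.isoSpec.inv) = f := by
  have h := specMap_ringOf (Spec.map (CommRingCat.ofHom f) ≫ X.isoSpec.inv)
  rw [cancel_mono] at h
  exact congrArg CommRingCat.Hom.hom (Spec.map_injective h)

theorem isClosed_isVal {A : Type u} [CommRing A] : IsClosed {r : A × A → Bool | IsVal r} :=
  isCompact_isVal.isClosed

theorem eq_relOf {A O : Type u} [CommRing A] [CommRing O] {r : A × A → Bool} {f : A →+* O}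
    (h : ∀ a b, r (a, b) = true ↔ f b ∣ f a) : r = relOf f :=
  funext fun ⟨a, b⟩ => Bool.eq_iff_iff.2 ((h a b).trans (relOf_iff f a b).symm)

/-- A family of morphisms of finite presentation which lifts all valuation ring valued points of a cofiltered
limit of affine schemes lifts those of some stage. -/
theorem exists_stage_liftVal {I : Type u} [SmallCategory I] [IsCofiltered I] (D : I ⥤ Scheme.{u})
    [∀ i, IsAffine (D.obj i)] (c : Cone D) (hc : IsLimit c) (i₀ : I) {T : Scheme.{u}}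
    (E : PreZeroHypercover.{w} T) (hE : ∀ i, LocallyOfFinitePresentation (E.f i)) (g : D.obj i₀ ⟶ T)
    (h : ∀ (V : CommRingCat.{u}) [IsDomain V] [ValuationRing V] (s : Spec V ⟶ c.pt),
      LiftVal E V (s ≫ c.π.app i₀ ≫ g)) :
    ∃ (i : I) (φ : i ⟶ i₀), ∀ (V : CommRingCat.{u}) [IsDomain V] [ValuationRing V] (s : Spec V ⟶ D.obj i),
      LiftVal E V (s ≫ D.map φ ≫ g) := by
  haveI : IsAffine c.pt := Scheme.isAffine_of_isLimit c hc
  obtain ⟨U, hU, hUiff⟩ := exists_isOpen_liftVal E hE ((D.obj i₀).isoSpec.inv ≫ g)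
  have hU' : ∀ (V : CommRingCat.{u}) [IsDomain V] [ValuationRing V] (t : Spec V ⟶ D.obj i₀),
      relOf (ringOf t) ∈ U ↔ LiftVal E V (t ≫ g) := fun V _ _ t => by
    rw [hUiff V (ringOf t), ← Category.assoc, specMap_ringOf]
  by_contra hcon
  push Not at hcon
  let D' : Over i₀ ⥤ Scheme.{u} := Over.forget i₀ ⋙ D
  haveI : ∀ j, IsAffine (D'.obj j) := fun j => inferInstanceAs (IsAffine (D.obj j.left))
  let c' : Cone D' := c.whisker (Over.forget i₀)
  have hc' : IsLimit c' := (Functor.Initial.isLimitWhiskerEquiv (Over.forget i₀) c).symm hc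
  let S : ∀ j : Over i₀, Set (Γ(D'.obj j, ⊤) × Γ(D'.obj j, ⊤) → Bool) := fun j =>
    {r | IsVal r} ∩ (schRes (D.map j.hom)) ⁻¹' Uᶜ
  obtain ⟨r, hr, hrS⟩ := exists_compatible D' c' hc' S
    (fun j => isClosed_isVal.inter (hU.isClosed_compl.preimage (continuous_resRel _))) (fun j r hr => hr.1)
    (fun j => by
      obtain ⟨V, hV₁, hV₂, s, hs⟩ := hcon j.left j.hom
      refine ⟨relOf (ringOf s), isVal_relOf _, fun hmem => hs ?_⟩
      rw [← Category.assoc, ← hU' V (s ≫ D.map j.hom), ringOf_comp]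
      exact hmem)
    (fun j k φ r hr => ⟨hr.1.resRel _, by
      show schRes (D.map k.hom) (schRes (D.map φ.left) r) ∈ Uᶜ
      rw [← schRes_comp, ← D.map_comp, Over.w]
      exact hr.2⟩)
  obtain ⟨O, _, _, _, f, -, hf⟩ := exists_val_point hr
  let s : Spec (CommRingCat.of O) ⟶ c.pt := Spec.map (CommRingCat.ofHom f) ≫ c.pt.isoSpec.inv
  have h1 := (hrS (Over.mk (𝟙 i₀))).2
  change schRes (D.map (𝟙 i₀)) (schRes (c.π.app i₀) r) ∈ Uᶜ at h1
  rw [D.map_id, schRes_id] at h1
  refine h1 ?_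
  have h2 := (hU' (CommRingCat.of O) (s ≫ c.π.app i₀)).2 (by rw [Category.assoc]; exact h _ s)
  have e : ringOf s = f := ringOf_specMap_isoSpec (V := CommRingCat.of O) (X := c.pt) f
  have e2 : relOf (ringOf (s ≫ c.π.app i₀)) = schRes (c.π.app i₀) r := by
    show schRes (c.π.app i₀) (relOf (ringOf s)) = _
    rw [e, ← eq_relOf hf]
  exact e2 ▸ h2

end RzLib
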