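import Groth.Agent.RzLib.LimitLift
import Mathlib

/-!
# Lifting of valuation ring valued points to a cofiltered limit of affine schemes
-/

set_option autoImplicit false
set_option linter.style.haveILetI false

noncomputable section

universe w u

open AlgebraicGeometry CategoryTheory Limits

namespace RzLib

theorem relOf_ext {A V W : Type u} [CommRing A] [CommRing V] [IsDomain V] [ValuationRing V] [CommRing W] [IsDomain W]
    (φ : V →+* W) (hφ : Function.Injective φ) [IsLocalHom φ] (h : A →+* V) : relOf (φ.comp h) = relOf h := by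
  refine (eq_relOf fun a b => ?_)
  rw [relOf_iff, RingHom.comp_apply, RingHom.comp_apply]
  refine ⟨fun hd => ?_, fun hd => map_dvd φ hd⟩
  rcases ValuationRing.dvd_total (h b) (h a) with hab | ⟨e, he⟩
  · exact hab
  · by_cases ha : h a = 0
    · rw [ha]; exact dvd_zero _
    obtain ⟨w, hw⟩ := hd
    have h1 : φ (h a) * (φ e * w) = φ (h a) * 1 := by
      rw [mul_one, ← mul_assoc, ← map_mul, ← he, ← hw]
    have h2 : IsUnit e := (isUnit_map_iff φ e).1
      (IsUnit.of_mul_eq_one w (mul_left_cancel₀ ((map_ne_zero_iff φ hφ).2 ha) h1))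
    exact ⟨↑h2.unit⁻¹, by rw [he, mul_assoc]; simp⟩

theorem ext_of_relOf {A V W : Type u} [CommRing A] [CommRing V] [CommRing W]
    (φ : V →+* W) (h : A →+* V) (hh : Function.Surjective h) (e : relOf (φ.comp h) = relOf h) :
    Function.Injective φ ∧ IsLocalHom φ := by
  have key : ∀ x y : V, φ y ∣ φ x ↔ y ∣ x := fun x y => by
    obtain ⟨a, rfl⟩ := hh x
    obtain ⟨b, rfl⟩ := hh y
    rw [← relOf_iff h, ← e, relOf_iff]
    rfl
  refine ⟨(injective_iff_map_eq_zero φ).2 fun x hx => ?_, ⟨fun x hx => ?_⟩⟩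
  · exact zero_dvd_iff.1 ((key x 0).1 (by rw [hx, map_zero]))
  · exact isUnit_iff_dvd_one.2 ((key 1 x).1 (by rw [map_one]; exact isUnit_iff_dvd_one.1 hx))

/-- A cofiltered limit of affine schemes over an affine scheme has the valuative lifting property as soon as all
stages have it. -/
theorem hasValLift_singleton_of_isLimit {Y : Scheme.{u}} [IsAffine Y] {I : Type u} [SmallCategory I]
    [IsCofiltered I] (D : I ⥤ Over Y) [∀ i, IsAffine (D.obj i).left] (c : Cone D)
    (hc : IsLimit ((Over.forget Y).mapCone c))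
    (h : ∀ i, HTop.HasValLift (PreZeroHypercover.singleton.{w} (D.obj i).hom)) :
    HTop.HasValLift (PreZeroHypercover.singleton.{w} c.pt.hom) := by
  intro V _ _ g
  haveI : IsConnected I := IsCofiltered.isConnected I
  let G : I ⥤ Over (Spec V) := D ⋙ Over.pullback g
  let D' : I ⥤ Scheme.{u} := G ⋙ Over.forget (Spec V)
  haveI : ∀ i, IsAffine (D'.obj i) := fun i => inferInstanceAs (IsAffine (pullback (D.obj i).hom g))
  let cG : Cone G := (Over.pullback g).mapCone c
  let c' : Cone D' := (Over.forget (Spec V)).mapCone cG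
  have hc' : IsLimit c' := isLimitOfPreserves (Over.forget (Spec V))
    (isLimitOfPreserves (Over.pullback g) (isLimitOfReflects (Over.forget Y) hc))
  let ιV : Γ(Spec V, ⊤) →+* V := ringOf (𝟙 (Spec V))
  let S : ∀ i, Set (Γ(D'.obj i, ⊤) × Γ(D'.obj i, ⊤) → Bool) := fun i =>
    {r | IsVal r} ∩ (schRes (G.obj i).hom) ⁻¹' {relOf ιV}
  obtain ⟨r, hr, hrS⟩ := exists_compatible D' c' hc' S
    (fun i => isClosed_isVal.inter (isClosed_singleton.preimage (continuous_resRel _))) (fun i r hr => hr.1)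
    (fun i => by
      obtain ⟨W, _, _, φ, hφ, _j, l, hl⟩ := h i V g
      haveI := hφ.2
      let m : Spec W ⟶ D'.obj i := pullback.lift l (Spec.map φ) hl
      refine ⟨relOf (ringOf m), isVal_relOf _, ?_⟩
      show schRes _ (relOf (ringOf m)) = relOf ιV
      have hm : m ≫ (G.obj i).hom = Spec.map φ := pullback.lift_snd _ _ _
      rw [schRes, ← relOf_comp, ← ringOf_comp, hm, ← Category.comp_id (Spec.map φ), ringOf_specMap]
      exact relOf_ext φ.hom hφ.1 ιV)
    (fun i j φ r hr => ⟨hr.1.resRel _, by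
      show schRes (G.obj j).hom (schRes (G.map φ).left r) = relOf ιV
      rw [← schRes_comp, Over.w]
      exact hr.2⟩)
  obtain ⟨O, _, _, _, f, -, hf⟩ := exists_val_point hr
  haveI : IsAffine c'.pt := Scheme.isAffine_of_isLimit c' hc'
  let s : Spec (CommRingCat.of O) ⟶ c'.pt := Spec.map (CommRingCat.ofHom f) ≫ c'.pt.isoSpec.inv
  obtain ⟨φ, hφ⟩ := Spec.map_surjective (s ≫ cG.pt.hom)
  obtain ⟨i₀⟩ := IsCofiltered.nonempty (C := I)
  have he : relOf (φ.hom.comp ιV) = relOf ιV := by
    have h1 : schRes (G.obj i₀).hom (schRes (c'.π.app i₀) r) = relOf ιV := (hrS i₀).2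
    rw [← schRes_comp] at h1
    have hw : c'.π.app i₀ ≫ (G.obj i₀).hom = cG.pt.hom := Over.w (cG.π.app i₀)
    have e1 : ringOf s = f := ringOf_specMap_isoSpec (V := CommRingCat.of O) (X := c'.pt) f
    rw [← ringOf_specMap, Category.comp_id, hφ]
    refine Eq.trans ?_ h1
    rw [← hw]
    show schRes (c'.π.app i₀ ≫ (G.obj i₀).hom) (relOf (ringOf s)) = _
    rw [e1, ← eq_relOf hf]
    rfl
  obtain ⟨hinj, hloc⟩ := ext_of_relOf φ.hom ιV
    (fun v => ⟨(Scheme.ΓSpecIso V).inv v, by
      show ((Scheme.ΓSpecIso V).inv ≫ (𝟙 (Spec V) : Spec V ⟶ Spec V).appTop ≫ (Scheme.ΓSpecIso V).hom).hom v = v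
      simp⟩) he
  let s' : Spec (CommRingCat.of O) ⟶ pullback c.pt.hom g := s
  have hφ' : Spec.map φ = s' ≫ pullback.snd c.pt.hom g := hφ
  refine ⟨CommRingCat.of O, inferInstance, inferInstance, φ, ⟨hinj, hloc⟩, PUnit.unit, s' ≫ pullback.fst c.pt.hom g, ?_⟩
  change (s' ≫ pullback.fst c.pt.hom g) ≫ c.pt.hom = Spec.map φ ≫ g
  rw [Category.assoc, pullback.condition, ← Category.assoc, ← hφ']

end RzLib
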