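import Groth.Agent.RzLib.HTop
import Groth.Agent.NoethApproxLib.Proper
import Groth.Agent.FinSurjLib.Qfh
import Mathlib

/-!
# Proper surjective refinements of finite presentation
-/

set_option autoImplicit false
set_option linter.style.haveILetI false

noncomputable section

universe w u

open AlgebraicGeometry CategoryTheory Limits

namespace RzLib

/-- A dominated family of morphisms of finite presentation is refined by an affine cover of a proper surjective
scheme of finite presentation. -/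
theorem exists_proper_fp_refinement {T U : Scheme.{u}} [CompactSpace U] [QuasiSeparatedSpace U]
    (E : PreZeroHypercover.{w} T) (hE : ∀ i, LocallyOfFinitePresentation (E.f i)) (g : U ⟶ T)
    (hD : PhLib.Dom (PhLib.Lifts E g)) :
    ∃ (Y : Scheme.{u}) (p : Y ⟶ U) (n : ℕ) (V : Fin n → Y.Opens), IsProper p ∧ Surjective p ∧
      LocallyOfFinitePresentation p ∧ (∀ j, IsAffineOpen (V j)) ∧ ⨆ j, V j = ⊤ ∧
      ∀ j, ∃ (i : E.I₀) (h : ((V j : Y.Opens) : Scheme.{u}) ⟶ E.X i), h ≫ E.f i = (V j).ι ≫ p ≫ g := by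
  classical
  obtain ⟨Z, π, hπ, hs, hloc⟩ := hD
  haveI := hπ; haveI := hs
  haveI : CompactSpace Z := QuasiCompact.compactSpace_of_compactSpace π
  choose W hzW i l hl using hloc
  obtain ⟨s, hs'⟩ := (isCompact_univ (X := Z)).elim_finite_subcover (fun z => (W z : Set Z)) (fun z => (W z).2)
    (fun z _ => Set.mem_iUnion.2 ⟨z, hzW z⟩)
  let J := ULift.{u} (Fin s.card)
  let idx : J → E.I₀ := fun k => i (s.equivFin.symm k.down).1
  let X' : J → Scheme.{u} := fun k => pullback g (E.f (idx k))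
  let f' : ∀ k, X' k ⟶ U := fun k => pullback.fst g (E.f (idx k))
  haveI : ∀ k, LocallyOfFinitePresentation (f' k) := fun k => by
    haveI := hE (idx k)
    exact inferInstanceAs (LocallyOfFinitePresentation (pullback.fst g (E.f (idx k))))
  haveI : LocallyOfFinitePresentation (Sigma.desc f') := IsZariskiLocalAtSource.sigmaDesc inferInstance
  have H : FinSurjLib.HasLocalSections (Sigma.desc f') π ⊤ := fun z _ => by
    obtain ⟨y, hy, hzy⟩ := Set.mem_iUnion₂.1 (hs' (Set.mem_univ z))
    have key : ∀ k : J, (s.equivFin.symm k.down).1 = y →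
        ∃ m : ((W y : Z.Opens) : Scheme.{u}) ⟶ X' k, m ≫ f' k = (W y).ι ≫ π := by
      intro k hk
      subst hk
      exact ⟨pullback.lift ((W _).ι ≫ π) (l _) (hl _).symm, pullback.lift_fst _ _ _⟩
    obtain ⟨m, hm⟩ := key ⟨s.equivFin ⟨y, hy⟩⟩ (congrArg Subtype.val (s.equivFin.symm_apply_apply ⟨y, hy⟩))
    exact ⟨W y, m ≫ Sigma.ι X' _, hzy, by rw [Category.assoc, Sigma.ι_desc, hm]⟩
  obtain ⟨P, -, hP⟩ := NoethApproxLib.exists_proper_system π
  let t : (P.D ⋙ Over.forget U) ⟶ (Functor.const P.Jᵒᵖ).obj U :=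
    { app := fun a => (P.D.obj a).hom
      naturality := fun a b f => (Over.w (P.D.map f)).trans (Category.comp_id _).symm }
  obtain ⟨a, ha⟩ := FinSurjLib.exists_stage_sections (Sigma.desc f') (P.D ⋙ Over.forget U) t P.cone P.isLimitCone π
    (fun a => P.proj_hom a) H
  let Y := (P.D.obj a).left
  let p : Y ⟶ U := (P.D.obj a).hom
  haveI : IsProper p := (hP a).2
  haveI : CompactSpace Y := P.compactSpace a
  obtain ⟨n, V, hV, hVtop, hh⟩ := FinSurjLib.exists_affine_refinement X' f' p ha
  refine ⟨Y, p, n, V, inferInstance, ⟨fun u => ?_⟩, P.lfp a, hV, hVtop, fun j => ?_⟩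
  · obtain ⟨z, hz⟩ := π.surjective u
    exact ⟨P.proj a z, by rw [← Scheme.Hom.comp_apply, P.proj_hom, hz]⟩
  · obtain ⟨k, h, hk⟩ := hh j
    refine ⟨idx k, h ≫ pullback.snd g (E.f (idx k)), ?_⟩
    rw [Category.assoc, ← pullback.condition, reassoc_of% hk]

end RzLib
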