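import Groth.Agent.RzLib.VSheaf
import Groth.Agent.RzLib.ProperFP
import Mathlib

/-!
# Sheaves on schemes over a base: reduction to standard coverings
-/

set_option autoImplicit false
set_option linter.style.haveILetI false

noncomputable section

universe w v u

open AlgebraicGeometry CategoryTheory Limits Opposite

namespace RzLib.OSh

open RzLib.VSh (leftCover map_map')

variable {S : Scheme.{u}} {F : (Over S)ᵒᵖ ⥤ Type w}

theorem mem_over_of_family {K : Precoverage Scheme.{u}} {ι : Type v} {X : Over S} (Y : ι → Over S)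
    (f : ∀ i, Y i ⟶ X) (h : (leftCover Y f).presieve₀ ∈ K X.left) :
    Sieve.generate (Presieve.ofArrows Y f) ∈ (K.toGrothendieck.over S) X := by
  rw [GrothendieckTopology.mem_over_iff]
  refine Eq.subst (motive := fun R => R ∈ K.toGrothendieck X.left) ?_ (Precoverage.generate_mem_toGrothendieck h)
  exact (Sieve.overEquiv_ofArrows Y f).symm

theorem isSheafFor_of_family {K : Precoverage Scheme.{u}} (hF : Presieve.IsSheaf (K.toGrothendieck.over S) F)
    {ι : Type v} {X : Over S} (Y : ι → Over S)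
    (f : ∀ i, Y i ⟶ X) (h : (leftCover Y f).presieve₀ ∈ K X.left) : (Presieve.ofArrows Y f).IsSheafFor F :=
  (Presieve.isSheafFor_iff_generate _).2 (hF _ (mem_over_of_family Y f h))

theorem isSheaf_over_of_forall {K : Precoverage Scheme.{u}}
    (h : ∀ {ι : Type (u + 1)} {T : Scheme.{u}} (Z : ι → Scheme.{u}) (φ : ∀ i, Z i ⟶ T),
      Presieve.ofArrows Z φ ∈ K T → ∀ (X : Over S) (g : X.left ⟶ T),
        (Presieve.ofArrows (fun i => Over.mk (pullback.fst g (φ i) ≫ X.hom))
          (fun i => (Over.homMk (pullback.fst g (φ i)) rfl : Over.mk (pullback.fst g (φ i) ≫ X.hom) ⟶ X))).IsSheafFor F) :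
    Presieve.IsSheaf (K.toGrothendieck.over S) F := by
  let J : GrothendieckTopology Scheme.{u} :=
    { sieves := fun T => {R | ∀ (T' : Scheme.{u}) (g : T' ⟶ T) (t : T' ⟶ S),
        (Sieve.overEquiv (Over.mk t)).symm (R.pullback g) ∈ Sheaf.finestTopologySingle F (Over.mk t)}
      top_mem' := fun T T' g t => by
        rw [Sieve.pullback_top, map_top]
        exact GrothendieckTopology.top_mem _ _
      pullback_stable' := fun T T' R g hR T'' g' t => by
        rw [← Sieve.pullback_comp]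
        exact hR T'' (g' ≫ g) t
      transitive' := fun T R hR R' hR' T' g t => by
        refine GrothendieckTopology.transitive _ (hR T' g t) _ fun Y a ha => ?_
        rw [← Sieve.overEquiv_symm_pullback, ← Sieve.pullback_comp]
        have := hR' (f := a.left ≫ g) ha Y.left (𝟙 _) Y.hom
        rw [Sieve.pullback_id] at this
        exact this }
  have hle : K.toGrothendieck ≤ J := by
    rw [Precoverage.toGrothendieck_le_iff_le_toPrecoverage]
    intro T R hR
    rw [GrothendieckTopology.mem_toPrecoverage_iff]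
    intro T' g t Y a
    obtain ⟨ι, Z, φ, rfl⟩ := R.exists_eq_ofArrows
    have h' := (Presieve.isSheafFor_iff_generate _).1 (h Z φ hR Y (a.left ≫ g))
    convert h' using 2
    rw [← Sieve.overEquiv_symm_pullback, ← Sieve.pullback_comp]
    ext W q
    constructor
    · intro hq
      obtain ⟨Q, b, c, ⟨i⟩, hbc⟩ := hq
      let b' : W.left ⟶ Z i := b
      let m : W.left ⟶ pullback (a.left ≫ g) (φ i) := pullback.lift q.left b' hbc.symm
      refine ⟨_, Over.homMk m (by
        show m ≫ pullback.fst _ _ ≫ _ = W.hom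
        rw [pullback.lift_fst_assoc]; exact Over.w q), _, ⟨i⟩, Over.OverMorphism.ext (pullback.lift_fst _ _ _)⟩
    · rintro ⟨Q, b, c, ⟨i⟩, rfl⟩
      refine ⟨Z i, b.left ≫ pullback.snd _ _, φ i, ⟨i⟩, ?_⟩
      rw [Category.assoc, ← pullback.condition]
      exact (Category.assoc _ _ _).symm
  intro X R hR
  have := hle X.left hR X.left (𝟙 _) X.hom
  rw [Sieve.pullback_id] at this
  have h2 : (Sieve.overEquiv X).symm (Sieve.overEquiv X R) ∈ Sheaf.finestTopologySingle F X := this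
  rw [OrderIso.symm_apply_apply] at h2
  have h3 := h2 X (𝟙 X)
  rwa [Sieve.pullback_id] at h3

theorem isSheafFor_open (hF : Presieve.IsSheaf (Scheme.zariskiTopology.over S) F) {ι : Type v} {X : Over S}
    (Y : ι → Over S) (f : ∀ i, Y i ⟶ X) (hf : ∀ i, IsOpenImmersion (f i).left)
    (hcov : ∀ x : X.left, ∃ i y, (f i).left y = x) : (Presieve.ofArrows Y f).IsSheafFor F :=
  isSheafFor_of_family (K := Scheme.zariskiPrecoverage) hF Y f ((Scheme.ofArrows_mem_precoverage_iff _).2 ⟨hcov, hf⟩)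

theorem ext_open (hF : Presieve.IsSheaf (Scheme.zariskiTopology.over S) F) {ι : Type v} {X : Over S} (Y : ι → Over S)
    (f : ∀ i, Y i ⟶ X) (hf : ∀ i, IsOpenImmersion (f i).left) (hcov : ∀ x : X.left, ∃ i y, (f i).left y = x)
    (x y : F.obj (op X)) (h : ∀ i, F.map (f i).op x = F.map (f i).op y) : x = y :=
  ((Presieve.isSheafFor_arrows_iff _ _).1 (isSheafFor_open hF Y f hf hcov)
    _ (Presieve.Arrows.toCompatible F f y).2).unique h (fun _ => rfl)

theorem glue_open (hF : Presieve.IsSheaf (Scheme.zariskiTopology.over S) F) {ι : Type v} {X : Over S} (Y : ι → Over S)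
    (f : ∀ i, Y i ⟶ X) (hf : ∀ i, IsOpenImmersion (f i).left) (hcov : ∀ x : X.left, ∃ i y, (f i).left y = x)
    (x : ∀ i, F.obj (op (Y i))) (hx : Presieve.Arrows.Compatible F f x) : ∃ t, ∀ i, F.map (f i).op t = x i :=
  ((Presieve.isSheafFor_arrows_iff _ _).1 (isSheafFor_open hF Y f hf hcov) x hx).exists

variable (F) in
/-- Over affine schemes, covering families in the class `P` are refined by a single morphism with the sheaf
property, covered by finitely many opens which form a family in the class. -/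
def Refines (P : ∀ T : Scheme.{u}, PreZeroHypercover.{v} T → Prop) : Prop :=
  ∀ (U : Over S) (ι : Type v) (Y : ι → Over S) (f : ∀ i, Y i ⟶ U), IsAffine U.left → P _ (leftCover Y f) →
    ∃ (κ : Type v) (G : κ → Over S) (g : ∀ j, G j ⟶ U) (σ : κ → ι) (l : ∀ j, G j ⟶ Y (σ j))
      (Q : Over S) (p : Q ⟶ U) (k : ∀ j, G j ⟶ Q),
      (∀ j, l j ≫ f (σ j) = g j) ∧ (∀ j, k j ≫ p = g j) ∧ (∀ j, IsOpenImmersion (k j).left) ∧
      (∀ x : Q.left, ∃ j y, (k j).left y = x) ∧ P _ (leftCover G g) ∧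
      (Presieve.ofArrows (fun _ : PUnit.{u + 1} => Q) (fun _ => p)).IsSheafFor F

variable {P : ∀ T : Scheme.{u}, PreZeroHypercover.{v} T → Prop}
  (hP : ∀ (T T' : Scheme.{u}) (g : T' ⟶ T) (E : PreZeroHypercover.{v} T), P T E → P T' (E.pullback₁ g))

include hP in
theorem exists_pullback {ι : Type v} {X W : Over S} (Y : ι → Over S) (f : ∀ i, Y i ⟶ X) (a : W ⟶ X)
    (hE : P _ (leftCover Y f)) :
    ∃ (Y' : ι → Over S) (f' : ∀ i, Y' i ⟶ W) (b : ∀ i, Y' i ⟶ Y i),
      (∀ i, f' i ≫ a = b i ≫ f i) ∧ P _ (leftCover Y' f') := by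
  refine ⟨fun i => Over.mk (pullback.fst a.left (f i).left ≫ W.hom), fun i => Over.homMk (pullback.fst _ _) rfl,
    fun i => Over.homMk (pullback.snd _ _) ?_, fun i => Over.OverMorphism.ext pullback.condition, hP _ _ a.left _ hE⟩
  show pullback.snd _ _ ≫ (Y i).hom = pullback.fst _ _ ≫ W.hom
  rw [← Over.w (f i), ← pullback.condition_assoc, Over.w a]

include hP in
/-- Sections are determined on a covering. -/
theorem ext_cov (hF : Presieve.IsSheaf (Scheme.zariskiTopology.over S) F) (hR : Refines F P) {ι : Type v}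
    {X : Over S} (Y : ι → Over S) (f : ∀ i, Y i ⟶ X) (hE : P _ (leftCover Y f)) (x y : F.obj (op X))
    (h : ∀ i, F.map (f i).op x = F.map (f i).op y) : x = y := by
  obtain ⟨κ, U, j, hU, hj, hcov⟩ := VSh.exists_affine_opens X
  refine ext_open hF U j hj hcov x y fun c => ?_
  obtain ⟨Y', f', b, hb, hE'⟩ := exists_pullback hP Y f (j c) hE
  obtain ⟨κ', G, g, σ, l, Q, p, k, hl, hk, hkoi, hkcov, -, hQ⟩ := hR (U c) ι Y' f' (hU c) hE'
  refine (((Presieve.isSheafFor_arrows_iff _ _).1 hQ) _ (Presieve.Arrows.toCompatible F _ (F.map (j c).op y)).2).unique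
    (fun _ => ext_open hF G k hkoi hkcov _ _ fun m => ?_) (fun _ => rfl)
  show F.map (k m).op (F.map p.op _) = F.map (k m).op (F.map p.op _)
  simp only [map_map']
  have e : k m ≫ p ≫ j c = (l m ≫ b (σ m)) ≫ f (σ m) := by
    rw [← Category.assoc, hk, ← hl, Category.assoc, hb, Category.assoc]
  rw [e]
  exact (map_map' F _ _ _).symm.trans ((congrArg _ (h _)).trans (map_map' F _ _ _))

include hP in
/-- Compatible sections on a covering glue. -/
theorem glue_cov (hF : Presieve.IsSheaf (Scheme.zariskiTopology.over S) F) (hR : Refines F P) {ι : Type v}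
    {X : Over S} (Y : ι → Over S) (f : ∀ i, Y i ⟶ X) (hE : P _ (leftCover Y f)) (x : ∀ i, F.obj (op (Y i)))
    (hx : Presieve.Arrows.Compatible F f x) : ∃ t, ∀ i, F.map (f i).op t = x i := by
  obtain ⟨κ, U, j, hU, hj, hcov⟩ := VSh.exists_affine_opens X
  have hloc : ∀ c, ∃ y : F.obj (op (U c)), ∀ (W : Over S) (a : W ⟶ U c) (i : ι) (b : W ⟶ Y i),
      a ≫ j c = b ≫ f i → F.map a.op y = F.map b.op (x i) := by
    intro c
    obtain ⟨Y', f', b, hb, hE'⟩ := exists_pullback hP Y f (j c) hE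
    obtain ⟨κ', G, g, σ, l, Q, p, k, hl, hk, hkoi, hkcov, hGV, hQ⟩ := hR (U c) ι Y' f' (hU c) hE'
    let z : ∀ m, F.obj (op (G m)) := fun m => F.map (l m ≫ b (σ m)).op (x (σ m))
    have hz : ∀ (m₁ m₂ : κ') (W : Over S) (a₁ : W ⟶ G m₁) (a₂ : W ⟶ G m₂), a₁ ≫ g m₁ = a₂ ≫ g m₂ →
        F.map a₁.op (z m₁) = F.map a₂.op (z m₂) := by
      intro m₁ m₂ W a₁ a₂ h
      show F.map a₁.op (F.map _ _) = F.map a₂.op (F.map _ _)
      rw [map_map', map_map']
      refine hx _ _ W _ _ ?_
      simp only [Category.assoc, ← hb, reassoc_of% hl]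
      exact (Category.assoc _ _ _).symm.trans ((congrArg (· ≫ j c) h).trans (Category.assoc _ _ _))
    obtain ⟨zP, hzP⟩ := glue_open hF G k hkoi hkcov z fun m₁ m₂ W a₁ a₂ h =>
      hz m₁ m₂ W a₁ a₂ (by rw [← hk, ← hk, ← Category.assoc, h, Category.assoc])
    obtain ⟨y, hy, -⟩ := (Presieve.isSheafFor_arrows_iff _ _).1 hQ (fun _ => zP) (fun _ _ W a₁ a₂ h => by
      let O : κ' × κ' → W.left.Opens := fun q =>
        a₁.left ⁻¹ᵁ (haveI := hkoi q.1; (k q.1).left.opensRange) ⊓
          a₂.left ⁻¹ᵁ (haveI := hkoi q.2; (k q.2).left.opensRange)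
      refine ext_open hF (fun q => Over.mk ((O q).ι ≫ W.hom)) (fun q => Over.homMk (O q).ι rfl)
        (fun q => inferInstanceAs (IsOpenImmersion (O q).ι)) (fun w => ?_) _ _ fun q => ?_
      · obtain ⟨m₁, y₁, h₁⟩ := hkcov (a₁.left w)
        obtain ⟨m₂, y₂, h₂⟩ := hkcov (a₂.left w)
        exact ⟨(m₁, m₂), ⟨w, ⟨⟨y₁, h₁⟩, y₂, h₂⟩⟩, rfl⟩
      · haveI := hkoi q.1
        haveI := hkoi q.2
        let o : Over.mk ((O q).ι ≫ W.hom) ⟶ W := Over.homMk (O q).ι rfl
        let b₁ : (O q : Scheme.{u}) ⟶ (G q.1).left := IsOpenImmersion.lift (k q.1).left ((O q).ι ≫ a₁.left)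
          (by rintro _ ⟨w, rfl⟩; exact w.2.1)
        let b₂ : (O q : Scheme.{u}) ⟶ (G q.2).left := IsOpenImmersion.lift (k q.2).left ((O q).ι ≫ a₂.left)
          (by rintro _ ⟨w, rfl⟩; exact w.2.2)
        let c₁ : Over.mk ((O q).ι ≫ W.hom) ⟶ G q.1 := Over.homMk b₁ (by
          rw [← Over.w (k q.1), ← Category.assoc, IsOpenImmersion.lift_fac, Category.assoc, Over.w a₁]; rfl)
        let c₂ : Over.mk ((O q).ι ≫ W.hom) ⟶ G q.2 := Over.homMk b₂ (by
          rw [← Over.w (k q.2), ← Category.assoc, IsOpenImmersion.lift_fac, Category.assoc, Over.w a₂]; rfl)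
        have d₁ : c₁ ≫ k q.1 = o ≫ a₁ := Over.OverMorphism.ext (IsOpenImmersion.lift_fac _ _ _)
        have d₂ : c₂ ≫ k q.2 = o ≫ a₂ := Over.OverMorphism.ext (IsOpenImmersion.lift_fac _ _ _)
        show F.map o.op _ = F.map o.op _
        rw [map_map', map_map', ← d₁, ← d₂, ← map_map', ← map_map', hzP, hzP]
        exact hz _ _ _ _ _ (by rw [← hk, ← hk, reassoc_of% d₁, reassoc_of% d₂, h]))
    refine ⟨y, fun W a i bi hab => ?_⟩
    obtain ⟨Y'', f'', b'', hb'', hV''⟩ := exists_pullback hP G g a hGV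
    refine ext_cov hP hF hR Y'' f'' hV'' _ _ fun m => ?_
    rw [map_map', map_map', hb'', ← hk m, ← Category.assoc, ← map_map', hy ⟨⟩, ← map_map', hzP m]
    show F.map (b'' m).op (F.map _ _) = _
    rw [map_map']
    refine hx _ _ _ _ _ ?_
    simp only [Category.assoc, ← hb, reassoc_of% hl, ← hab, reassoc_of% hb'']
  choose y hy using hloc
  obtain ⟨t, ht⟩ := glue_open hF U j hj hcov y fun c₁ c₂ W a₁ a₂ h => by
    obtain ⟨Y', f', b, hb, hE'⟩ := exists_pullback hP Y f (a₁ ≫ j c₁) hE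
    refine ext_cov hP hF hR Y' f' hE' _ _ fun i => ?_
    rw [map_map', map_map', hy c₁ _ (f' i ≫ a₁) i (b i) (by rw [Category.assoc, hb]),
      hy c₂ _ (f' i ≫ a₂) i (b i) (by rw [Category.assoc, ← h, hb])]
  refine ⟨t, fun i => ?_⟩
  let O : ∀ c, (Y i).left.Opens := fun c => (f i).left ⁻¹ᵁ (haveI := hj c; (j c).left.opensRange)
  refine ext_open hF (fun c => Over.mk ((O c).ι ≫ (Y i).hom)) (fun c => Over.homMk (O c).ι rfl)
    (fun c => inferInstanceAs (IsOpenImmersion (O c).ι)) (fun w => ?_) _ _ fun c => ?_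
  · obtain ⟨c, v, hv⟩ := hcov ((f i).left w)
    exact ⟨c, ⟨w, v, hv⟩, rfl⟩
  · haveI := hj c
    let o : Over.mk ((O c).ι ≫ (Y i).hom) ⟶ Y i := Over.homMk (O c).ι rfl
    let a : Over.mk ((O c).ι ≫ (Y i).hom) ⟶ U c := Over.homMk (IsOpenImmersion.lift (j c).left ((O c).ι ≫ (f i).left)
      (by rintro _ ⟨w, rfl⟩; exact w.2)) (by
        rw [← Over.w (j c), ← Category.assoc, IsOpenImmersion.lift_fac, Category.assoc, Over.w (f i)]; rfl)
    have ha : a ≫ j c = o ≫ f i := Over.OverMorphism.ext (IsOpenImmersion.lift_fac _ _ _)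
    show F.map o.op _ = F.map o.op _
    rw [map_map', ← ha, ← map_map', ht c, hy c _ a i o ha]

theorem isSheafFor_hFamily (hF : Presieve.IsSheaf (HTop.Jh S) F) {ι : Type v} {X : Over S} (Y : ι → Over S)
    (f : ∀ i, Y i ⟶ X) (h : HTop.IsHCover (leftCover Y f)) : (Presieve.ofArrows Y f).IsSheafFor F :=
  isSheafFor_of_family hF Y f ((HTop.presieve₀_mem_hPrecoverage_iff (leftCover Y f)).mpr h)

theorem isHSheafOver_of_isSheaf (hF : Presieve.IsSheaf (HTop.Jh S) F) : HTop.IsHSheafOver S F := by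
  intro X R hR
  obtain ⟨ι, Y, f, rfl⟩ := R.exists_eq_ofArrows
  rw [Presieve.map_ofArrows] at hR
  exact isSheafFor_of_family hF Y f hR

theorem isSheaf_zariski_of_isHSheafOver (h1 : HTop.IsHSheafOver S F) :
    Presieve.IsSheaf (Scheme.zariskiTopology.over S) F :=
  isSheaf_over_of_forall (K := Scheme.zariskiPrecoverage) fun Z φ h X g => by
    obtain ⟨hcov, hoi⟩ := (Scheme.ofArrows_mem_precoverage_iff _).1 h
    refine VSh.isSheafFor_hFam h1 _ _ (VSh.isHCover_openImm _ _ (fun i => ?_) fun x => ?_)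
    · haveI := hoi i
      exact inferInstanceAs (IsOpenImmersion (pullback.fst g (φ i)))
    · obtain ⟨i, y, hy⟩ := hcov (g x)
      obtain ⟨z, hz, -⟩ := Scheme.Pullback.exists_preimage_pullback (f := g) (g := φ i) x y hy.symm
      exact ⟨i, z, hz⟩

theorem isVCover_of_affine_family {κ : Type v} [Finite κ] {T : Scheme.{u}} [IsAffine T] (E : PreZeroHypercover.{v} T)
    (e : κ ≃ E.I₀) (hA : ∀ j, IsAffine (E.X j)) (h : HTop.HasValLift E) : HTop.IsVCover E :=
  VCovLib.isVCover_of_isStandardV ⟨inferInstance, Finite.of_equiv κ e, hA, h⟩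

/-- Families of morphisms of finite presentation forming h coverings. -/
abbrev HFam (T : Scheme.{u}) (E : PreZeroHypercover.{u + 1} T) : Prop := HTop.IsHCover E

theorem hFam_pullback (T T' : Scheme.{u}) (g : T' ⟶ T) (E : PreZeroHypercover.{u + 1} T) (hE : HTop.IsHCover E) :
    HTop.IsHCover (E.pullback₁ g) :=
  ⟨fun i => haveI := hE.1 i; inferInstanceAs (LocallyOfFinitePresentation (pullback.fst g (E.f i))),
    VCovLib.isVCover_pullback₁ g hE.2⟩

theorem refines_hFam (hF : Presieve.IsSheaf (Scheme.zariskiTopology.over S) F)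
    (h2 : ∀ (U V : Over S) (f : V ⟶ U), IsAffine U.left → IsProper f.left → Surjective f.left →
      LocallyOfFinitePresentation f.left → Presieve.IsSheafFor F (Presieve.singleton f)) :
    Refines F HFam.{u} := by
  intro U ι Y f hU hE
  haveI := hU
  obtain ⟨Q, p, n, V, hp, hs, hlfp, hV, hcov, hl⟩ := RzLib.exists_proper_fp_refinement (leftCover Y f) hE.1
    (𝟙 U.left) (RzLib.dom_of_isVCover (leftCover Y f) hE.1 hE.2 (𝟙 U.left))
  choose σ l hl using hl
  haveI := hp; haveI := hs; haveI := hlfp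
  let κ := ULift.{u + 1} (Fin n)
  let Q' : Over S := Over.mk (p ≫ U.hom)
  let p' : Q' ⟶ U := Over.homMk p rfl
  let G : κ → Over S := fun j => Over.mk ((V j.down).ι ≫ p ≫ U.hom)
  let g : ∀ j : κ, G j ⟶ U := fun j => Over.homMk ((V j.down).ι ≫ p) (Category.assoc _ _ _)
  let k : ∀ j : κ, G j ⟶ Q' := fun j => Over.homMk (V j.down).ι rfl
  have hcov' : ∀ x : Q, ∃ j : Fin n, x ∈ V j := fun x =>
    TopologicalSpace.Opens.mem_iSup.1 (hcov ▸ TopologicalSpace.Opens.mem_top x)
  refine ⟨κ, G, g, fun j => σ j.down, fun j => Over.homMk (l j.down) ?_, Q', p', k, fun j => ?_, fun j => ?_,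
    fun j => inferInstanceAs (IsOpenImmersion (V j.down).ι), fun x => ?_, ⟨fun j => ?_, ?_⟩, ?_⟩
  · show l j.down ≫ (Y _).hom = (V j.down).ι ≫ p ≫ U.hom
    rw [← Over.w (f (σ j.down)), ← Category.assoc]
    erw [hl j.down]
    rw [Category.comp_id, Category.assoc]
  · exact Over.OverMorphism.ext ((hl j.down).trans (congrArg ((V j.down).ι ≫ ·) (Category.comp_id p)))
  · exact Over.OverMorphism.ext rfl
  · obtain ⟨j, hj⟩ := hcov' x
    exact ⟨⟨j⟩, ⟨x, hj⟩, rfl⟩
  · exact inferInstanceAs (LocallyOfFinitePresentation ((V j.down).ι ≫ p))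
  · refine VCovLib.isVCover_of_isStandardV (VCovLib.isStandardPh_isStandardV
      ⟨hU, inferInstanceAs (Finite κ), fun j => hV j.down, Q, p, fun j => (V j.down).ι, hp, hs,
        fun j => inferInstanceAs (IsOpenImmersion (V j.down).ι), fun j => rfl, fun x => ?_⟩)
    obtain ⟨j, hj⟩ := hcov' x
    exact ⟨⟨j⟩, ⟨x, hj⟩, rfl⟩
  · have := h2 U Q' p' hU hp hs hlfp
    rwa [← Presieve.ofArrows_pUnit.{u}] at this

/-- The sheaf criterion for the big h site. -/
theorem isSheaf_Jh_of (hF : Presieve.IsSheaf (Scheme.zariskiTopology.over S) F)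
    (h2 : ∀ (U V : Over S) (f : V ⟶ U), IsAffine U.left → IsProper f.left → Surjective f.left →
      LocallyOfFinitePresentation f.left → Presieve.IsSheafFor F (Presieve.singleton f)) :
    Presieve.IsSheaf (HTop.Jh S) F := by
  refine isSheaf_over_of_forall fun Z φ h X g => ?_
  let E : PreZeroHypercover.{u + 1} _ := { I₀ := _, X := Z, f := φ }
  have hE : HTop.IsHCover E := (HTop.presieve₀_mem_hPrecoverage_iff E).mp h
  rw [Presieve.isSheafFor_arrows_iff]
  intro x hx
  obtain ⟨t, ht⟩ := glue_cov hFam_pullback hF (refines_hFam hF h2) _ _ (hFam_pullback _ _ g E hE) x hx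
  exact ⟨t, ht, fun t' ht' => ext_cov hFam_pullback hF (refines_hFam hF h2) _ _ (hFam_pullback _ _ g E hE) t' t
    fun i => (ht' i).trans (ht i).symm⟩

end RzLib.OSh
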