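import Groth.Agent.RzLib.OverSheaf
import Groth.Agent.PhLib.Scheme
import Mathlib

/-!
# Covering monomorphisms
-/

set_option autoImplicit false
set_option linter.style.haveILetI false

noncomputable section

universe w v u

open AlgebraicGeometry CategoryTheory Limits Opposite

namespace RzLib.OSh

open RzLib.VSh (leftCover)

variable {S : Scheme.{u}} {F : (Over S)ᵒᵖ ⥤ Type w}

theorem isSheafFor_phFamily (hF : Presieve.IsSheaf (HTop.Jph S) F) {ι : Type v} {X : Over S} (Y : ι → Over S)
    (f : ∀ i, Y i ⟶ X) (h : HTop.IsPhCover (leftCover Y f)) : (Presieve.ofArrows Y f).IsSheafFor F :=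
  isSheafFor_of_family hF Y f ((HTop.presieve₀_mem_phPrecoverage_iff (leftCover Y f)).mpr h)

/-- A proper surjective morphism is a ph covering. -/
theorem isPhCover_proper {X Y : Scheme.{u}} (f : Y ⟶ X) [IsProper f] [Surjective f] :
    HTop.IsPhCover (PreZeroHypercover.singleton.{v} f) :=
  PhLib.isPhCover_of_dom _ (fun _ => inferInstanceAs (LocallyOfFiniteType f)) fun U =>
    ⟨pullback U.1.ι f, pullback.fst U.1.ι f, inferInstance, inferInstance, fun _ =>
      ⟨⊤, trivial, PUnit.unit, (⊤ : (pullback U.1.ι f).Opens).ι ≫ pullback.snd U.1.ι f, by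
        show (_ ≫ pullback.snd U.1.ι f) ≫ f = (_ ≫ pullback.fst U.1.ι f) ≫ U.1.ι
        rw [Category.assoc, Category.assoc, pullback.condition]⟩⟩

/-- A covering monomorphism induces a bijection on sections. -/
theorem bijective_of_mono {X X' : Over S} (f : X ⟶ X') [Mono f.left]
    (h : (Presieve.ofArrows (fun _ : PUnit.{u + 1} => X) (fun _ => f)).IsSheafFor F) :
    Function.Bijective (F.map f.op) := by
  rw [Presieve.isSheafFor_arrows_iff] at h
  refine ⟨fun s t e => ?_, fun x => ?_⟩
  · exact (h _ (Presieve.Arrows.toCompatible F _ t).2).unique (fun _ => e) (fun _ => rfl)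
  · obtain ⟨t, ht, -⟩ := h (fun _ => x) (fun _ _ Z a b hab => by
      have e : a = b := Over.OverMorphism.ext ((cancel_mono f.left).1 (congrArg (·.left) hab))
      rw [e])
    exact ⟨t, ht ⟨⟩⟩

end RzLib.OSh
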