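import Groth.Agent.RzLib.SubtrRefine
import Groth.Agent.FinSurjLib.Qfh
import Groth.Agent.ConsLib.General
import Groth.Agent.RichLib.LimitDescentProps
import Mathlib

/-!
# Refinement of quasi-finite universally subtrusive morphisms by an open covering followed by a finite surjection
-/

set_option autoImplicit false
noncomputable section
universe u
open CategoryTheory CategoryTheory.Limits AlgebraicGeometry RichLib.LimBC

namespace RzLib

/-- A finite surjection with local sections of `f` gives a refinement by a finite affine open covering followed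
by it. -/
theorem exists_refinement_of_sections {X Y Y' : Scheme.{u}} [CompactSpace Y] [QuasiSeparatedSpace Y] (f : X ⟶ Y)
    (q : Y' ⟶ Y) [IsFinite q] (H : FinSurjLib.HasLocalSections f q ⊤) :
    ∃ (X' : Scheme.{u}) (h : X' ⟶ X) (p : X' ⟶ Y'), h ≫ f = p ≫ q ∧ Surjective p ∧ QuasiCompact p ∧
      QuasiSeparated p ∧ ∀ x : X', ∃ U : X'.Opens, x ∈ U ∧ IsOpenImmersion (U.ι ≫ p) := by
  classical
  haveI : CompactSpace Y' := QuasiCompact.compactSpace_of_compactSpace q
  haveI : QuasiSeparatedSpace Y' := quasiSeparatedSpace_of_quasiSeparated q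
  have key : ∀ y : Y', ∃ V : Y'.Opens, IsAffineOpen V ∧ y ∈ V ∧
      ∃ h : (V : Scheme.{u}) ⟶ X, h ≫ f = V.ι ≫ q := fun y => by
    obtain ⟨W, k, hyW, hk⟩ := H y trivial
    obtain ⟨V, hV, hyV, hle⟩ := exists_isAffineOpen_mem_and_subset (U := W) hyW
    exact ⟨V, hV, hyV, Y'.homOfLE hle ≫ k, by rw [Category.assoc, hk, Scheme.homOfLE_ι_assoc]⟩
  choose V hV hyV h hh using key
  obtain ⟨s, hs⟩ := (isCompact_univ (X := Y')).elim_finite_subcover (fun y => (V y : Set Y')) (fun y => (V y).2)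
    (fun y _ => Set.mem_iUnion.2 ⟨y, hyV y⟩)
  let W : s → Y'.Opens := fun y => V y.1
  haveI : ∀ j : s, IsAffine (W j : Scheme.{u}) := fun j => hV j.1
  let hX : ∀ j : s, (W j : Scheme.{u}) ⟶ X := fun j => h j.1
  let p : (∐ fun j => (W j : Scheme.{u})) ⟶ Y' := Sigma.desc fun j => (W j).ι
  refine ⟨_, Sigma.desc hX, p, Sigma.hom_ext _ _ fun j => ?_, ⟨fun y => ?_⟩, inferInstance,
    .of_quasiSeparatedSpace p, sigma_local W⟩
  · rw [Sigma.ι_desc_assoc, Sigma.ι_desc_assoc]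
    exact hh j.1
  · obtain ⟨z, hz, hyz⟩ := Set.mem_iUnion₂.1 (hs (Set.mem_univ y))
    refine ⟨Sigma.ι (fun j => (W j : Scheme.{u})) ⟨z, hz⟩ ⟨y, hyz⟩, ?_⟩
    rw [← Scheme.Hom.comp_apply, Sigma.ι_desc]
    rfl

/-- A quasi-finite universally subtrusive morphism with a Noetherian model has local sections over a finite
surjective cover of finite presentation. -/
theorem exists_finite_sections_of_model {X Y X₀ Y₀ : Scheme.{u}} [IsNoetherian Y₀] (f₀ : X₀ ⟶ Y₀)
    [LocallyOfFiniteType f₀] [LocallyQuasiFinite f₀] (hf₀ : Subtr.UnivSSubtrusive f₀) (f : X ⟶ Y) (m : Y ⟶ Y₀)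
    (mX : X ⟶ X₀) (sq : IsPullback mX f f₀ m) :
    ∃ (Y' : Scheme.{u}) (q : Y' ⟶ Y), IsFinite q ∧ Surjective q ∧ LocallyOfFinitePresentation q ∧
      FinSurjLib.HasLocalSections f q ⊤ := by
  obtain ⟨Z, π, hπ, hs, H⟩ := FinSurjLib.exists_integral_sections_of_subtrusive f₀ hf₀
  obtain ⟨Y₁, p, hps, hpf, hpp, H'⟩ := FinSurjLib.exists_finite_sections f₀ π H
  refine ⟨pullback m p, pullback.fst m p, MorphismProperty.pullback_fst _ _ hpf,
    MorphismProperty.pullback_fst _ _ hps, MorphismProperty.pullback_fst _ _ hpp, fun z _ => ?_⟩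
  obtain ⟨W, k, hW, hk⟩ := H' (pullback.snd m p z) trivial
  refine ⟨pullback.snd m p ⁻¹ᵁ W,
    sq.lift ((pullback.snd m p ∣_ W) ≫ k) ((pullback.snd m p ⁻¹ᵁ W).ι ≫ pullback.fst m p) ?_, hW, sq.lift_snd _ _ _⟩
  rw [Category.assoc, hk, ← Category.assoc, morphismRestrict_ι, Category.assoc, Category.assoc, pullback.condition]

theorem exists_finite_sections_affine {X Y : Scheme.{u}} [IsAffine Y] (f : X ⟶ Y) [LocallyOfFinitePresentation f]
    [QuasiCompact f] [QuasiSeparated f] [LocallyQuasiFinite f] (hf : Subtr.UnivSSubtrusive f) :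
    ∃ (Y' : Scheme.{u}) (q : Y' ⟶ Y), IsFinite q ∧ Surjective q ∧ LocallyOfFinitePresentation q ∧
      FinSurjLib.HasLocalSections f q ⊤ := by
  let A := ConsLib.zSys (Γ(Y, ⊤) : Type u)
  haveI : ∀ i j (a : i ⟶ j), IsAffineHom (A.D.map a) := fun _ _ a => A.affine_map a
  haveI : ∀ i, IsNoetherian (A.D.obj i) := fun i => ConsLib.zSys_obj _ i
  let e : Y ≅ A.c.pt := Y.isoSpec ≪≫ (ConsLib.zSysIso _).symm
  haveI : QuasiCompact (f ≫ e.hom) := inferInstance
  haveI : QuasiSeparated (f ≫ e.hom) := inferInstance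
  obtain ⟨i, ⟨N⟩⟩ := DescFP.exists_model A.hc (f ≫ e.hom)
  haveI := N.compactSpace
  haveI := N.lfp
  haveI := N.qc
  let B := ofStage A.D A.c A.hc i
  have hsq : IsPullback N.g f N.p (e.hom ≫ A.c.π.app i) :=
    N.sq.of_iso (Iso.refl _) (Iso.refl _) e.symm (Iso.refl _) (by simp) (by simp) (by simp) (by simp)
  haveI : LocallyQuasiFinite (f ≫ e.hom) := inferInstance
  have h1 : AtLim B N.p @LocallyQuasiFinite := by
    show LocallyQuasiFinite (pullback.snd N.p (A.c.π.app i))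
    rw [← N.sq.isoPullback_inv_snd]
    infer_instance
  obtain ⟨φ₁, hφ₁⟩ := exists_at_locallyQuasiFinite B N.p h1
  obtain ⟨i₂, φ₂, hφ₂⟩ := exists_stage_univSSubtrusive A.D A.c A.hc i N.p (𝟙 _) fun V _ _ s => by
    obtain ⟨W, h₁, h₂, ψ, hψ, _j, l, hl⟩ := liftVal_of_univSSubtrusive f hf V
      (s ≫ pullback.snd (𝟙 (A.D.obj i)) (A.c.π.app i) ≫ e.inv)
    let l' : Spec W ⟶ X := l
    have hl' : l' ≫ f = Spec.map ψ ≫ s ≫ pullback.snd (𝟙 (A.D.obj i)) (A.c.π.app i) ≫ e.inv := hl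
    refine ⟨W, h₁, h₂, ψ, hψ, PUnit.unit, l' ≫ N.g, ?_⟩
    change (l' ≫ N.g) ≫ N.p = _
    rw [Category.assoc, hsq.w, reassoc_of% hl', Iso.inv_hom_id_assoc]
    rw [← pullback.condition, Category.comp_id]
  let k : Over i := IsCofiltered.min φ₁ (Over.mk φ₂)
  let a₁ : k ⟶ φ₁ := IsCofiltered.minToLeft _ _
  let a₂ : k ⟶ Over.mk φ₂ := IsCofiltered.minToRight _ _
  let g₀ : pullback N.p (A.D.map k.hom) ⟶ A.D.obj k.left := pullback.snd N.p (A.D.map k.hom)
  haveI : LocallyQuasiFinite g₀ := at_of_hom B N.p a₁ hφ₁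
  haveI : LocallyOfFiniteType g₀ := MorphismProperty.pullback_snd _ _ inferInstance
  have hsub : Subtr.UnivSSubtrusive g₀ := by
    intro X' Y' i₁ i₂' f' hh
    have hbig := hh.flip.paste_horiz (IsPullback.of_hasPullback N.p (A.D.map k.hom))
    let j : Y' ⟶ pullback (𝟙 (A.D.obj i)) (A.D.map φ₂) :=
      pullback.lift (i₂' ≫ A.D.map k.hom) (i₂' ≫ A.D.map a₂.left) (by
        rw [Category.comp_id, Category.assoc, ← A.D.map_comp]
        exact (congrArg (fun a => i₂' ≫ A.D.map a) (Over.w a₂)).symm)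
    refine hφ₂ (pullback.lift (i₁ ≫ pullback.fst _ _) (f' ≫ j) ?_) j f' ?_
    · rw [Category.assoc f', pullback.lift_fst, Category.assoc]
      exact hbig.w
    · refine (IsPullback.of_right ?_ (pullback.lift_snd _ _ _) (IsPullback.of_hasPullback _ _)).flip
      rw [pullback.lift_fst, pullback.lift_fst]
      exact hbig
  refine exists_finite_sections_of_model g₀ hsub f (e.hom ≫ A.c.π.app k.left)
    (pullback.lift N.g (f ≫ e.hom ≫ A.c.π.app k.left) (by
      rw [hsq.w, Category.assoc, Category.assoc, A.c.w k.hom])) ?_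
  refine IsPullback.of_right ?_ (pullback.lift_snd _ _ _) (IsPullback.of_hasPullback _ _)
  rw [pullback.lift_fst, Category.assoc, A.c.w k.hom]
  exact hsq

end RzLib
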