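import Groth.Agent.RzLib.LimitLift
import Groth.Agent.DescFP.Main
import Groth.Agent.VCovLib.Sheaf
import Mathlib

/-!
# Descent of standard h coverings along cofiltered limits of affine schemes
-/

set_option autoImplicit false
set_option linter.style.haveILetI false

noncomputable section

universe w u

open AlgebraicGeometry CategoryTheory Limits RichLib.LimBC

namespace RzLib

variable {I : Type u} [SmallCategory I] [IsCofiltered I]

/-- A morphism of finite presentation from an affine scheme to a limit of affine schemes has an affine model. -/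
theorem exists_affine_model {D : I ⥤ Scheme.{u}} [∀ i, IsAffine (D.obj i)] {c : Cone D} (hc : IsLimit c)
    {X : Scheme.{u}} [IsAffine X] (f : X ⟶ c.pt) [LocallyOfFinitePresentation f] :
    ∃ (i : I) (M : DescFP.Model c f i), IsAffine M.Z := by
  haveI : IsAffine c.pt := Scheme.isAffine_of_isLimit c hc
  obtain ⟨i, ⟨M⟩⟩ := DescFP.exists_model hc f
  let B := pb (ofStage D c hc i) M.p
  haveI : IsAffine B.c.pt := IsAffine.of_isIso M.sq.isoPullback.inv
  haveI : CompactSpace M.Z := M.compactSpace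
  haveI : QuasiSeparatedSpace M.Z := M.quasiSeparatedSpace
  haveI : ∀ φ, CompactSpace (B.D.obj φ) := fun φ => B.compactSpace_obj φ
  haveI : ∀ φ, QuasiSeparatedSpace (B.D.obj φ) := fun φ => B.quasiSeparatedSpace_obj φ
  haveI : ∀ {k l : Over i} (b : k ⟶ l), IsAffineHom (B.D.map b) := fun b => B.affine_map b
  obtain ⟨φ, hφ⟩ := Scheme.exists_isAffine_of_isLimit B.D B.c B.hc
  exact ⟨φ.left, M.push φ.hom, hφ⟩

/-- A standard h covering of a limit of affine schemes comes from a stage. -/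
theorem exists_standardH_descends (D : I ⥤ Scheme.{u}) [∀ i, IsAffine (D.obj i)] (c : Cone D) (hc : IsLimit c)
    (V : PreZeroHypercover.{w} c.pt) (hV : HTop.IsStandardH V) :
    ∃ (i : I) (W : PreZeroHypercover.{w} (D.obj i)), HTop.IsStandardH W ∧
      ∃ (σ : V.I₀ ≃ W.I₀) (e : ∀ j, V.X j ≅ pullback (c.π.app i) (W.f (σ j))),
        ∀ j, (e j).hom ≫ pullback.fst (c.π.app i) (W.f (σ j)) = V.f j := by
  classical
  haveI := hV.finite_index
  haveI := hV.isAffine_obj
  haveI := hV.finitePresentation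
  haveI : IsAffine c.pt := Scheme.isAffine_of_isLimit c hc
  choose i M hM using fun j => exists_affine_model hc (V.f j)
  letI := Fintype.ofFinite V.I₀
  obtain ⟨i₀, hi₀⟩ := IsCofiltered.inf_objs_exists (Finset.univ.image i)
  have ha : ∀ j, Nonempty (i₀ ⟶ i j) := fun j => hi₀ (Finset.mem_image_of_mem _ (Finset.mem_univ j))
  let M₀ := fun j => (M j).push (Classical.choice (ha j))
  have hM₀ : ∀ j, IsAffine (M₀ j).Z := fun j => by
    haveI := hM j
    exact inferInstanceAs (IsAffine (pullback (M j).p (D.map _)))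
  let E : PreZeroHypercover.{w} (D.obj i₀) := { I₀ := V.I₀, X := fun j => (M₀ j).Z, f := fun j => (M₀ j).p }
  obtain ⟨F, hF, hFE⟩ := VCovLib.exists_standard_refining hV.isVCover (𝟙 c.pt)
  obtain ⟨k, φ, hk⟩ := exists_stage_liftVal D c hc i₀ E (fun j => (M₀ j).lfp) (𝟙 _) fun O _ _ s => by
    obtain ⟨W, h₁, h₂, ψ, hψ, l, m, hm⟩ := hF.lift O s
    obtain ⟨j, q, hq⟩ := hFE l
    refine ⟨W, h₁, h₂, ψ, hψ, j, (m ≫ q) ≫ (M₀ j).g, ?_⟩
    show ((m ≫ q) ≫ (M₀ j).g) ≫ (M₀ j).p = _
    rw [Category.assoc, (M₀ j).sq.w, Category.comp_id, Category.assoc, reassoc_of% hq, reassoc_of% hm]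
  let M₁ := fun j => (M₀ j).push φ
  have hM₁ : ∀ j, IsAffine (M₁ j).Z := fun j => by
    haveI := hM₀ j
    exact inferInstanceAs (IsAffine (pullback (M₀ j).p (D.map φ)))
  let W : PreZeroHypercover.{w} (D.obj k) := { I₀ := V.I₀, X := fun j => (M₁ j).Z, f := fun j => (M₁ j).p }
  have hW : HTop.IsStandardV W := ⟨inferInstance, hV.finite_index, hM₁, fun O _ _ s => by
    obtain ⟨O', h₁, h₂, ψ, hψ, j, m, hm⟩ := hk O s
    refine ⟨O', h₁, h₂, ψ, hψ, j, pullback.lift m (Spec.map ψ ≫ s) ?_, pullback.lift_snd _ _ _⟩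
    refine hm.trans ?_
    simp⟩
  exact ⟨k, W, ⟨inferInstance, hV.finite_index, hM₁, fun j => (M₁ j).lfp, VCovLib.isVCover_of_isStandardV hW⟩,
    Equiv.refl _, fun j => (M₁ j).sq.flip.isoPullback, fun j => (M₁ j).sq.flip.isoPullback_hom_fst⟩

end RzLib
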