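import Groth.Agent.RzLib.LimitLift
import Groth.Agent.RichLib.LimitBaseChange
import Groth.Prelude.Def_W4c2submetdescSubtr
import Mathlib

/-!
# Lifting of specializations passes to cofiltered limits
-/

set_option autoImplicit false
set_option linter.style.haveILetI false

noncomputable section

universe u

open AlgebraicGeometry CategoryTheory Limits RichLib.LimBC

namespace RzLib

/-- The data of a relation that determine the pair of points. -/
def pairData {A : Type u} [CommRing A] (r : A × A → Bool) : A → Bool × Bool := fun a => (r (a, 0), r (1, a))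

theorem continuous_pairData {A : Type u} [CommRing A] : Continuous (pairData (A := A)) :=
  continuous_pi fun a => (continuous_apply (a, 0)).prodMk (continuous_apply (1, a))

theorem pairData_resRel {A B : Type u} [CommRing A] [CommRing B] (f : A →+* B) (r : B × B → Bool) (a : A) :
    pairData (resRel f r) a = pairData r (f a) := by
  simp [pairData, resRel]

theorem pairData_eq_iff {Z : Scheme.{u}} [IsAffine Z] {V V' : CommRingCat.{u}} [IsDomain V] [ValuationRing V]
    [IsDomain V'] [ValuationRing V'] (s : Spec V ⟶ Z) (t : Spec V' ⟶ Z) :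
    pairData (relOf (ringOf s)) = pairData (relOf (ringOf t)) ↔
      s (VCovLib.gen V) = t (VCovLib.gen V') ∧ s (VCovLib.closed V) = t (VCovLib.closed V') := by
  have hinj : Function.Injective Z.isoSpec.inv := Z.isoSpec.inv.homeomorph.injective
  conv_rhs => rw [← specMap_ringOf s, ← specMap_ringOf t]
  simp only [Scheme.Hom.comp_apply, hinj.eq_iff]
  have h0 : ∀ {O : Type u} [CommRing O] (g : Γ(Z, ⊤) →+* O) (a : Γ(Z, ⊤)), relOf g (a, 0) = true ↔ g a = 0 :=
    fun g a => by rw [relOf_iff, map_zero, zero_dvd_iff]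
  have h1 : ∀ {O : Type u} [CommRing O] (g : Γ(Z, ⊤) →+* O) (a : Γ(Z, ⊤)), relOf g (1, a) = true ↔ IsUnit (g a) :=
    fun g a => by rw [relOf_iff, map_one, isUnit_iff_dvd_one]
  refine ⟨fun h => ⟨PrimeSpectrum.ext (Ideal.ext fun a => ?_), PrimeSpectrum.ext (Ideal.ext fun a => ?_)⟩,
    fun h => funext fun a => Prod.ext ?_ ?_⟩
  · exact (Ideal.mem_bot.trans (h0 _ a).symm).trans
      ((Bool.eq_iff_iff.1 (congrArg Prod.fst (congrFun h a))).trans ((h0 _ a).trans Ideal.mem_bot.symm))
  · have := Bool.eq_iff_iff.1 (congrArg Prod.snd (congrFun h a))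
    show ringOf s a ∈ IsLocalRing.maximalIdeal V ↔ ringOf t a ∈ IsLocalRing.maximalIdeal V'
    rw [IsLocalRing.mem_maximalIdeal, IsLocalRing.mem_maximalIdeal, mem_nonunits_iff, mem_nonunits_iff, ← h1, ← h1]
    exact not_congr this
  · exact Bool.eq_iff_iff.2 (((h0 _ a).trans Ideal.mem_bot.symm).trans
      ((SetLike.ext_iff.1 (congrArg PrimeSpectrum.asIdeal h.1) a).trans (Ideal.mem_bot.trans (h0 _ a).symm)))
  · refine Bool.eq_iff_iff.2 ((h1 _ a).trans (Iff.trans ?_ (h1 _ a).symm))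
    have := SetLike.ext_iff.1 (congrArg PrimeSpectrum.asIdeal h.2) a
    change (ringOf s a ∈ IsLocalRing.maximalIdeal V ↔ ringOf t a ∈ IsLocalRing.maximalIdeal V') at this
    rw [IsLocalRing.mem_maximalIdeal, IsLocalRing.mem_maximalIdeal, mem_nonunits_iff, mem_nonunits_iff] at this
    exact not_iff_not.1 this

variable {I : Type u} [SmallCategory I] [IsCofiltered I] (D : I ⥤ Scheme.{u}) (c : Cone D) (hc : IsLimit c)
  [∀ (i j : I) (a : i ⟶ j), IsAffineHom (D.map a)] (i₀ : I)

include hc in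
/-- If the stages lift a pair of points, so does the limit. -/
theorem exists_pair_of_stages {X₀ Y₀ : Scheme.{u}} (f₀ : X₀ ⟶ Y₀) (g₀ : Y₀ ⟶ D.obj i₀) [QuasiCompact f₀]
    (i₁ : I) (ψ : i₁ ⟶ i₀)
    (h : ∀ (i : I) (φ : i ⟶ i₁), Subtr.IsSSubtrusive (pullback.snd f₀ (pullback.fst g₀ (D.map (φ ≫ ψ))))) :
    Subtr.IsSSubtrusive (pullback.snd f₀ (pullback.fst g₀ (c.π.app i₀))) := by
  classical
  intro y y' hy
  obtain ⟨U, hU, hyU, -⟩ := exists_isAffineOpen_mem_and_subset (x := pullback.fst g₀ (c.π.app i₀) y) (U := ⊤) trivial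
  haveI : IsAffine (U : Scheme.{u}) := hU
  let A := ofStage D c hc i₀
  let C := pb A (U.ι ≫ g₀)
  haveI : ∀ j, IsAffine (C.D.obj j) := fun j => by haveI := C.affine j; exact isAffine_of_isAffineHom (C.t j)
  let ιC : ∀ j : Over i₀, pullback (U.ι ≫ g₀) (D.map j.hom) ⟶ pullback g₀ (D.map j.hom) := fun j =>
    pullback.lift (pullback.fst (U.ι ≫ g₀) (D.map j.hom) ≫ U.ι) (pullback.snd (U.ι ≫ g₀) (D.map j.hom))
      ((Category.assoc _ _ _).trans pullback.condition)
  haveI : ∀ j, IsOpenImmersion (ιC j) := fun j =>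
    MorphismProperty.of_isPullback (P := @IsOpenImmersion)
      (IsPullback.of_bot (h₁₁ := pullback.fst (U.ι ≫ g₀) (D.map j.hom)) (v₁₁ := ιC j) (v₁₂ := U.ι)
        (by
          have e : ιC j ≫ pullback.snd g₀ (D.map j.hom) = pullback.snd (U.ι ≫ g₀) (D.map j.hom) :=
            pullback.lift_snd _ _ _
          rw [e]; exact IsPullback.of_hasPullback _ _)
        (pullback.lift_fst _ _ _).symm (IsPullback.of_hasPullback g₀ (D.map j.hom))) inferInstance
  let ιC' : pullback (U.ι ≫ g₀) (c.π.app i₀) ⟶ pullback g₀ (c.π.app i₀) :=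
    pullback.lift (pullback.fst _ _ ≫ U.ι) (pullback.snd _ _) ((Category.assoc _ _ _).trans pullback.condition)
  -- a valuation ring realizing the pair
  obtain ⟨V, _, _, v₀, hv', hv⟩ := VCovLib.exists_val _ hy
  let vU : Spec V ⟶ (U : Scheme.{u}) := IsOpenImmersion.lift U.ι (v₀ ≫ pullback.fst g₀ (c.π.app i₀))
    ((VCovLib.range_subset_of_closed _ (by rw [Scheme.Hom.comp_apply, hv]; exact hyU)).trans
      (Scheme.Opens.range_ι _).ge)
  let v : Spec V ⟶ pullback (U.ι ≫ g₀) (c.π.app i₀) := pullback.lift vU (v₀ ≫ pullback.snd _ _)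
    (by
      show vU ≫ U.ι ≫ g₀ = (v₀ ≫ pullback.snd _ _) ≫ c.π.app i₀
      rw [IsOpenImmersion.lift_fac_assoc, Category.assoc, pullback.condition, Category.assoc])
  have hv₀ : v ≫ ιC' = v₀ := pullback.hom_ext
    (by rw [Category.assoc, pullback.lift_fst, pullback.lift_fst_assoc, IsOpenImmersion.lift_fac])
    (by rw [Category.assoc, pullback.lift_snd, pullback.lift_snd])
  -- finitely many affine pieces of the source
  have hqc := f₀.isCompact_preimage hU.isCompact
  have hex : ∀ x : X₀, ∃ W : X₀.affineOpens, x ∈ f₀ ⁻¹ᵁ U → x ∈ W.1 ∧ W.1 ≤ f₀ ⁻¹ᵁ U := fun x => by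
    by_cases hx : x ∈ f₀ ⁻¹ᵁ U
    · obtain ⟨B, hB, hxB, hBle⟩ := exists_isAffineOpen_mem_and_subset hx
      exact ⟨⟨B, hB⟩, fun _ => ⟨hxB, hBle⟩⟩
    · exact ⟨⟨⊥, isAffineOpen_bot X₀⟩, fun hx' => absurd hx' hx⟩
  choose W hW using hex
  obtain ⟨s, hs, hsf, hcov⟩ := hqc.elim_finite_subcover_image
    (b := ((f₀ ⁻¹ᵁ U : X₀.Opens) : Set X₀)) (c := fun x => ((W x).1 : Set X₀)) (fun x _ => (W x).1.2)
    (fun x hx => Set.mem_iUnion₂.mpr ⟨x, hx, (hW x hx).1⟩)
  haveI : Finite s := hsf
  let B := fun k : s => pb A ((W k).1.ι ≫ f₀ ≫ g₀)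
  haveI : ∀ k j, IsAffine ((B k).D.obj j) := fun k j => by
    haveI : IsAffine ((W k).1 : Scheme.{u}) := (W k).2
    haveI := (B k).affine j
    exact isAffine_of_isAffineHom ((B k).t j)
  let fU : ∀ k : s, ((W k).1 : Scheme.{u}) ⟶ (U : Scheme.{u}) := fun k =>
    f₀.resLE U (W k).1 (hW k (hs k.2)).2
  have hfU : ∀ k, fU k ≫ U.ι = (W k).1.ι ≫ f₀ := fun k => Scheme.Hom.resLE_comp_ι _ _
  let q : ∀ (k : s) (j : Over i₀), pullback ((W k).1.ι ≫ f₀ ≫ g₀) (D.map j.hom) ⟶ pullback (U.ι ≫ g₀) (D.map j.hom) :=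
    fun k j =>
    pullback.lift (pullback.fst _ _ ≫ fU k) (pullback.snd _ _)
      (by rw [Category.assoc, reassoc_of% hfU k]; exact pullback.condition)
  let q' : ∀ k : s, pullback ((W k).1.ι ≫ f₀ ≫ g₀) (c.π.app i₀) ⟶ pullback (U.ι ≫ g₀) (c.π.app i₀) := fun k =>
    pullback.lift (pullback.fst _ _ ≫ fU k) (pullback.snd _ _)
      (by rw [Category.assoc, reassoc_of% hfU k]; exact pullback.condition)
  have hq : ∀ (k : s) {j l : Over i₀} (a : j ⟶ l), (B k).D.map a ≫ q k l = q k j ≫ C.D.map a := fun k j l a => by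
    apply pullback.hom_ext
    · refine (Category.assoc _ _ _).trans ?_
      refine Eq.trans ?_ (Category.assoc _ _ _).symm
      refine (congrArg (_ ≫ ·) (pullback.lift_fst _ _ _)).trans ?_
      refine Eq.trans ?_ ((congrArg (_ ≫ ·) (pbMap_fst A _ a)).trans (pullback.lift_fst _ _ _)).symm
      exact pbMap_fst_assoc A _ a _
    · refine (Category.assoc _ _ _).trans ?_
      refine Eq.trans ?_ (Category.assoc _ _ _).symm
      refine (congrArg (_ ≫ ·) (pullback.lift_snd _ _ _)).trans ?_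
      refine Eq.trans ?_ (congrArg (_ ≫ ·) (pbMap_snd A _ a)).symm
      refine (pbMap_snd A _ a).trans ?_
      exact ((Category.assoc _ _ _).symm.trans (congrArg (· ≫ _) (pullback.lift_snd _ _ _))).symm
  have hq' : ∀ (k : s) (j : Over i₀), (B k).c.π.app j ≫ q k j = q' k ≫ C.c.π.app j := fun k j => by
    apply pullback.hom_ext
    · refine (Category.assoc _ _ _).trans ?_
      refine Eq.trans ?_ (Category.assoc _ _ _).symm
      refine (congrArg (_ ≫ ·) (pullback.lift_fst _ _ _)).trans ?_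
      refine Eq.trans ?_ ((congrArg (_ ≫ ·) (pbπ_fst A _ j)).trans (pullback.lift_fst _ _ _)).symm
      exact pbπ_fst_assoc A _ j _
    · refine (Category.assoc _ _ _).trans ?_
      refine Eq.trans ?_ (Category.assoc _ _ _).symm
      refine (congrArg (_ ≫ ·) (pullback.lift_snd _ _ _)).trans ?_
      refine Eq.trans ?_ (congrArg (_ ≫ ·) (pbπ_snd A _ j)).symm
      refine (pbπ_snd A _ j).trans ?_
      exact ((Category.assoc _ _ _).symm.trans (congrArg (· ≫ _) (pullback.lift_snd _ _ _))).symm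
  -- the closed conditions
  let R : ∀ j, Γ(C.D.obj j, ⊤) → Bool × Bool := fun j => pairData (relOf (ringOf (v ≫ C.c.π.app j)))
  let S : ∀ (k : s) (j : Over i₀), Set (Γ((B k).D.obj j, ⊤) × Γ((B k).D.obj j, ⊤) → Bool) := fun k j =>
    {r | IsVal r} ∩ (fun r => pairData (schRes (q k j) r)) ⁻¹' {R j}
  have hmap : ∀ (k : s) (j l : Over i₀) (a : j ⟶ l), ∀ r ∈ S k j, schRes ((B k).D.map a) r ∈ S k l :=
    fun k j l a r hr => ⟨hr.1.resRel _, by
      show pairData (schRes (q k l) (schRes ((B k).D.map a) r)) = R l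
      refine ((schRes_comp _ _ r).symm.trans ((congrArg (fun e => schRes e r) (hq k a)).trans (schRes_comp _ _ r))) ▸ ?_
      have h1 : pairData (schRes (q k j) r) = R j := hr.2
      funext x
      refine (congrFun h1 ((C.D.map a).appTop x) |> fun e => Eq.trans ?_ e).trans ?_
      · show (schRes (q k j) r ((C.D.map a).appTop x, (C.D.map a).appTop 0),
          schRes (q k j) r ((C.D.map a).appTop 1, (C.D.map a).appTop x)) = _
        rw [map_zero, map_one]
        rfl
      · show _ = pairData (relOf (ringOf (v ≫ C.c.π.app l))) x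
        rw [show v ≫ C.c.π.app l = ((v ≫ C.c.π.app j : Spec V ⟶ C.D.obj j) ≫ C.D.map a : Spec V ⟶ C.D.obj l) from
          (congrArg (fun e => v ≫ e) (C.c.w a).symm).trans (Category.assoc _ _ _).symm, ringOf_comp, relOf_comp]
        show pairData _ _ = (resRel _ _ (x, 0), resRel _ _ (1, x))
        simp only [resRel, map_zero, map_one]
        rfl⟩
  have hstage : ∀ (j : Over i₀), ∃ k, (S k j).Nonempty := fun j => by
    let m := IsCofiltered.min j (Over.mk ψ)
    let a : m ⟶ j := IsCofiltered.minToLeft _ _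
    let b : m ⟶ Over.mk ψ := IsCofiltered.minToRight _ _
    suffices ∃ k, (S k m).Nonempty from
      let ⟨k, r, hr⟩ := this; ⟨k, _, hmap k m j a r hr⟩
    let t : Spec V ⟶ pullback (U.ι ≫ g₀) (D.map m.hom) := v ≫ C.c.π.app m
    have hsub : Subtr.IsSSubtrusive (pullback.snd f₀ (pullback.fst g₀ (D.map m.hom))) := by
      rw [← show b.left ≫ ψ = m.hom from Over.w b]
      exact h m.left b.left
    obtain ⟨x, x', hx, hxy, hxy'⟩ := hsub ((VCovLib.gen_specializes_closed V).map (t ≫ ιC m).continuous)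
    obtain ⟨O, _, _, l, hl', hl⟩ := VCovLib.exists_val _ hx
    let P := pullback.fst f₀ (pullback.fst g₀ (D.map m.hom))
    have hxU : f₀ (P x) ∈ U := by
      rw [← Scheme.Hom.comp_apply, pullback.condition, Scheme.Hom.comp_apply, hxy,
        ← Scheme.Hom.comp_apply, Category.assoc, pullback.lift_fst, ← Category.assoc, Scheme.Hom.comp_apply]
      exact ((t ≫ pullback.fst (U.ι ≫ g₀) (D.map m.hom)) (VCovLib.closed V)).2
    obtain ⟨k, hk, hxk⟩ := Set.mem_iUnion₂.1 (hcov hxU)
    let lW : Spec O ⟶ ((W k).1 : Scheme.{u}) := IsOpenImmersion.lift (W k).1.ι (l ≫ P)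
      ((VCovLib.range_subset_of_closed _ (by rw [Scheme.Hom.comp_apply, hl]; exact hxk)).trans
        (Scheme.Opens.range_ι _).ge)
    let lB : Spec O ⟶ pullback ((W k).1.ι ≫ f₀ ≫ g₀) (D.map m.hom) := pullback.lift lW
      (l ≫ pullback.snd _ _ ≫ pullback.snd g₀ (D.map m.hom)) (by
        show lW ≫ (W k).1.ι ≫ f₀ ≫ g₀ = _ ≫ D.map m.hom
        rw [IsOpenImmersion.lift_fac_assoc]
        simp only [Category.assoc, P]
        rw [pullback.condition_assoc, pullback.condition])
    have hcomp : lB ≫ q ⟨k, hk⟩ m ≫ ιC m = l ≫ pullback.snd _ _ := by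
      apply pullback.hom_ext
      · simp only [Category.assoc, ιC, q, lB, pullback.lift_fst, pullback.lift_fst_assoc, hfU]
        rw [IsOpenImmersion.lift_fac_assoc]
        simp only [Category.assoc, P, pullback.condition]
      · simp only [Category.assoc, ιC, q, lB, pullback.lift_snd]
    refine ⟨⟨k, hk⟩, relOf (ringOf lB), isVal_relOf _, ?_⟩
    show pairData (schRes _ (relOf (ringOf lB))) = R m
    rw [schRes, ← relOf_comp, ← ringOf_comp]
    refine (pairData_eq_iff (lB ≫ q ⟨k, hk⟩ m) t).2 ⟨?_, ?_⟩ <;>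
    refine (ιC m).injective ?_ <;>
    rw [← Scheme.Hom.comp_apply, Category.assoc, hcomp, Scheme.Hom.comp_apply]
    · rw [hl', hxy']; rfl
    · rw [hl, hxy]; rfl
  obtain ⟨k, hk⟩ : ∃ k, ∀ j, (S k j).Nonempty := by
    by_contra hcon
    push Not at hcon
    choose j hj using hcon
    letI := Fintype.ofFinite s
    obtain ⟨m, hm⟩ := IsCofiltered.inf_objs_exists (Finset.univ.image j)
    obtain ⟨k, r, hr⟩ := hstage m
    obtain ⟨a⟩ := hm (Finset.mem_image_of_mem j (Finset.mem_univ k))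
    exact Set.eq_empty_iff_forall_notMem.1 (hj k) _ (hmap k m (j k) a r hr)
  obtain ⟨r, hr, hrS⟩ := exists_compatible (B k).D (B k).c (B k).hc (S k)
    (fun j => isClosed_isVal.inter
      (isClosed_singleton.preimage (continuous_pairData.comp (continuous_resRel _))))
    (fun j r hr => hr.1) hk (hmap k)
  obtain ⟨O, _, _, _, f, -, hf⟩ := exists_val_point hr
  haveI : IsAffine (B k).c.pt := Scheme.isAffine_of_isLimit _ (B k).hc
  haveI : IsAffine C.c.pt := Scheme.isAffine_of_isLimit _ C.hc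
  haveI : IsAffine (pullback (U.ι ≫ g₀) (c.π.app i₀)) := ‹IsAffine C.c.pt›
  let sB : Spec (CommRingCat.of O) ⟶ (B k).c.pt := Spec.map (CommRingCat.ofHom f) ≫ (B k).c.pt.isoSpec.inv
  have e : ringOf sB = f := ringOf_specMap_isoSpec (V := CommRingCat.of O) (X := (B k).c.pt) f
  have hpts := (pairData_eq_iff (sB ≫ q' k) v).1 (funext fun z => by
    obtain ⟨j, z, rfl⟩ := exists_appTop_π_eq_of_isAffine_of_isLimit C.D C.c C.hc z
    have h0 : pairData (schRes (q k j) (schRes ((B k).c.π.app j) r)) = R j := (hrS j).2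
    have h1 := congrFun ((congrArg (fun e => pairData (schRes e r)) (hq' k j)).symm.trans
      ((congrArg pairData (schRes_comp _ _ r)).trans h0)) z
    rw [eq_relOf hf, ← e] at h1
    refine Eq.trans ?_ ((h1.trans ?_).trans (pairData_resRel (C.c.π.app j).appTop.hom _ z))
    · exact (pairData_resRel (q' k).appTop.hom (relOf (ringOf sB)) _).trans
        (pairData_resRel (q' k ≫ C.c.π.app j).appTop.hom (relOf (ringOf sB)) z).symm
    · rfl)
  let m : (B k).c.pt ⟶ pullback f₀ (pullback.fst g₀ (c.π.app i₀)) :=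
    pullback.lift (pullback.fst ((W k).1.ι ≫ f₀ ≫ g₀) (c.π.app i₀) ≫ (W k).1.ι) (q' k ≫ ιC') (by
      simp only [Category.assoc, ιC', q', pullback.lift_fst]
      refine (congrArg (_ ≫ ·) (hfU k).symm).trans ?_
      exact (Category.assoc _ _ _).symm.trans ((congrArg (· ≫ U.ι) (pullback.lift_fst _ _ _).symm).trans
        (Category.assoc _ _ _)))
  refine ⟨m (sB (VCovLib.closed _)), m (sB (VCovLib.gen _)),
    ((VCovLib.gen_specializes_closed _).map sB.continuous).map m.continuous, ?_, ?_⟩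
  · rw [← Scheme.Hom.comp_apply, ← Scheme.Hom.comp_apply, pullback.lift_snd, ← Category.assoc,
      Scheme.Hom.comp_apply, hpts.2, ← Scheme.Hom.comp_apply, hv₀, hv]
  · rw [← Scheme.Hom.comp_apply, ← Scheme.Hom.comp_apply, pullback.lift_snd, ← Category.assoc,
      Scheme.Hom.comp_apply, hpts.1, ← Scheme.Hom.comp_apply, hv₀, hv']

end RzLib
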