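import Groth.Agent.RzLib.ProperFP
import Groth.Agent.RzLib.SubtrDesc
import Mathlib

/-!
# Refinement of universally subtrusive morphisms by an open covering followed by a proper surjection
-/

set_option autoImplicit false
noncomputable section
universe u
open CategoryTheory CategoryTheory.Limits AlgebraicGeometry

namespace RzLib

/-- every point of a finite disjoint union of opens has a neighbourhood mapping isomorphically onto an open -/
theorem sigma_local {Y : Scheme.{u}} {ι : Type u} (V : ι → Y.Opens) (x : (∐ fun j => (V j : Scheme.{u}) :)) :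
    ∃ U : (∐ fun j => (V j : Scheme.{u}) :).Opens, x ∈ U ∧ IsOpenImmersion (U.ι ≫ Sigma.desc fun j => (V j).ι) := by
  obtain ⟨j, y, rfl⟩ := (sigmaOpenCover fun j => (V j : Scheme.{u})).exists_eq x
  let s := Sigma.ι (fun j => (V j : Scheme.{u})) j
  refine ⟨s.opensRange, ⟨y, rfl⟩, ?_⟩
  rw [show s.opensRange.ι = s.isoOpensRange.inv ≫ s by simp, Category.assoc, Sigma.ι_desc]
  infer_instance

/-- A universally S-subtrusive morphism of finite presentation to a qcqs scheme is refined by a finite affine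
open covering followed by a proper surjection of finite presentation. -/
theorem exists_refinement_openCover_proper {X Y : Scheme.{u}} [CompactSpace Y] [QuasiSeparatedSpace Y] (f : X ⟶ Y)
    [LocallyOfFinitePresentation f] [QuasiCompact f] (hf : Subtr.UnivSSubtrusive f) :
    ∃ (X' Y' : Scheme.{u}) (h : X' ⟶ X) (p : X' ⟶ Y') (q : Y' ⟶ Y), IsAffine X' ∧ h ≫ f = p ≫ q ∧
      Surjective p ∧ QuasiCompact p ∧ (∀ x : X', ∃ U : X'.Opens, x ∈ U ∧ IsOpenImmersion (U.ι ≫ p)) ∧
      IsProper q ∧ Surjective q ∧ LocallyOfFinitePresentation q := by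
  classical
  let E : PreZeroHypercover.{u} Y := PreZeroHypercover.singleton f
  have hE : ∀ i, LocallyOfFinitePresentation (E.f i) := fun _ => ‹_›
  have hV : HTop.IsVCover E :=
    (VCovLib.isVCover_singleton_iff f).mpr (fun V _ _ s => RzLib.liftVal_of_univSSubtrusive f hf V s)
  obtain ⟨Y', q, n, V, hq, hqs, hqf, hVa, hVtop, hl⟩ := RzLib.exists_proper_fp_refinement E hE (𝟙 Y)
    (PhLib.dom_of_isPhCover E (RzLib.isPhCover_of_isVCover E hE hV) (𝟙 Y))
  choose i h hh using hl
  let W : ULift.{u} (Fin n) → Y'.Opens := fun j => V j.down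
  let p : (∐ fun j => (W j : Scheme.{u})) ⟶ Y' := Sigma.desc fun j => (W j).ι
  haveI : CompactSpace Y' := QuasiCompact.compactSpace_of_compactSpace q
  haveI : QuasiSeparatedSpace Y' := quasiSeparatedSpace_of_quasiSeparated q
  haveI : ∀ j, IsAffine (W j : Scheme.{u}) := fun j => hVa j.down
  let hX : ∀ j : ULift.{u} (Fin n), (W j : Scheme.{u}) ⟶ X := fun j => h j.down
  refine ⟨_, Y', Sigma.desc hX, p, q, inferInstance, Sigma.hom_ext _ _ fun j => ?_, ⟨fun y => ?_⟩, inferInstance,
    sigma_local W, hq, hqs, hqf⟩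
  · rw [Sigma.ι_desc_assoc, Sigma.ι_desc_assoc]
    exact (hh j.down).trans (by rw [Category.comp_id])
  · obtain ⟨j, hj⟩ := TopologicalSpace.Opens.mem_iSup.mp (show y ∈ ⨆ j, V j by rw [hVtop]; trivial)
    refine ⟨Sigma.ι (fun j => (W j : Scheme.{u})) ⟨j⟩ ⟨y, hj⟩, ?_⟩
    rw [← Scheme.Hom.comp_apply, Sigma.ι_desc]
    rfl

end RzLib
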