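import Groth.Agent.RzLib.UnivOpenRing
import Groth.Agent.RichLib.LimitBaseChange
import Mathlib

/-!
# Universal openness descends along cofiltered limits
-/

set_option autoImplicit false

noncomputable section

universe u

open AlgebraicGeometry CategoryTheory Limits TensorProduct RichLib.LimBC

namespace RzLib.UnivOpen

section Affine

variable (A₀ R G : Type u) [CommRing A₀] [CommRing R] [CommRing G] [Algebra A₀ R] [Algebra A₀ G]

/-- A good base change is universally open. -/
theorem universallyOpen_of_good [Algebra.FinitePresentation A₀ R] (h : Good R (algebraMap A₀ G)) :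
    UniversallyOpen (pullback.fst (Spec.map (CommRingCat.ofHom (algebraMap A₀ G)))
      (Spec.map (CommRingCat.ofHom (algebraMap A₀ R)))) := by
  refine ⟨MorphismProperty.universally_mk' _ _ fun {T} t _ => ?_⟩
  wlog hT : ∃ A', T = Spec A' generalizing T
  · refine (IsZariskiLocalAtTarget.iff_of_openCover (P := topologically @IsOpenMap) T.affineCover).mpr fun i => ?_
    refine (MorphismProperty.cancel_left_of_respectsIso _
      ((pullbackRightPullbackFstIso ..).inv ≫ (pullbackSymmetry ..).hom) _).mp ?_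
    simpa [Scheme.Cover.pullbackHom] using! this _ _ ⟨_, rfl⟩
  obtain ⟨A', rfl⟩ := hT
  obtain ⟨ψ, rfl⟩ := Spec.map_surjective t
  algebraize [ψ.hom]
  letI : Algebra A₀ A' := (ψ.hom.comp (algebraMap A₀ G)).toAlgebra
  haveI hgd : Algebra.HasGoingDown A' (A' ⊗[A₀] R) := hasGoingDown_of_good R A' (h.comp ψ.hom)
  have hopen : topologically @IsOpenMap
      (pullback.fst (Spec.map (CommRingCat.ofHom (algebraMap A₀ A')))
        (Spec.map (CommRingCat.ofHom (algebraMap A₀ R)))) := by
    refine (MorphismProperty.cancel_left_of_respectsIso _ (pullbackSpecIso A₀ A' R).inv _).mp ?_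
    rw [pullbackSpecIso_inv_fst]
    exact PrimeSpectrum.isOpenMap_comap_of_hasGoingDown_of_finitePresentation
  have e : CommRingCat.ofHom (algebraMap A₀ A') = CommRingCat.ofHom (algebraMap A₀ G) ≫ ψ := rfl
  rw [e, Spec.map_comp] at hopen
  refine (MorphismProperty.cancel_left_of_respectsIso (topologically @IsOpenMap)
    (pullbackRightPullbackFstIso (Spec.map (CommRingCat.ofHom (algebraMap A₀ G)))
      (Spec.map (CommRingCat.ofHom (algebraMap A₀ R))) (Spec.map ψ)).inv _).mp ?_
  rw [pullbackRightPullbackFstIso_inv_fst]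
  exact hopen

/-- A universally open base change is good. -/
theorem good_of_universallyOpen
    (h : UniversallyOpen (pullback.fst (Spec.map (CommRingCat.ofHom (algebraMap A₀ G)))
      (Spec.map (CommRingCat.ofHom (algebraMap A₀ R))))) : Good R (algebraMap A₀ G) := by
  intro V _ _ _ _ ψ hψ x hx hm c b hc hcb
  by_contra hbx
  have h1 : UniversallyOpen (pullback.fst
      (Spec.map (CommRingCat.ofHom ψ) ≫ Spec.map (CommRingCat.ofHom (algebraMap A₀ G)))
      (Spec.map (CommRingCat.ofHom (algebraMap A₀ R)))) := by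
    rw [← MorphismProperty.cancel_left_of_respectsIso @UniversallyOpen
      (pullbackRightPullbackFstIso _ _ (Spec.map (CommRingCat.ofHom ψ))).hom,
      pullbackRightPullbackFstIso_hom_fst]
    haveI := h
    exact UniversallyOpen.fst _ _
  rw [← Spec.map_comp, ← CommRingCat.ofHom_comp, hψ] at h1
  have h2 : UniversallyOpen ((pullbackSpecIso A₀ V R).inv ≫ pullback.fst
      (Spec.map (CommRingCat.ofHom (algebraMap A₀ V))) (Spec.map (CommRingCat.ofHom (algebraMap A₀ R)))) :=
    (MorphismProperty.cancel_left_of_respectsIso @UniversallyOpen _ _).mpr h1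
  rw [pullbackSpecIso_inv_fst] at h2
  have hop : IsOpenMap (PrimeSpectrum.comap (algebraMap V (V ⊗[A₀] R))) :=
    (Spec.map (CommRingCat.ofHom (algebraMap V (V ⊗[A₀] R)))).isOpenMap
  have hU := hop _ (PrimeSpectrum.basicOpen b).2
  have hcl : IsLocalRing.closedPoint V ∈
      PrimeSpectrum.comap (algebraMap V (V ⊗[A₀] R)) '' (PrimeSpectrum.basicOpen b : Set _) := by
    refine ⟨⟨x, hx⟩, hbx, PrimeSpectrum.ext (le_antisymm (IsLocalRing.le_maximalIdeal
      (Ideal.comap_isPrime (algebraMap V (V ⊗[A₀] R)) x).ne_top) fun d hd => hm d hd)⟩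
  have htop := (IsLocalRing.closedPoint_mem_iff ⟨_, hU⟩).mp hcl
  obtain ⟨q, hq, hq0⟩ : (⟨⊥, Ideal.isPrime_bot⟩ : PrimeSpectrum V) ∈ (⟨_, hU⟩ : TopologicalSpace.Opens (PrimeSpectrum V)) := by
    rw [htop]; trivial
  have hcq : algebraMap V (V ⊗[A₀] R) c ∉ q.asIdeal := fun hmem =>
    hc (by
      have : c ∈ (PrimeSpectrum.comap (algebraMap V (V ⊗[A₀] R)) q).asIdeal := hmem
      rw [hq0] at this
      exact this)
  refine (q.2.mem_or_mem (show algebraMap V (V ⊗[A₀] R) c * b ∈ q.asIdeal by
    rw [← Algebra.smul_def, hcb]; exact q.asIdeal.zero_mem)).elim hcq hq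

end Affine

/-- Universal openness of a finitely presented morphism of affine schemes descends to a stage. -/
theorem exists_at_affine {I : Type u} [SmallCategory I] [IsCofiltered I] {U V : Scheme.{u}} [IsAffine U]
    [IsAffine V] (B : Sys I U) (g : V ⟶ U) [LocallyOfFinitePresentation g]
    (hlim : AtLim B g @UniversallyOpen) : ∃ i, At B g @UniversallyOpen i := by
  haveI : ∀ i, IsAffine (B.D.obj i) := fun i => by
    haveI := B.affine i
    exact isAffine_of_isAffineHom (B.t i)
  haveI : IsAffine B.c.pt := Scheme.isAffine_of_isLimit B.c B.hc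
  haveI : ∀ {i j : I} (a : i ⟶ j), IsAffineHom (B.D.map a) := fun a => B.affine_map a
  letI : Algebra Γ(U, ⊤) Γ(V, ⊤) := g.appTop.hom.toAlgebra
  haveI : Algebra.FinitePresentation Γ(U, ⊤) Γ(V, ⊤) :=
    (HasRingHomProperty.iff_of_isAffine (P := @LocallyOfFinitePresentation)).mp ‹_›
  -- the translation between the two forms
  have key : ∀ (T : Scheme.{u}) [IsAffine T] (t : T ⟶ U),
      UniversallyOpen (pullback.snd g t) ↔ Good Γ(V, ⊤) t.appTop.hom := by
    intro T _ t
    letI : Algebra Γ(U, ⊤) Γ(T, ⊤) := t.appTop.hom.toAlgebra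
    let m : pullback g t ⟶ pullback (Spec.map t.appTop) (Spec.map g.appTop) :=
      (pullbackSymmetry g t).hom ≫ pullback.map t g (Spec.map t.appTop) (Spec.map g.appTop) T.isoSpec.hom
        V.isoSpec.hom U.isoSpec.hom (Scheme.isoSpec_hom_naturality t).symm (Scheme.isoSpec_hom_naturality g).symm
    haveI : IsIso m := inferInstance
    have e : m ≫ pullback.fst (Spec.map t.appTop) (Spec.map g.appTop) = pullback.snd g t ≫ T.isoSpec.hom := by
      simp only [m, Category.assoc, pullback.map]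
      erw [pullback.lift_fst]
      rw [pullbackSymmetry_hom_comp_fst_assoc]
    have h1 : UniversallyOpen (pullback.snd g t) ↔
        UniversallyOpen (pullback.fst (Spec.map t.appTop) (Spec.map g.appTop)) := by
      rw [← MorphismProperty.cancel_right_of_respectsIso @UniversallyOpen (pullback.snd g t) T.isoSpec.hom,
        ← e, MorphismProperty.cancel_left_of_respectsIso (P := @UniversallyOpen)]
    refine h1.trans ⟨fun h => good_of_universallyOpen Γ(U, ⊤) Γ(V, ⊤) Γ(T, ⊤) h, fun h => ?_⟩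
    exact universallyOpen_of_good Γ(U, ⊤) Γ(V, ⊤) Γ(T, ⊤) h
  -- a directed preorder of stages
  obtain ⟨α, hα, hdir, hne, F, hF⟩ := IsFiltered.exists_directed Iᵒᵖ
  let st : α → I := fun a => (F.obj a).unop
  let tr : ∀ {a b : α}, a ≤ b → (st b ⟶ st a) := fun h => (F.map (homOfLE h)).unop
  let G : α → Type u := fun a => Γ(B.D.obj (st a), ⊤)
  letI : ∀ a, CommRing (G a) := fun a => inferInstanceAs (CommRing Γ(B.D.obj (st a), ⊤))
  letI : ∀ a, Algebra Γ(U, ⊤) (G a) := fun a => (B.t (st a)).appTop.hom.toAlgebra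
  letI : ∀ a, Algebra (G a) Γ(B.c.pt, ⊤) := fun a => (B.c.π.app (st a)).appTop.hom.toAlgebra
  letI : Algebra Γ(U, ⊤) Γ(B.c.pt, ⊤) := B.s.appTop.hom.toAlgebra
  haveI : ∀ a, IsScalarTower Γ(U, ⊤) (G a) Γ(B.c.pt, ⊤) := fun a => IsScalarTower.of_algebraMap_eq' (by
    show B.s.appTop.hom = (B.c.π.app (st a)).appTop.hom.comp (B.t (st a)).appTop.hom
    rw [← CommRingCat.hom_comp, ← Scheme.Hom.comp_appTop, B.hs])
  let gg : ∀ a b, a ≤ b → G a →ₐ[Γ(U, ⊤)] G b := fun a b h =>
    { (B.D.map (tr h)).appTop.hom with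
      commutes' := fun r => by
        show (B.D.map (tr h)).appTop ((B.t (st a)).appTop r) = (B.t (st b)).appTop r
        rw [← CommRingCat.comp_apply, ← Scheme.Hom.comp_appTop, B.w] }
  haveI : IsDirectedOrder α := hdir
  haveI : IsFilteredOrEmpty α := inferInstance
  haveI : IsFiltered Iᵒᵖ := inferInstance
  have hcof : ∀ j : I, ∃ a, Nonempty (st a ⟶ j) := fun j => by
    obtain ⟨a, ⟨f⟩⟩ := (Functor.final_iff_of_isFiltered F).mp hF |>.1 (Opposite.op j)
    exact ⟨a, ⟨f.unop⟩⟩
  have hc : FlatCA.IsDirectedColimitRing G (fun a b h => (gg a b h).toRingHom) Γ(B.c.pt, ⊤) := by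
    refine ⟨hdir, hne, fun a => ?_, fun a b d hab hbd => ?_, fun a b h => ?_, fun x => ?_, fun a x hx => ?_⟩
    · show (B.D.map (F.map (homOfLE (le_refl a))).unop).appTop.hom = _
      rw [show homOfLE (le_refl a) = 𝟙 a from rfl, F.map_id, unop_id, B.D.map_id]
      rfl
    · show (B.D.map (F.map (homOfLE hbd)).unop).appTop.hom.comp (B.D.map (F.map (homOfLE hab)).unop).appTop.hom =
        (B.D.map (F.map (homOfLE (hab.trans hbd))).unop).appTop.hom
      rw [← CommRingCat.hom_comp, ← Scheme.Hom.comp_appTop, ← B.D.map_comp, ← unop_comp, ← F.map_comp,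
        homOfLE_comp]
    · show (B.c.π.app (st b)).appTop.hom.comp (B.D.map (tr h)).appTop.hom = (B.c.π.app (st a)).appTop.hom
      rw [← CommRingCat.hom_comp, ← Scheme.Hom.comp_appTop, B.c.w]
    · obtain ⟨j, y, hy⟩ := exists_appTop_π_eq_of_isAffine_of_isLimit B.D B.c B.hc x
      obtain ⟨a, ⟨f⟩⟩ := hcof j
      refine ⟨a, (B.D.map f).appTop y, ?_⟩
      show (B.c.π.app (st a)).appTop ((B.D.map f).appTop y) = x
      rw [← CommRingCat.comp_apply, ← Scheme.Hom.comp_appTop, B.c.w, hy]
    · obtain ⟨j, f, hj⟩ := exists_appTop_map_eq_zero_of_isAffine_of_isLimit B.D B.c B.hc (st a) x hx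
      obtain ⟨b, ⟨p⟩⟩ := hcof j
      obtain ⟨d, had, hbd⟩ := exists_ge_ge a b
      obtain ⟨e, k, hk⟩ := (Functor.final_iff_of_isFiltered F).mp hF |>.2 (d := F.obj a) (c := d)
        (F.map (homOfLE had)) (f.op ≫ p.op ≫ F.map (homOfLE hbd))
      refine ⟨e, had.trans (leOfHom k), ?_⟩
      show (B.D.map (F.map (homOfLE _)).unop).appTop x = 0
      rw [show homOfLE (had.trans (leOfHom k)) = homOfLE had ≫ k from rfl, F.map_comp, hk]
      simp only [unop_comp, Quiver.Hom.unop_op, Category.assoc, B.D.map_comp, Scheme.Hom.comp_appTop,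
        CommRingCat.comp_apply]
      rw [hj]
      simp
  obtain ⟨a, ha⟩ := exists_good_stage G gg Γ(B.c.pt, ⊤) hc ((key B.c.pt B.s).mp hlim)
  exact ⟨st a, (key _ (B.t (st a))).mpr ha⟩

/-- Universal openness of a morphism of finite presentation descends to a stage. -/
theorem exists_at {I : Type u} [SmallCategory I] [IsCofiltered I] {S X : Scheme.{u}} [CompactSpace S]
    (B : Sys I S) (g : X ⟶ S) [LocallyOfFinitePresentation g] [QuasiCompact g]
    (hlim : AtLim B g @UniversallyOpen) : ∃ i, At B g @UniversallyOpen i := by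
  refine exists_at_of_local B g @UniversallyOpen hlim fun {U} ι _ _ hU => ?_
  let g' := pullback.snd g ι
  let C := pb B ι
  haveI : CompactSpace ↥(pullback g ι) := QuasiCompact.compactSpace_of_compactSpace g'
  let 𝒲 := (pullback g ι).affineCover.finiteSubcover
  have hk : ∀ k : 𝒲.I₀, ∃ i, At C (𝒲.f k ≫ g') @UniversallyOpen i := fun k => by
    haveI : IsAffine (𝒲.X k) := inferInstanceAs (IsAffine (Spec _))
    refine exists_at_affine C (𝒲.f k ≫ g') ?_
    show UniversallyOpen (pullback.snd (𝒲.f k ≫ g') C.s)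
    haveI : UniversallyOpen (pullback.snd g' C.s) := hU
    rw [← pullbackRightPullbackFstIso_inv_snd_snd g' C.s (𝒲.f k)]
    infer_instance
  obtain ⟨i, hi⟩ := exists_stage (fun k i => At C (𝒲.f k ≫ g') @UniversallyOpen i)
    (fun k _ _ a => at_of_hom C _ a) hk
  refine ⟨i, IsZariskiLocalAtSource.of_openCover (𝒲.pullback₁ (pullback.fst g' (C.t i))) fun k => ?_⟩
  let k' : 𝒲.I₀ := k
  have h := hi k'
  show UniversallyOpen (pullback.fst (pullback.fst g' (C.t i)) (𝒲.f k') ≫ pullback.snd g' (C.t i))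
  have e : pullback.fst (pullback.fst g' (C.t i)) (𝒲.f k') ≫ pullback.snd g' (C.t i) =
      ((pullbackSymmetry _ _).hom ≫ (pullbackRightPullbackFstIso g' (C.t i) (𝒲.f k')).hom) ≫
        pullback.snd (𝒲.f k' ≫ g') (C.t i) := by
    simp
  rw [e]
  haveI : UniversallyOpen (pullback.snd (𝒲.f k' ≫ g') (C.t i)) := h
  infer_instance

end RzLib.UnivOpen
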