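import Groth.Agent.VCovLib.Sheaf
import Groth.Agent.VCovLib.Ph
import Groth.Agent.S7292
import Mathlib

/-!
# Limit preserving h sheaves are V sheaves
-/

set_option autoImplicit false
set_option linter.style.haveILetI false

noncomputable section

universe w v u

open AlgebraicGeometry CategoryTheory Limits Opposite

namespace RzLib.VSh

variable {S : Scheme.{u}} (F : (Over S)ᵒᵖ ⥤ Type w)

/-- The family of morphisms of schemes underlying a family over a base. -/
abbrev leftCover {ι : Type v} {X : Over S} (Y : ι → Over S) (f : ∀ i, Y i ⟶ X) : PreZeroHypercover.{v} X.left :=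
  { I₀ := ι, X := fun i => (Y i).left, f := fun i => (f i).left }

theorem map_map' {A B C : Over S} (a : A ⟶ B) (b : B ⟶ C) (x : F.obj (op C)) :
    F.map a.op (F.map b.op x) = F.map (a ≫ b).op x := by
  rw [op_comp, Functor.map_comp]; rfl

theorem map_congr' {A B : Over S} {a b : A ⟶ B} (h : a = b) (x : F.obj (op B)) : F.map a.op x = F.map b.op x := by
  rw [h]

variable {F}

theorem isSheafFor_hFam (h1 : HTop.IsHSheafOver S F) {ι : Type v} {X : Over S} (Y : ι → Over S) (f : ∀ i, Y i ⟶ X)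
    (h : HTop.IsHCover (leftCover Y f)) : (Presieve.ofArrows Y f).IsSheafFor F := by
  refine h1 _ ?_
  rw [Presieve.map_ofArrows]
  exact (HTop.presieve₀_mem_hPrecoverage_iff (leftCover Y f)).mpr h

theorem isHCover_openImm {ι : Type v} {X : Over S} (Y : ι → Over S) (f : ∀ i, Y i ⟶ X)
    (hf : ∀ i, IsOpenImmersion (f i).left) (hcov : ∀ x : X.left, ∃ i y, (f i).left y = x) :
    HTop.IsHCover (leftCover Y f) :=
  ⟨fun i => haveI := hf i; show LocallyOfFinitePresentation (f i).left from inferInstance,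
    VCovLib.isVCover_openCover (Scheme.Cover.mkOfCovers ι (fun i => (Y i).left) (fun i => (f i).left) hcov hf)⟩

theorem ext_open (h1 : HTop.IsHSheafOver S F) {ι : Type v} {X : Over S} (Y : ι → Over S) (f : ∀ i, Y i ⟶ X)
    (hf : ∀ i, IsOpenImmersion (f i).left) (hcov : ∀ x : X.left, ∃ i y, (f i).left y = x)
    (x y : F.obj (op X)) (h : ∀ i, F.map (f i).op x = F.map (f i).op y) : x = y :=
  ((Presieve.isSheafFor_arrows_iff _ _).1 (isSheafFor_hFam h1 Y f (isHCover_openImm Y f hf hcov))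
    _ (Presieve.Arrows.toCompatible F f y).2).unique h (fun _ => rfl)

theorem glue_open (h1 : HTop.IsHSheafOver S F) {ι : Type v} {X : Over S} (Y : ι → Over S) (f : ∀ i, Y i ⟶ X)
    (hf : ∀ i, IsOpenImmersion (f i).left) (hcov : ∀ x : X.left, ∃ i y, (f i).left y = x)
    (x : ∀ i, F.obj (op (Y i))) (hx : Presieve.Arrows.Compatible F f x) :
    ∃ t, ∀ i, F.map (f i).op t = x i :=
  ((Presieve.isSheafFor_arrows_iff _ _).1 (isSheafFor_hFam h1 Y f (isHCover_openImm Y f hf hcov)) x hx).exists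

/-- The map of self fibre products induced by a morphism over the base. -/
def sqMap {A B T : Scheme.{u}} (p : A ⟶ T) (q : B ⟶ T) (a : A ⟶ B) (h : a ≫ q = p) : pullback p p ⟶ pullback q q :=
  pullback.lift (pullback.fst p p ≫ a) (pullback.snd p p ≫ a) (by simp [h, pullback.condition])

@[reassoc (attr := simp)]
theorem sqMap_fst {A B T : Scheme.{u}} (p : A ⟶ T) (q : B ⟶ T) (a : A ⟶ B) (h : a ≫ q = p) :
    sqMap p q a h ≫ pullback.fst q q = pullback.fst p p ≫ a := pullback.lift_fst _ _ _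

@[reassoc (attr := simp)]
theorem sqMap_snd {A B T : Scheme.{u}} (p : A ⟶ T) (q : B ⟶ T) (a : A ⟶ B) (h : a ≫ q = p) :
    sqMap p q a h ≫ pullback.snd q q = pullback.snd p p ≫ a := pullback.lift_snd _ _ _

/-- Limit preservation along cofiltered limits of affine schemes. -/
abbrev LimPres (F : (Over S)ᵒᵖ ⥤ Type w) : Prop :=
  ∀ (I : Type u) [SmallCategory I] [IsCofiltered I] (D : I ⥤ Over S),
    (∀ i, IsAffine (D.obj i).left) → ∀ (c : Cone D), IsLimit ((Over.forget S).mapCone c) →
      Nonempty (IsColimit (F.mapCocone c.op))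

/-- The sheaf property for a morphism of affine schemes lifting valuation rings. -/
theorem isSheafFor_singleton (h1 : HTop.IsHSheafOver S F) (h2 : LimPres F) {U V : Over S} (f : V ⟶ U)
    (hU : IsAffine U.left) (hV : IsAffine V.left)
    (hf : HTop.HasValLift (PreZeroHypercover.singleton.{u} f.left)) :
    (Presieve.ofArrows (fun _ : PUnit.{u + 1} => V) (fun _ => f)).IsSheafFor F := by
  haveI := hU; haveI := hV
  have hst : HTop.IsStandardV (PreZeroHypercover.singleton.{u} f.left) :=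
    ⟨hU, inferInstanceAs (Finite PUnit), fun _ => hV, hf⟩
  obtain ⟨I, _, _, D, c, hc, e, hA, hH⟩ := ((Groth.Agent.S7292.result.{u, u} f.left).out 0 2).1 hst
  haveI := hA
  let D' : I ⥤ Over S := D ⋙ Over.map U.hom
  haveI hA' : ∀ i, IsAffine (D'.obj i).left := hA
  let q : ∀ i, D'.obj i ⟶ U := fun i => Over.homMk (D.obj i).hom rfl
  let π : ∀ i, V ⟶ D'.obj i := fun i => Over.homMk (e.inv.left ≫ (c.π.app i).left) (by
    show (e.inv.left ≫ (c.π.app i).left) ≫ (D.obj i).hom ≫ U.hom = V.hom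
    rw [Category.assoc, Over.w_assoc (c.π.app i)]
    erw [Over.w_assoc e.inv]
    exact Over.w f)
  have hπq : ∀ i, π i ≫ q i = f := fun i => Over.OverMorphism.ext (by
    show (e.inv.left ≫ (c.π.app i).left) ≫ (D.obj i).hom = f.left
    rw [Category.assoc, Over.w (c.π.app i)]
    exact Over.w e.inv)
  have hwπ : ∀ {i j : I} (a : i ⟶ j), π i ≫ D'.map a = π j := fun {i j} a => Over.OverMorphism.ext (by
    show (e.inv.left ≫ (c.π.app i).left) ≫ (D.map a).left = e.inv.left ≫ (c.π.app j).left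
    rw [Category.assoc, ← Over.comp_left, c.w])
  have hwq : ∀ {i j : I} (a : i ⟶ j), D'.map a ≫ q j = q i := fun a => Over.OverMorphism.ext (Over.w (D.map a))
  let c' : Cone D' := { pt := V, π := { app := π, naturality := fun i j a => (Category.id_comp _).trans (hwπ a).symm } }
  have hc' : IsLimit ((Over.forget S).mapCone c') :=
    (IsLimit.ofIsoLimit hc (Cone.ext ((Over.forget _).mapIso e) fun i => by
      show (c.π.app i).left = e.hom.left ≫ e.inv.left ≫ (c.π.app i).left
      rw [← Category.assoc, ← Over.comp_left, e.hom_inv_id, Over.id_left, Category.id_comp]) :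
      IsLimit ((Over.forget S).mapCone c'))
  obtain ⟨hcol⟩ := h2 I D' hA' c' hc'
  have hsh : ∀ i, (Presieve.ofArrows (fun _ : PUnit.{u + 1} => D'.obj i) (fun _ => q i)).IsSheafFor F := fun i =>
    isSheafFor_hFam h1 _ _ (hH i)
  rw [Presieve.isSheafFor_arrows_iff]
  intro x hx
  have sep : ∀ s t : F.obj (op U), F.map f.op s = F.map f.op t → s = t := by
    intro s t hst
    obtain ⟨i⟩ := IsCofiltered.nonempty (C := I)
    have h' : F.map (π i).op (F.map (q i).op s) = F.map (π i).op (F.map (q i).op t) := by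
      rw [map_map', map_map', hπq, hst]
    obtain ⟨j, a, ha⟩ := (Types.FilteredColimit.isColimit_eq_iff' hcol (i := op i) _ _).1 h'
    change F.map (D'.map a.unop).op _ = F.map (D'.map a.unop).op _ at ha
    rw [map_map', map_map', hwq] at ha
    exact (((Presieve.isSheafFor_arrows_iff _ _).1 (hsh j.unop)) _ (Presieve.Arrows.toCompatible F _ t).2).unique
      (fun _ => ha) (fun _ => rfl)
  obtain ⟨i, z, hz⟩ := Types.jointly_surjective_of_isColimit hcol (x ⟨⟩)
  change F.map (π i.unop).op z = x ⟨⟩ at hz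
  -- the system of fibre products
  let P : I ⥤ Over S :=
    { obj := fun j => Over.mk (pullback.fst (D.obj j).hom (D.obj j).hom ≫ (D'.obj j).hom)
      map := fun {j k} a => Over.homMk (sqMap _ _ (D.map a).left (Over.w (D.map a))) (by
        dsimp
        rw [sqMap_fst_assoc]
        congr 1
        exact Over.w (D'.map a))
      map_id := fun j => Over.OverMorphism.ext (pullback.hom_ext (by simp) (by simp))
      map_comp := fun {j k l} a b => Over.OverMorphism.ext (pullback.hom_ext (by simp) (by simp)) }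
  haveI : ∀ j, IsAffine (P.obj j).left := fun j => inferInstanceAs (IsAffine (pullback (D.obj j).hom (D.obj j).hom))
  let cP : Cone P :=
    { pt := Over.mk (pullback.fst f.left f.left ≫ V.hom)
      π :=
      { app := fun j => Over.homMk (sqMap f.left (D.obj j).hom (π j).left (congrArg (·.left) (hπq j))) (by
            dsimp [P]
            rw [sqMap_fst_assoc]
            congr 1
            exact Over.w (π j))
        naturality := fun j k a => Over.OverMorphism.ext (by
          dsimp [P]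
          rw [Category.id_comp]
          have hn : (π j).left ≫ (D.map a).left = (π k).left := congrArg (·.left) (hwπ a)
          refine pullback.hom_ext ?_ ?_ <;>
          simp [Category.assoc, hn]) } }
  have hcP : IsLimit ((Over.forget S).mapCone cP) := by
    let sC : ∀ (s : Cone (P ⋙ Over.forget S)), Cone (D' ⋙ Over.forget S) × Cone (D' ⋙ Over.forget S) := fun s =>
      ({ pt := s.pt, π := { app := fun j => s.π.app j ≫ pullback.fst (D.obj j).hom (D.obj j).hom,
                            naturality := fun j k a => by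
                              dsimp
                              rw [Category.id_comp, ← s.w a]
                              simp [P, D'] } },
       { pt := s.pt, π := { app := fun j => s.π.app j ≫ pullback.snd (D.obj j).hom (D.obj j).hom,
                            naturality := fun j k a => by
                              dsimp
                              rw [Category.id_comp, ← s.w a]
                              simp [P, D'] } })
    have hfU : ∀ j, (π j).left ≫ (D.obj j).hom = f.left := fun j => congrArg (·.left) (hπq j)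
    refine
      { lift := fun s => pullback.lift (hc'.lift (sC s).1) (hc'.lift (sC s).2) (by
          obtain ⟨j⟩ := IsCofiltered.nonempty (C := I)
          rw [← hfU j, ← Category.assoc, ← Category.assoc]
          erw [hc'.fac, hc'.fac]
          simp [sC, pullback.condition])
        fac := fun s j => ?_
        uniq := fun s m hm => ?_ }
    · refine pullback.hom_ext ?_ ?_
      · dsimp [cP, P]
        erw [Category.assoc, sqMap_fst, pullback.lift_fst_assoc]
        exact hc'.fac (sC s).1 j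
        all_goals exact hfU j
      · dsimp [cP, P]
        erw [Category.assoc, sqMap_snd, pullback.lift_snd_assoc]
        exact hc'.fac (sC s).2 j
        all_goals exact hfU j
    · refine pullback.hom_ext ?_ ?_
      · rw [pullback.lift_fst]
        refine hc'.uniq (sC s).1 _ fun j => ?_
        dsimp [sC]
        rw [← hm j]
        simp [cP, P, c']
      · rw [pullback.lift_snd]
        refine hc'.uniq (sC s).2 _ fun j => ?_
        dsimp [sC]
        rw [← hm j]
        simp [cP, P, c']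
  obtain ⟨hcolP⟩ := h2 I P inferInstance cP hcP
  let p₁ : ∀ j, P.obj j ⟶ D'.obj j := fun j => Over.homMk (pullback.fst _ _) rfl
  let p₂ : ∀ j, P.obj j ⟶ D'.obj j := fun j => Over.homMk (pullback.snd _ _) (by
    show pullback.snd _ _ ≫ (D.obj j).hom ≫ U.hom = pullback.fst _ _ ≫ (D.obj j).hom ≫ U.hom
    rw [← pullback.condition_assoc])
  let a₁ : cP.pt ⟶ V := Over.homMk (pullback.fst _ _) rfl
  let a₂ : cP.pt ⟶ V := Over.homMk (pullback.snd _ _) (by
    show pullback.snd _ _ ≫ V.hom = pullback.fst _ _ ≫ V.hom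
    rw [← Over.w f, ← pullback.condition_assoc])
  have e₁ : ∀ j, cP.π.app j ≫ p₁ j = a₁ ≫ π j := fun j => Over.OverMorphism.ext (sqMap_fst _ _ _ (congrArg (·.left) (hπq j)))
  have e₂ : ∀ j, cP.π.app j ≫ p₂ j = a₂ ≫ π j := fun j => Over.OverMorphism.ext (sqMap_snd _ _ _ (congrArg (·.left) (hπq j)))
  have heq : F.map (cP.π.app i.unop).op (F.map (p₁ i.unop).op z) =
      F.map (cP.π.app i.unop).op (F.map (p₂ i.unop).op z) := by
    rw [map_map', map_map', e₁, e₂, ← map_map', ← map_map', hz]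
    exact hx ⟨⟩ ⟨⟩ cP.pt a₁ a₂ (Over.OverMorphism.ext pullback.condition)
  obtain ⟨k, a, ha⟩ := (Types.FilteredColimit.isColimit_eq_iff' hcolP (i := i) _ _).1 heq
  change F.map (P.map a.unop).op _ = F.map (P.map a.unop).op _ at ha
  rw [map_map', map_map'] at ha
  have n₁ : P.map a.unop ≫ p₁ i.unop = p₁ k.unop ≫ D'.map a.unop := Over.OverMorphism.ext (sqMap_fst _ _ _ (Over.w (D.map a.unop)))
  have n₂ : P.map a.unop ≫ p₂ i.unop = p₂ k.unop ≫ D'.map a.unop := Over.OverMorphism.ext (sqMap_snd _ _ _ (Over.w (D.map a.unop)))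
  rw [n₁, n₂, ← map_map', ← map_map'] at ha
  let zk := F.map (D'.map a.unop).op z
  obtain ⟨t, ht, -⟩ := (Presieve.isSheafFor_arrows_iff _ _).1 (hsh k.unop) (fun _ => zk) (fun _ _ W g g' hg => by
    let m : W ⟶ P.obj k.unop := Over.homMk (pullback.lift g.left g'.left (congrArg (·.left) hg)) (by
      dsimp [P]
      rw [pullback.lift_fst_assoc]
      exact Over.w g)
    have m₁ : m ≫ p₁ k.unop = g := Over.OverMorphism.ext (pullback.lift_fst _ _ _)
    have m₂ : m ≫ p₂ k.unop = g' := Over.OverMorphism.ext (pullback.lift_snd _ _ _)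
    rw [← m₁, ← m₂, ← map_map', ← map_map']
    exact congrArg _ ha)
  refine ⟨t, fun _ => ?_, fun t' ht' => sep t' t ?_⟩
  · show F.map f.op t = x ⟨⟩
    rw [← hπq k.unop, ← map_map', ht ⟨⟩, map_map', hwπ, hz]
  · rw [ht' ⟨⟩]
    show x ⟨⟩ = F.map f.op t
    rw [← hπq k.unop, ← map_map', ht ⟨⟩, map_map', hwπ, hz]

/-- A standard V covering of an affine scheme over the base is refined by a single morphism. -/
theorem sep_affine (h1 : HTop.IsHSheafOver S F) (h2 : LimPres F) {ι : Type v} {U : Over S} (Y : ι → Over S)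
    (f : ∀ i, Y i ⟶ U) (hU : IsAffine U.left) (hE : HTop.IsVCover (leftCover Y f)) :
    ∃ (n : ℕ) (G : Fin n → Over S) (g : ∀ j, G j ⟶ U) (σ : Fin n → ι) (l : ∀ j, G j ⟶ Y (σ j))
      (P : Over S) (p : P ⟶ U) (k : ∀ j, G j ⟶ P),
      (∀ j, l j ≫ f (σ j) = g j) ∧ (∀ j, k j ≫ p = g j) ∧ (∀ j, IsOpenImmersion (k j).left) ∧
      (∀ x : P.left, ∃ j y, (k j).left y = x) ∧ HTop.IsVCover (leftCover G g) ∧
      (Presieve.ofArrows (fun _ : PUnit.{u + 1} => P) (fun _ => p)).IsSheafFor F := by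
  haveI := hU
  obtain ⟨G₀, hG₀, hGE⟩ := VCovLib.exists_standard_refining hE (𝟙 U.left)
  haveI := hG₀.finite_index
  obtain ⟨n, ⟨e⟩⟩ := Finite.exists_equiv_fin G₀.I₀
  let G : Fin n → Over S := fun j => Over.mk (G₀.f (e.symm j) ≫ U.hom)
  let g : ∀ j, G j ⟶ U := fun j => Over.homMk (G₀.f (e.symm j)) rfl
  choose σ l hl using fun j => hGE (e.symm j)
  let σ' : Fin n → ι := σ
  let l' : ∀ j, G j ⟶ Y (σ' j) := fun j => Over.homMk (l j) (by
    show l j ≫ (Y (σ' j)).hom = G₀.f (e.symm j) ≫ U.hom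
    rw [← Over.w (f (σ' j))]
    exact (Category.assoc _ _ _).symm.trans (congrArg (· ≫ U.hom) ((hl j).trans (Category.comp_id _))))
  let X₀ : Fin n → Scheme.{u} := fun j => G₀.X (e.symm j)
  haveI : ∀ j, IsAffine (X₀ j) := fun j => hG₀.isAffine_obj _
  let P : Over S := Over.mk (Sigma.desc (fun j => G₀.f (e.symm j)) ≫ U.hom)
  let p : P ⟶ U := Over.homMk (Sigma.desc (fun j => G₀.f (e.symm j))) rfl
  let k : ∀ j, G j ⟶ P := fun j => Over.homMk (Sigma.ι X₀ j) (by
    show Sigma.ι X₀ j ≫ Sigma.desc _ ≫ U.hom = _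
    rw [Sigma.ι_desc_assoc]; rfl)
  have hlift : ∀ (V : CommRingCat.{u}) [IsDomain V] [ValuationRing V] (s : Spec V ⟶ U.left),
      ∃ (W : CommRingCat.{u}) (_ : IsDomain W) (_ : ValuationRing W) (φ : V ⟶ W),
        HTop.IsExtVal V W φ ∧ ∃ (j : Fin n) (m : Spec W ⟶ X₀ j), m ≫ G₀.f (e.symm j) = Spec.map φ ≫ s := by
    intro V _ _ s
    obtain ⟨W, h₁, h₂, φ, hφ, j, hjm⟩ := hG₀.lift V s
    obtain ⟨j, rfl⟩ := e.symm.surjective j
    exact ⟨W, h₁, h₂, φ, hφ, j, hjm⟩
  refine ⟨n, G, g, σ', l', P, p, k, fun j => Over.OverMorphism.ext ((hl j).trans (Category.comp_id _)),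
    fun j => Over.OverMorphism.ext (Sigma.ι_desc _ _), fun j => inferInstanceAs (IsOpenImmersion (Sigma.ι X₀ j)),
    fun x => ?_, ?_, ?_⟩
  · obtain ⟨j, y, hy⟩ := (sigmaOpenCover X₀).exists_eq x
    exact ⟨j, y, hy⟩
  · exact VCovLib.isVCover_of_isStandardV (E := leftCover G g)
      ⟨hU, inferInstanceAs (Finite (Fin n)), fun j => hG₀.isAffine_obj _, fun V _ _ s => hlift V s⟩
  · refine isSheafFor_singleton h1 h2 p hU (inferInstanceAs (IsAffine (∐ X₀))) fun V _ _ s => ?_
    obtain ⟨W, h₁, h₂, φ, hφ, j, m, hm⟩ := hlift V s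
    refine ⟨W, h₁, h₂, φ, hφ, PUnit.unit, m ≫ Sigma.ι X₀ j, ?_⟩
    show (m ≫ Sigma.ι X₀ j) ≫ Sigma.desc _ = _
    rw [Category.assoc, Sigma.ι_desc, hm]

/-- Affine opens covering a scheme over the base. -/
theorem exists_affine_opens (X : Over S) :
    ∃ (ι : Type u) (U : ι → Over S) (j : ∀ i, U i ⟶ X), (∀ i, IsAffine (U i).left) ∧
      (∀ i, IsOpenImmersion (j i).left) ∧ ∀ x : X.left, ∃ i y, (j i).left y = x := by
  refine ⟨X.left.affineOpens, fun O => Over.mk (O.1.ι ≫ X.hom), fun O => Over.homMk O.1.ι rfl, fun O => O.2,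
    fun O => inferInstanceAs (IsOpenImmersion O.1.ι), fun x => ?_⟩
  obtain ⟨O, hO, hx, -⟩ := exists_isAffineOpen_mem_and_subset (x := x) (U := ⊤) trivial
  exact ⟨⟨O, hO⟩, ⟨x, hx⟩, rfl⟩

/-- The base change of a family along a morphism. -/
theorem exists_pullback {ι : Type v} {X W : Over S} (Y : ι → Over S) (f : ∀ i, Y i ⟶ X) (a : W ⟶ X)
    (hE : HTop.IsVCover (leftCover Y f)) :
    ∃ (Y' : ι → Over S) (f' : ∀ i, Y' i ⟶ W) (b : ∀ i, Y' i ⟶ Y i),
      (∀ i, f' i ≫ a = b i ≫ f i) ∧ HTop.IsVCover (leftCover Y' f') := by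
  refine ⟨fun i => Over.mk (pullback.fst a.left (f i).left ≫ W.hom), fun i => Over.homMk (pullback.fst _ _) rfl,
    fun i => Over.homMk (pullback.snd _ _) ?_, fun i => Over.OverMorphism.ext pullback.condition,
    VCovLib.isVCover_pullback₁ a.left hE⟩
  show pullback.snd _ _ ≫ (Y i).hom = pullback.fst _ _ ≫ W.hom
  rw [← Over.w (f i), ← pullback.condition_assoc, Over.w a]

/-- Sections are determined on a V covering. -/
theorem ext_vCover (h1 : HTop.IsHSheafOver S F) (h2 : LimPres F) {ι : Type v} {X : Over S} (Y : ι → Over S)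
    (f : ∀ i, Y i ⟶ X) (hE : HTop.IsVCover (leftCover Y f)) (x y : F.obj (op X))
    (h : ∀ i, F.map (f i).op x = F.map (f i).op y) : x = y := by
  obtain ⟨κ, U, j, hU, hj, hcov⟩ := exists_affine_opens X
  refine ext_open h1 U j hj hcov x y fun c => ?_
  obtain ⟨Y', f', b, hb, hE'⟩ := exists_pullback Y f (j c) hE
  obtain ⟨n, G, g, σ, l, P, p, k, hl, hk, hkoi, hkcov, -, hP⟩ := sep_affine h1 h2 Y' f' (hU c) hE'
  refine (((Presieve.isSheafFor_arrows_iff _ _).1 hP) _ (Presieve.Arrows.toCompatible F _ (F.map (j c).op y)).2).unique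
    (fun _ => ext_open h1 G k hkoi hkcov _ _ fun m => ?_) (fun _ => rfl)
  show F.map (k m).op (F.map p.op _) = F.map (k m).op (F.map p.op _)
  simp only [map_map']
  have e : k m ≫ p ≫ j c = (l m ≫ b (σ m)) ≫ f (σ m) := by
    rw [← Category.assoc, hk, ← hl, Category.assoc, hb, Category.assoc]
  rw [e]
  exact (map_map' F _ _ _).symm.trans ((congrArg _ (h _)).trans (map_map' F _ _ _))

/-- Compatible sections on a V covering glue. -/
theorem glue_vCover (h1 : HTop.IsHSheafOver S F) (h2 : LimPres F) {ι : Type v} {X : Over S} (Y : ι → Over S)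
    (f : ∀ i, Y i ⟶ X) (hE : HTop.IsVCover (leftCover Y f)) (x : ∀ i, F.obj (op (Y i)))
    (hx : Presieve.Arrows.Compatible F f x) : ∃ t, ∀ i, F.map (f i).op t = x i := by
  obtain ⟨κ, U, j, hU, hj, hcov⟩ := exists_affine_opens X
  have hloc : ∀ c, ∃ y : F.obj (op (U c)), ∀ (W : Over S) (a : W ⟶ U c) (i : ι) (b : W ⟶ Y i),
      a ≫ j c = b ≫ f i → F.map a.op y = F.map b.op (x i) := by
    intro c
    obtain ⟨Y', f', b, hb, hE'⟩ := exists_pullback Y f (j c) hE
    obtain ⟨n, G, g, σ, l, P, p, k, hl, hk, hkoi, hkcov, hGV, hP⟩ := sep_affine h1 h2 Y' f' (hU c) hE'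
    let z : ∀ m, F.obj (op (G m)) := fun m => F.map (l m ≫ b (σ m)).op (x (σ m))
    have hz : ∀ (m₁ m₂ : Fin n) (W : Over S) (a₁ : W ⟶ G m₁) (a₂ : W ⟶ G m₂), a₁ ≫ g m₁ = a₂ ≫ g m₂ →
        F.map a₁.op (z m₁) = F.map a₂.op (z m₂) := by
      intro m₁ m₂ W a₁ a₂ h
      show F.map a₁.op (F.map _ _) = F.map a₂.op (F.map _ _)
      rw [map_map', map_map']
      refine hx _ _ W _ _ ?_
      simp only [Category.assoc, ← hb, reassoc_of% hl]
      exact (Category.assoc _ _ _).symm.trans ((congrArg (· ≫ j c) h).trans (Category.assoc _ _ _))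
    obtain ⟨zP, hzP⟩ := glue_open h1 G k hkoi hkcov z fun m₁ m₂ W a₁ a₂ h =>
      hz m₁ m₂ W a₁ a₂ (by rw [← hk, ← hk, ← Category.assoc, h, Category.assoc])
    obtain ⟨y, hy, -⟩ := (Presieve.isSheafFor_arrows_iff _ _).1 hP (fun _ => zP) (fun _ _ W a₁ a₂ h => by
      have hcv : ∀ w : W.left, ∃ (q : Fin n × Fin n), a₁.left w ∈ Set.range (k q.1).left ∧
          a₂.left w ∈ Set.range (k q.2).left := fun w =>
        let ⟨m₁, y₁, h₁⟩ := hkcov (a₁.left w); let ⟨m₂, y₂, h₂⟩ := hkcov (a₂.left w)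
        ⟨(m₁, m₂), ⟨y₁, h₁⟩, y₂, h₂⟩
      let O : ULift.{u} (Fin n × Fin n) → W.left.Opens := fun q =>
        a₁.left ⁻¹ᵁ (haveI := hkoi q.down.1; (k q.down.1).left.opensRange) ⊓
          a₂.left ⁻¹ᵁ (haveI := hkoi q.down.2; (k q.down.2).left.opensRange)
      refine ext_open h1 (fun q => Over.mk ((O q).ι ≫ W.hom)) (fun q => Over.homMk (O q).ι rfl)
        (fun q => inferInstanceAs (IsOpenImmersion (O q).ι)) (fun w => ?_) _ _ fun q => ?_
      · obtain ⟨q, hq⟩ := hcv w
        exact ⟨⟨q⟩, ⟨w, hq⟩, rfl⟩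
      · haveI := hkoi q.down.1
        haveI := hkoi q.down.2
        let o : Over.mk ((O q).ι ≫ W.hom) ⟶ W := Over.homMk (O q).ι rfl
        let b₁ : (O q : Scheme.{u}) ⟶ (G q.down.1).left := IsOpenImmersion.lift (k q.down.1).left ((O q).ι ≫ a₁.left)
          (by rintro _ ⟨w, rfl⟩; exact w.2.1)
        let b₂ : (O q : Scheme.{u}) ⟶ (G q.down.2).left := IsOpenImmersion.lift (k q.down.2).left ((O q).ι ≫ a₂.left)
          (by rintro _ ⟨w, rfl⟩; exact w.2.2)
        let c₁ : Over.mk ((O q).ι ≫ W.hom) ⟶ G q.down.1 := Over.homMk b₁ (by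
          rw [← Over.w (k q.down.1), ← Category.assoc, IsOpenImmersion.lift_fac, Category.assoc, Over.w a₁]; rfl)
        let c₂ : Over.mk ((O q).ι ≫ W.hom) ⟶ G q.down.2 := Over.homMk b₂ (by
          rw [← Over.w (k q.down.2), ← Category.assoc, IsOpenImmersion.lift_fac, Category.assoc, Over.w a₂]; rfl)
        have d₁ : c₁ ≫ k q.down.1 = o ≫ a₁ := Over.OverMorphism.ext (IsOpenImmersion.lift_fac _ _ _)
        have d₂ : c₂ ≫ k q.down.2 = o ≫ a₂ := Over.OverMorphism.ext (IsOpenImmersion.lift_fac _ _ _)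
        show F.map o.op _ = F.map o.op _
        rw [map_map', map_map', ← d₁, ← d₂, ← map_map', ← map_map', hzP, hzP]
        exact hz _ _ _ _ _ (by rw [← hk, ← hk, reassoc_of% d₁, reassoc_of% d₂, h]))
    refine ⟨y, fun W a i bi hab => ?_⟩
    obtain ⟨Y'', f'', b'', hb'', hV''⟩ := exists_pullback G g a hGV
    refine ext_vCover h1 h2 Y'' f'' hV'' _ _ fun m => ?_
    rw [map_map', map_map', hb'', ← hk m, ← Category.assoc, ← map_map', hy ⟨⟩, ← map_map', hzP m]
    show F.map (b'' m).op (F.map _ _) = _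
    rw [map_map']
    refine hx _ _ _ _ _ ?_
    simp only [Category.assoc, ← hb, reassoc_of% hl, ← hab, reassoc_of% hb'']
  choose y hy using hloc
  obtain ⟨t, ht⟩ := glue_open h1 U j hj hcov y fun c₁ c₂ W a₁ a₂ h => by
    obtain ⟨Y', f', b, hb, hE'⟩ := exists_pullback Y f (a₁ ≫ j c₁) hE
    refine ext_vCover h1 h2 Y' f' hE' _ _ fun i => ?_
    rw [map_map', map_map', hy c₁ _ (f' i ≫ a₁) i (b i) (by rw [Category.assoc, hb]),
      hy c₂ _ (f' i ≫ a₂) i (b i) (by rw [Category.assoc, ← h, hb])]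
  refine ⟨t, fun i => ?_⟩
  let O : ∀ c, (Y i).left.Opens := fun c => (f i).left ⁻¹ᵁ (haveI := hj c; (j c).left.opensRange)
  refine ext_open h1 (fun c => Over.mk ((O c).ι ≫ (Y i).hom)) (fun c => Over.homMk (O c).ι rfl)
    (fun c => inferInstanceAs (IsOpenImmersion (O c).ι)) (fun w => ?_) _ _ fun c => ?_
  · obtain ⟨c, v, hv⟩ := hcov ((f i).left w)
    exact ⟨c, ⟨w, v, hv⟩, rfl⟩
  · haveI := hj c
    let o : Over.mk ((O c).ι ≫ (Y i).hom) ⟶ Y i := Over.homMk (O c).ι rfl
    let a : Over.mk ((O c).ι ≫ (Y i).hom) ⟶ U c := Over.homMk (IsOpenImmersion.lift (j c).left ((O c).ι ≫ (f i).left)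
      (by rintro _ ⟨w, rfl⟩; exact w.2)) (by
        rw [← Over.w (j c), ← Category.assoc, IsOpenImmersion.lift_fac, Category.assoc, Over.w (f i)]; rfl)
    have ha : a ≫ j c = o ≫ f i := Over.OverMorphism.ext (IsOpenImmersion.lift_fac _ _ _)
    show F.map o.op _ = F.map o.op _
    rw [map_map', ← ha, ← map_map', ht c, hy c _ a i o ha]

/-- Limit preserving h sheaves are V sheaves. -/
theorem isVSheafOver (h1 : HTop.IsHSheafOver S F) (h2 : LimPres F) : HTop.IsVSheafOver S F := by
  intro X R hR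
  obtain ⟨ι, Y, f, rfl⟩ := R.exists_eq_ofArrows
  rw [Presieve.map_ofArrows] at hR
  have hE : HTop.IsVCover (leftCover Y f) := (HTop.presieve₀_mem_vPrecoverage_iff (leftCover Y f)).mp hR
  rw [Presieve.isSheafFor_arrows_iff]
  intro x hx
  obtain ⟨t, ht⟩ := glue_vCover h1 h2 Y f hE x hx
  exact ⟨t, ht, fun t' ht' => ext_vCover h1 h2 Y f hE t' t fun i => (ht' i).trans (ht i).symm⟩

end RzLib.VSh
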